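import Cfsg.Agent.H6.Oct2
import Cfsg.Agent.H10.Moore
import Cfsg.Prelude.Def_CaseTheorems

/-! An apartment of the octagon of `Oc` gives a subgroup `A₆`: `Oc.not_min`. -/

set_option autoImplicit false
set_option linter.unusedSectionVars false

namespace H6.Oct

open Subgroup

variable {G : Type*} [Group G]

theorem moore_not_solvable {g : ℕ → G} (h : H10.Moore g 4) (n : g 0 ≠ 1) :
    ¬ Group.IsSolvable (closure (g '' Set.Iio 4)) := fun hs => by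
  set K := closure (g '' Set.Iio 4)
  have m : ∀ i : Fin 4, g i ∈ K := fun i => subset_closure ⟨i, i.2, rfl⟩
  have : Nontrivial K := ⟨⟨⟨_, m 0⟩, 1, fun e => n (congrArg Subtype.val e)⟩⟩
  refine (Group.IsSolvable.commutator_lt_top_of_nontrivial K).ne (eq_top_iff.2 ?_)
  let a : Fin 4 → Abelianization K := fun i => Abelianization.of ⟨_, m i⟩
  have r1 : ∀ (i : Fin 4) (k : ℕ), g i ^ k = 1 → a i ^ k = 1 := fun i k e => by
    rw [← map_pow, ← map_one Abelianization.of]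
    exact congrArg _ (Subtype.ext e)
  have r2 : ∀ (i j : Fin 4) (k : ℕ), (g i * g j) ^ k = 1 → a i ^ k * a j ^ k = 1 := fun i j k e => by
    rw [← mul_pow, ← map_mul, ← map_pow, ← map_one Abelianization.of]
    exact congrArg _ (Subtype.ext e)
  have r3 : ∀ x : Abelianization K, x ^ 2 = 1 → x ^ 3 = 1 → x = 1 := fun x e e' => by rwa [pow_succ, e, one_mul] at e'
  have a0 := r1 0 3 h.cube
  have a1 := r3 _ (r1 1 2 (h.sq 1 (by omega) (by omega))) (by simpa [a0] using r2 0 1 3 (h.braid 0 (by omega)))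
  have a2 := r3 _ (r1 2 2 (h.sq 2 (by omega) (by omega))) (by simpa [a1] using r2 1 2 3 (h.braid 1 (by omega)))
  have a3 := r3 _ (r1 3 2 (h.sq 3 (by omega) (by omega))) (by simpa [a2] using r2 2 3 3 (h.braid 2 (by omega)))
  replace a0 := r3 _ (by simpa [a2] using r2 0 2 2 (h.comm 0 2 (by omega) (by omega))) a0
  have : ∀ i, a i = 1 := fun i => by fin_cases i; exacts [a0, a1, a2, a3]
  rintro ⟨x, hx⟩ -
  rw [← Abelianization.ker_of, MonoidHom.mem_ker]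
  induction hx using closure_induction with
  | mem x hx => obtain ⟨i, hi, rfl⟩ := hx; exact this ⟨i, hi⟩
  | one => exact map_one _
  | mul x y hx hy ix iy => exact (map_mul _ (⟨x, hx⟩ : K) ⟨y, hy⟩).trans (by rw [ix, iy, one_mul])
  | inv x hx ix => exact (map_inv _ (⟨x, hx⟩ : K)).trans (by rw [ix, inv_one])

/-- Coxeter generators of `S₆` -/
theorem cox {a b c d e : G} (ha : a * a = 1) (hb : b * b = 1) (hc : c * c = 1) (hd : d * d = 1) (he : e * e = 1)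
    (ab : (a * b) ^ 3 = 1) (bc : (b * c) ^ 3 = 1) (cd : (c * d) ^ 3 = 1) (de : (d * e) ^ 3 = 1)
    (ac : Commute a c) (ad : Commute a d) (ae : Commute a e) (bd : Commute b d) (be : Commute b e) (ce : Commute c e)
    (n : a * b ≠ 1) : ∃ K : Subgroup G, Nat.card K ≤ 360 ∧ ¬ Group.IsSolvable K := by
  have s : ∀ x, Commute a x → x * x = 1 → (a * x) ^ 2 = 1 := fun x h e => by rw [h.mul_pow, sq, sq, ha, e, one_mul]
  have p : ∀ x y, Commute a x → a * x * (a * y) = x * y := fun x y h => by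
    rw [h.eq, mul_assoc, ← mul_assoc a, ha, one_mul]
  have p' : ∀ y, Commute a y → a * b * (a * y) = cn a (b * y) := fun y h => by
    rw [cn, h.eq, inv_eq_of_mul_eq_one_right ha]; group
  have s' : ∀ x y : G, Commute x y → x * x = 1 → y * y = 1 → (x * y) ^ 2 = 1 := fun x y h e e' => by
    rw [h.mul_pow, sq, sq, e, e', one_mul]
  have h : H10.Moore (fun i => a * [b, c, d, e].getD i 1) 4 := by
    refine ⟨ab, fun i h h' => ?_, fun i h => ?_, fun i j h h' => ?_⟩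
    · interval_cases i
      exacts [s c ac hc, s d ad hd, s e ae he]
    · have : i < 3 := by omega
      interval_cases i
      · exact (congrArg (· ^ 3) (p' c ac)).trans (by simp only [cn_pow, bc, cn_one'])
      · exact (congrArg (· ^ 3) (p c d ac)).trans cd
      · exact (congrArg (· ^ 3) (p d e ad)).trans de
    · have : i < 2 := by omega
      interval_cases i <;> interval_cases j
      · exact (congrArg (· ^ 2) (p' d ad)).trans (by simp only [cn_pow, s' b d bd hb hd, cn_one'])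
      · exact (congrArg (· ^ 2) (p' e ae)).trans (by simp only [cn_pow, s' b e be hb he, cn_one'])
      · exact (congrArg (· ^ 2) (p c e ac)).trans (s' c e ce hc he)
  exact ⟨_, h.card_le_360.2, moore_not_solvable h n⟩

namespace OD

/-- the element of `I(l) \ l`, `l = ⟨c, d⟩`, fixing all lines through `b` and `e` -/
def Tt (o : OD G) (b c d e t : G) : Prop := o.Tl c d t ∧ o.Qa b t ∧ o.Qa e t

/-- an octagon -/
structure Og (o : OD G) (p0 p1 p2 p3 p4 p5 p6 p7 : G) : Prop where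
  T0 : o.T p0 p1 p2
  T1 : o.T p1 p2 p3
  T2 : o.T p2 p3 p4
  T3 : o.T p3 p4 p5
  T4 : o.T p4 p5 p6
  T5 : o.T p5 p6 p7
  T6 : o.T p6 p7 p0
  T7 : o.T p7 p0 p1

/-- an octagon with its root elements -/
structure Ap (o : OD G) (p0 p1 p2 p3 p4 p5 p6 p7 t0 t1 t2 t3 t4 t5 t6 t7 : G) : Prop extends
    Og o p0 p1 p2 p3 p4 p5 p6 p7 where
  r0 : o.Tt p7 p0 p1 p2 t0
  r1 : o.Tt p0 p1 p2 p3 t1
  r2 : o.Tt p1 p2 p3 p4 t2
  r3 : o.Tt p2 p3 p4 p5 t3
  r4 : o.Tt p3 p4 p5 p6 t4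
  r5 : o.Tt p4 p5 p6 p7 t5
  r6 : o.Tt p5 p6 p7 p0 t6
  r7 : o.Tt p6 p7 p0 p1 t7

variable {o : OD G} {a b c d e f a' b' c' d' g p q r s t t' x : G}
  {p0 p1 p2 p3 p4 p5 p6 p7 t0 t1 t2 t3 t4 t5 t6 t7 : G} [Finite G]

theorem Tt.symm (h : o.Tt b c d e t) : o.Tt e d c b t := ⟨h.1.symm, h.2.2, h.2.1⟩
theorem Tt.cn (h : o.Tt b c d e t) (g : G) : o.Tt (cn g b) (cn g c) (cn g d) (cn g e) (cn g t) :=
  ⟨h.1.cn g, h.2.1.cn g, h.2.2.cn g⟩
theorem Tt.sq (h : o.Tt b c d e t) : t * t = 1 := h.1.1.sq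

theorem T.step (h : o.T b c d) (k : o.Tl c d t) : o.Qa b t ∨ o.Qa b (t * d) :=
  (h.1.cyc (Fl_of (k.1.fix h.1.symm) k.1.fixa) h.fl k.1.sq h.2.1.P'.sq).imp_right (·.resolve_left h.far)

theorem exTt (h : o.T b c d) (h' : o.T c d e) : ∃ t, o.Tt b c d e t := by
  obtain ⟨w, hw, q⟩ : ∃ w, o.Tl c d w ∧ o.Qa e w := by
    obtain ⟨w, hw⟩ := h'.1.exTl
    exact (h'.symm.step hw.symm).elim (fun q => ⟨_, hw, q⟩) fun q => ⟨_, hw.mul (La ..), q⟩
  exact (h.step hw).elim (fun k => ⟨_, hw, k, q⟩) fun k => ⟨_, hw.mul (Lb ..), k, q.mul h'.2.1.symm.Qa⟩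

theorem T.LQ (h : o.T b c d) (l : L c d x) (q : o.Qa b x) : x = 1 ∨ x = c := by
  rcases l with l | l | rfl | rfl
  exacts [.inl l, .inr l, (h.far q).elim, (h.turn'.far q).elim]

theorem Tt.uniq (k : o.Tt b c d e t) (k' : o.Tt b c d e t') (h : o.T b c d) (h' : o.T c d e) : t = t' := by
  have l := k.1.two k'.1
  have : t * t' = 1 := (h.LQ l (k.2.1.mul k'.2.1)).elim id fun e1 =>
    (h'.symm.LQ (h'.1.L_symm.2 l) (k.2.2.mul k'.2.2)).elim id fun e2 => (h'.1.ne (e1.symm.trans e2)).elim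
  exact mul_right_cancel (this.trans k'.sq.symm)

theorem Tt.move (k : o.Tt b c d e t) (h : o.T c d e) (h' : o.T d e f) : Oct.cn t f = e * f := by
  refine (k.2.2.2 f h'.2.1).2.resolve_left fun e1 => ?_
  obtain ⟨r, l, hr, n⟩ := R2 k.1 h'.2.1.P' e1
  obtain rfl := W.nearest (n := 2) ⟨e, h, f, h', h'.2.1, rfl⟩ (by omega) l hr ⟨_, n.symm, _, .inl rfl, rfl⟩
  rcases n with rfl | n
  exacts [h'.2.2 (La ..), g3 h' n]

theorem map3 (h1 : o.T a b c) (h2 : o.T b c d) (k1 : o.T a' b' c') (k2 : o.T b' c' d') (e1 : cn g a = a')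
    (e2 : cn g d = d') : cn g b = b' := by
  subst e1 e2
  exact U1 (n := 2) (m := 2) ⟨_, h1.cn g, _, h2.cn g, (h2.cn g).2.1, rfl⟩ ⟨_, k1, _, k2, k2.2.1, rfl⟩ (by omega)

theorem C.swp (h : o.C a b) (e1 : Oct.cn s a = a) (e2 : Oct.cn s b = a * b) (e3 : Oct.cn t b = b)
    (e4 : Oct.cn t a = b * a) : Oct.cn (s * t * s) a = b ∧ Oct.cn (s * t * s) b = a := by
  constructor
  · rw [← cn_cn, ← cn_cn, e1, e4, ← cn_mul, e1, e2, h.e3]
  · rw [← cn_cn, ← cn_cn, e2, ← cn_mul, e3, e4, h.symm.e3, e1]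

theorem half (h : o.T b c d) (k : o.Tl c d t) (q : o.Qa b t) (f : Fl c d s) (e : cn s b = b) :
    cn s t * t = 1 ∨ cn s t * t = c := by
  have l := h.2.1.Fl_L.1 f
  have c' := h.2.1.cn s
  have := h.2.1.L_rev c' (l.1.symm ▸ La ..) l.2
  exact h.LQ (((k.cn s).chg h.2.1 this.1 this.2).two k) (Qa.mul (e ▸ q.cn s) q)

theorem comm2 (k : o.Tt a b c d s) (k' : o.Tt c d e f t) (h : o.T b c d) (h' : o.T c d e) : Commute s t := by
  have e1 := half h' k'.1 k'.2.1 (k.2.2.2 e h'.2.1) k.1.1.symm.fixa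
  have e2 := half h.symm k.1.symm k.2.2 (k'.2.1.2 b h.1.symm) k'.1.1.fixa
  have e0 : cn s t * t * (cn t s * s) = 1 := by
    simp only [Oct.cn, inv_eq_of_mul_eq_one_right k.sq,
      inv_eq_of_mul_eq_one_right k'.sq]
    calc s * t * s * t * (t * s * t * s) = s * t * s * (t * t) * s * t * s := by group
      _ = s * t * (s * s) * t * s := by rw [k'.sq]; group
      _ = s * (t * t) * s := by rw [k.sq]; group
      _ = 1 := by rw [k'.sq, mul_one, k.sq]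
  have : cn s t * t = 1 := e1.elim id fun e1 => by
    rcases e2 with e2 | e2 <;> rw [e1, e2] at e0
    · exact (h'.1.P'.ne1 (by simpa using e0)).elim
    · exact (h'.1.symm.turn.P'.ne1 e0).elim
  exact cn_eq_iff.1 (mul_right_cancel (this.trans k'.sq.symm))

theorem thr (k : o.Tl p q d) (h : o.C a b) (f : cn d a = a) (x3 : x ^ 3 = 1) (x1 : x ≠ 1) (xd : cn x d = d)
    (xa : cn x a = b) (xb : L a b (cn x b)) : o.Tl a b d := by
  have nm : ∀ r, L p q r → L p q (cn x r) := fun r l => k.1.C.L_of (k.norm xd).1 (k.norm xd).2 ((L_cn ..).2 l)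
  suffices l : L p q a from k.chg h l (xa ▸ nm a l)
  by_contra n
  obtain ⟨r, l, hr, rfl | ar⟩ := R2 k h.P f
  · exact n l
  have c := k.1.C.C_of_L l (nm r l) hr.ne1 (hr.cn x).ne1 fun e => x1 (hr.no3 x3 e.symm)
  have n' : ¬ L r (cn x r) a := fun e => n (k.1.C.L_of l (nm r l) e)
  by_cases lr : L a b r
  · exact n' (h.L_rev c lr (h.L_of (xa ▸ Lb ..) xb ((L_cn ..).2 lr))).1
  have t : o.T b a r := ⟨h.symm, ar, fun e => lr (h.L_symm.1 e)⟩
  exact g4 t ⟨ar, c, fun e => n' (ar.L_rev c (Lb ..) e).1⟩ ⟨c, xa ▸ (ar.cn x).symm, fun e =>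
    g3 t (c.C_of_L (La ..) e hr.ne1 h.P'.ne1 fun e => lr (e ▸ Lb ..))⟩

theorem exOg (o : OD G) : ∃ p0 p1 p2 p3 p4 p5 p6 p7, o.Og p0 p1 p2 p3 p4 p5 p6 p7 := by
  classical
  have := Fintype.ofFinite G
  have nx : ∀ a b, o.C a b → ∃ c, o.T a b c := fun a b h => by
    obtain ⟨c, hc⟩ := Finset.card_pos.1 (card_T h ▸ (by omega : 0 < 8))
    exact ⟨c, (Finset.mem_filter.1 hc).2⟩
  have h := o.C0
  generalize o.z = p0 at h
  generalize o.y = p1 at h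
  obtain ⟨p2, t0⟩ := nx _ _ h
  obtain ⟨p3, t1⟩ := nx _ _ t0.2.1
  obtain ⟨p4, t2⟩ := nx _ _ t1.2.1
  obtain ⟨q, tq⟩ := nx _ _ h.symm
  have w : o.W 3 p0 p1 p4 := ⟨_, t0, _, t1, _, t2, t2.2.1, rfl⟩
  obtain ⟨m, hm, r, p7, lr, l7, w'⟩ := radius' t2.2.1.P' tq.2.1
  by_cases e : p0 = p7
  · subst e
    cases m with
    | zero => exact (girth (w'.2 ▸ w) (by omega)).elim
    | succ m =>
      obtain ⟨c, -, w'⟩ := w'
      obtain rfl := U1 w w' (by omega)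
      have := U0 w w' (by omega)
      omega
  have c7 := tq.2.1.C_of_L (La ..) l7 h.P.ne1 w'.C.P'.ne1 e
  have t7 : o.T p7 p0 p1 := tq.symm.chg c7.symm (tq.2.1.L_symm.2 l7)
  replace w' := w'.chg c7 ((tq.2.1.L_iff w'.C lr l7).2 (La ..))
  obtain ⟨u, hu⟩ := w'.join w t7
  obtain rfl : m = 3 := by
    by_contra
    exact girth hu (by omega)
  obtain ⟨p6, t6, p5, t5, _, t4, -, rfl⟩ := w'
  refine ⟨p0, p1, p2, p3, p4, p5, p6, p7, t0, t1, t2, ⟨t2.2.1, t4.2.1.symm, fun l => ?_⟩, t4.symm, t5.symm, t6.symm, t7⟩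
  have v : o.W 2 p0 p1 p3 := ⟨_, t0, _, t1, t1.2.1, rfl⟩
  refine t7.2.2 (.inr (.inl ?_))
  by_cases e : p3 = p5
  · exact U1 (m := 2) v ⟨_, t6, _, t5, t5.2.1, e⟩ (by omega)
  · have c := t2.2.1.C_of_L (La ..) l t1.2.1.P'.ne1 t4.2.1.P.ne1 e
    have t := (t4.symm.chg c (t2.2.1.L_rev t4.2.1.symm (Lb ..) l).1).symm
    exact U1 (m := 3) v ⟨_, t6, _, t5, _, t, t.2.1, rfl⟩ (by omega)

namespace Og

variable (h : o.Og p0 p1 p2 p3 p4 p5 p6 p7)
include h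

theorem shift : o.Og p1 p2 p3 p4 p5 p6 p7 p0 := ⟨h.T1, h.T2, h.T3, h.T4, h.T5, h.T6, h.T7, h.T0⟩

theorem inv (e : x * x = 1) (f0 : cn x p0 = p0) (f1 : cn x p1 = p1) (f4 : cn x p4 = p4) (f5 : cn x p5 = p5) :
    x = 1 := by
  by_contra n
  have c := h.T0.1
  have w : o.W 3 p0 p1 p4 := ⟨_, h.T0, _, h.T1, _, h.T2, h.T2.2.1, rfl⟩
  have w' : o.W 3 p1 p0 p5 := ⟨_, h.T7.symm, _, h.T6.symm, _, h.T5.symm, h.T5.1.symm, rfl⟩
  rcases o.inv_cases e n with hx | ⟨p, q, hx⟩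
  · have d : ∀ a, o.P a → cn x a = a → o.D 2 a x := fun a ha f =>
      let ⟨r, n1, n2⟩ := R1 hx ha f; ⟨r, n1, x, n2, rfl⟩
    have aux : ∀ m < 2, ∀ b c, o.W m b c x → o.N c x := fun m hm b c w => by
      interval_cases m
      exacts [.inl w.2, let ⟨_, t, _, e⟩ := w; .inr (e ▸ t.2.1)]
    obtain ⟨r, l, hr, n⟩ : ∃ r, L p0 p1 r ∧ o.P r ∧ o.N r x := by
      rcases c.near (d _ c.P' f1) with ⟨m, hm, v⟩ | ⟨m, hm, r, l, v⟩
      · rcases c.symm.near (d _ c.P f0) with ⟨m', hm', v'⟩ | ⟨m, hm, r, l, v⟩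
        · exact (U2 v v' (by omega)).elim
        · exact ⟨r, c.L_symm.1 l, v.C.P', aux m hm _ _ v⟩
      · exact ⟨r, l, v.C.P', aux m hm _ _ v⟩
    obtain ⟨s, n1, n2⟩ := R1 hx w.P f4
    obtain ⟨s', n1', n2'⟩ := R1 hx w'.P f5
    exact c.ne ((w'.nearest le_rfl (c.L_symm.2 l) hr (D3 n n2'.symm n1'.symm)).symm.trans
      (w.nearest le_rfl l hr (D3 n n2.symm n1.symm)))
  · obtain ⟨r, l, hr, n1⟩ := R2 hx c.P f0
    obtain ⟨r', l', hr', n2⟩ := R2 hx w.P f4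
    exact c.ne (w.nearest le_rfl (La ..) c.P (D3 n1 (hx.1.C.N_of_L l l' hr hr') n2.symm))

theorem triv (f0 : cn x p0 = p0) (f1 : cn x p1 = p1) (f4 : cn x p4 = p4) (f5 : cn x p5 = p5) : x = 1 := by
  obtain ⟨k, e⟩ := h.T0.1.two (Fl_of f0 f1)
  induction k generalizing x with
  | zero => simpa using e
  | succ k ih =>
    exact h.inv (ih (cn_fix_mul f0 f0) (cn_fix_mul f1 f1) (cn_fix_mul f4 f4) (cn_fix_mul f5 f5)
      (by rwa [← pow_two, ← pow_mul, ← pow_succ'])) f0 f1 f4 f5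

theorem exAp : ∃ t0 t1 t2 t3 t4 t5 t6 t7, o.Ap p0 p1 p2 p3 p4 p5 p6 p7 t0 t1 t2 t3 t4 t5 t6 t7 :=
  ⟨_, _, _, _, _, _, _, _, h, (exTt h.T7 h.T0).choose_spec, (exTt h.T0 h.T1).choose_spec,
    (exTt h.T1 h.T2).choose_spec, (exTt h.T2 h.T3).choose_spec, (exTt h.T3 h.T4).choose_spec,
    (exTt h.T4 h.T5).choose_spec, (exTt h.T5 h.T6).choose_spec, (exTt h.T6 h.T7).choose_spec⟩

end Og

namespace Ap

variable (h : o.Ap p0 p1 p2 p3 p4 p5 p6 p7 t0 t1 t2 t3 t4 t5 t6 t7)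
include h

theorem shift : o.Ap p1 p2 p3 p4 p5 p6 p7 p0 t1 t2 t3 t4 t5 t6 t7 t0 :=
  ⟨h.toOg.shift, h.r1, h.r2, h.r3, h.r4, h.r5, h.r6, h.r7, h.r0⟩
theorem back : o.Ap p7 p0 p1 p2 p3 p4 p5 p6 t7 t0 t1 t2 t3 t4 t5 t6 := h.shift.shift.shift.shift.shift.shift.shift
theorem refl : o.Ap p3 p2 p1 p0 p7 p6 p5 p4 t2 t1 t0 t7 t6 t5 t4 t3 :=
  ⟨⟨h.T1.symm, h.T0.symm, h.T7.symm, h.T6.symm, h.T5.symm, h.T4.symm, h.T3.symm, h.T2.symm⟩,
    h.r2.symm, h.r1.symm, h.r0.symm, h.r7.symm, h.r6.symm, h.r5.symm, h.r4.symm, h.r3.symm⟩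

theorem m3 : cn t0 p3 = p2 * p3 := h.r0.move h.T0 h.T1
theorem m6 : cn t0 p6 = p7 * p6 := h.r0.symm.move h.T7.symm h.T6.symm
theorem c1 : Commute t0 t1 := cn_eq_iff.1 (h.r0.1.1.symm.comm h.r1.1.1)
theorem c2 : Commute t0 t2 := comm2 h.r0 h.r2 h.T0 h.T1

theorem rho : (cn (t0 * t4 * t0) p2 = p3 ∧ cn (t0 * t4 * t0) p3 = p2) ∧
    cn (t0 * t4 * t0) p7 = p6 ∧ cn (t0 * t4 * t0) p6 = p7 :=
  ⟨h.T2.1.swp h.r0.2.2.1 h.m3 h.r4.2.1.1 h.shift.shift.shift.shift.m6,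
    h.T6.1.symm.swp h.r0.2.1.1 h.m6 h.r4.2.2.1 h.shift.shift.shift.shift.m3⟩

theorem braid : (t0 * t4) ^ 3 = 1 := by
  have e : (t0 * t4) ^ 3 = t0 * t4 * t0 * (t4 * t0 * t4) := by simp only [pow_succ]; group
  obtain ⟨⟨a1, a2⟩, a3, a4⟩ := h.rho
  obtain ⟨⟨b1, b2⟩, b3, b4⟩ := h.shift.shift.shift.shift.rho
  refine h.toOg.shift.shift.triv ?_ ?_ ?_ ?_ <;> rw [e, ← cn_cn]
  exacts [by rw [b4, a2], by rw [b3, a1], by rw [b1, a3], by rw [b2, a4]]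

theorem e14 : cn t4 t1 = cn t0 t3 := by
  obtain ⟨⟨a1, a2⟩, a3, a4⟩ := h.rho
  have k := h.r1.cn (t0 * t4 * t0)
  rw [a1, a2, map3 h.T7 h.T0 h.T4.symm h.T3.symm a3 a1,
    map3 h.T0.symm h.T7.symm h.T3 h.T4 a1 a3] at k
  rw [← k.symm.uniq h.r3 h.T2 h.T3, ← cn_cn, ← cn_cn, cn_cn_sq h.r0.sq, cn_eq_iff.2 h.c1]

theorem ne : t0 * t4 ≠ 1 := fun e => by
  have := h.rho.1.1
  rw [e, one_mul, h.r0.2.2.1] at this
  exact h.T2.1.ne this

theorem dd : t1 * t3 * cn t0 t3 = 1 ∨ t1 * t3 * cn t0 t3 = t2 := by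
  have c13 := h.shift.c2
  have c1 : Commute t1 (cn t0 t3) := by
    have := congrArg (cn t0) c13.eq
    rwa [← cn_mul, ← cn_mul, cn_eq_iff.2 h.c1] at this
  have c43 : cn t4 t3 = t3 := cn_eq_iff.2 h.shift.shift.shift.c1.symm
  have c3 : Commute t3 (cn t0 t3) := by
    have := congrArg (cn t4) c13.symm.eq
    rwa [← cn_mul, ← cn_mul, c43, h.e14] at this
  have q' : cn t0 t3 * cn t0 t3 = 1 := by rw [cn_mul, h.r3.sq, cn_one']
  have d0 : cn t0 (t1 * t3 * cn t0 t3) = t1 * t3 * cn t0 t3 := by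
    rw [← cn_mul, ← cn_mul, cn_eq_iff.2 h.c1, cn_cn_sq h.r0.sq, mul_assoc, ← c3.eq, mul_assoc]
  have d4 : cn t4 (t1 * t3 * cn t0 t3) = t1 * t3 * cn t0 t3 := by
    rw [← cn_mul, ← cn_mul, c43, ← h.e14, cn_cn_sq h.r4.sq, h.e14, ← c3.eq, ← (c13.mul_right c1).eq, mul_assoc]
  have q : t1 * t3 * cn t0 t3 * (t1 * t3 * cn t0 t3) = 1 := by
    rw [← sq, (c1.mul_left c3).mul_pow, c13.mul_pow, sq, sq, sq, h.r1.sq, h.r3.sq, q', one_mul, one_mul]
  have f2 : cn (t1 * t3 * cn t0 t3) p2 = p2 := cn_fix_mul (cn_fix_mul h.r1.1.1.symm.fixa h.r3.2.1.1) (by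
    rw [← h.r0.2.2.1, cn_cn_cn, h.r3.2.1.1])
  generalize t1 * t3 * cn t0 t3 = d at *
  refine (em _).imp_right fun n => ?_
  have xd := cn_fix_mul d0 d4
  rcases o.inv_cases q n with hd | ⟨p, q, hd⟩
  · exact (h.ne (hd.no3 h.braid xd)).elim
  have c := h.T2.1
  have k := thr hd c f2 h.braid h.ne xd
    (by rw [← cn_cn, h.shift.shift.shift.shift.m6, ← cn_mul, h.m3, h.r0.2.2.1, c.e3])
    (by rw [← cn_cn, h.r4.2.1.1, h.m3]; exact Lab ..)
  have aux : ∀ {a b c d' t : G}, o.T a b c → o.T b c d' → o.Tl c d' d → o.Tl a b t → cn t d = d → o.Qa b d :=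
    fun t1 t2 k k' e => t2.1.frob t1.1.symm (Fl_of (k.1.fix t2.1.symm) k.1.fixa)
      (t1.1.symm.Fl_L.2 ⟨k.1.fix t2.1.symm, t1.1.L_symm.2 (k'.norm (cn_comm e)).1⟩)
      fun l => t1.symm.2.2 (t2.1.L_symm.2 l)
  exact Tt.uniq ⟨k, aux h.T0 h.T1 k h.r0.1 d0, aux h.T3.symm h.T2.symm k.symm h.r4.1.symm d4⟩ h.r2 h.T1 h.T2

theorem de : t1 * t3 * cn t0 t3 = t2 := by
  refine h.dd.resolve_left fun e => ?_
  have e' := h.back.dd
  have s0 := h.r0.sq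
  have s3 := h.r3.sq
  rw [← h.back.e14, h.c2.eq] at e'
  simp only [Oct.cn, inv_eq_of_mul_eq_one_right s0, inv_eq_of_mul_eq_one_right s3] at e e'
  have : t2 * t0 * (t3 * t0 * t3) = t2 * t1 := by
    rw [eq_inv_of_mul_eq_one_left ((mul_assoc t1 _ _).symm.trans e)]
    simp only [mul_inv_rev, inv_eq_of_mul_eq_one_right s0, inv_eq_of_mul_eq_one_right s3, mul_assoc]
  rw [this] at e'
  rcases e' with e' | e'
  · obtain rfl := mul_right_cancel (e'.trans h.r1.sq.symm)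
    exact h.T1.2.2 (h.r1.1.line h.r2.1.1).2
  · exact h.r2.1.2 (.inl (mul_eq_right.1 e'))

theorem br : (t4 * (t0 * t1 * t2)) ^ 3 = 1 := by
  have c4 := h.shift.shift.c2.symm
  have c13 := h.shift.c2
  have t3' : (t4 * t0) ^ 3 = 1 := h.shift.shift.shift.shift.braid
  have e : (t4 * t0 * t1) ^ 3 = cn (t4 * t0) t1 * cn (t4 * t0) (cn (t4 * t0) t1) * (t4 * t0) ^ 3 * t1 := by
    simp only [pow_succ, Oct.cn]; group
  have e1 : cn (t4 * t0) t1 = cn t0 t3 := by rw [← cn_cn, cn_eq_iff.2 h.c1, h.e14]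
  rw [t3', e1, ← cn_cn, cn_cn_sq h.r0.sq, cn_eq_iff.2 h.shift.shift.shift.c1.symm, mul_one] at e
  have e2 : cn t0 t3 * t3 * t1 = t2 := by
    rw [← inv_eq_of_mul_eq_one_right h.r2.sq, ← h.de]
    simp only [Oct.cn, mul_inv_rev, inv_inv, inv_eq_of_mul_eq_one_right h.r1.sq, inv_eq_of_mul_eq_one_right h.r3.sq,
      mul_assoc]
  rw [← mul_assoc, ← mul_assoc, ((c4.mul_left h.c2).mul_left h.shift.c1).mul_pow, e, e2, pow_succ, sq, h.r2.sq,
    one_mul, h.r2.sq]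

theorem sub : ∃ K : Subgroup G, Nat.card K ≤ 360 ∧ ¬ Group.IsSolvable K := by
  have c12 := h.shift.c1
  have e : t2 * t1 * t0 = t0 * t1 * t2 := by rw [← c12.eq, ← (h.c1.mul_right h.c2).eq, mul_assoc]
  have b := h.refl.br
  rw [e] at b
  refine cox h.r0.sq h.r4.sq (c := t0 * t1 * t2) ?_ h.r6.sq h.r2.sq h.braid h.br ?_
    h.back.back.braid (((Commute.refl _).mul_right h.c1).mul_right h.c2) h.back.back.c2.symm h.c2
    h.shift.shift.shift.shift.c2 h.shift.shift.c2.symm ((h.c2.mul_left c12).mul_left (Commute.refl _)) h.ne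
  · rw [← sq, (h.c2.mul_left c12).mul_pow, h.c1.mul_pow, sq, sq, sq, h.r0.sq, h.r1.sq, h.r2.sq, one_mul, one_mul]
  · have := congrArg (cn t6⁻¹) b
    rw [← cn_pow, cn_one'] at this
    rw [← this, Oct.cn]
    group

end Ap

end OD

end H6.Oct

/-- a group of type Tits has a nonsolvable subgroup of order at most `360` -/
theorem H6.Oc.exists_sub {G : Type*} [Group G] [Finite G] {z y : G} {S Q V I : Subgroup G}
    (h : H6.Oc z y S Q V I) : ∃ K : Subgroup G, Nat.card K ≤ 360 ∧ ¬ Group.IsSolvable K := by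
  obtain ⟨_, _, _, _, _, _, _, _, h⟩ := H6.Oct.OD.exOg ⟨z, y, S, Q, V, I, h⟩
  obtain ⟨_, _, _, _, _, _, _, _, h⟩ := h.exAp
  exact h.sub

/-- a group of type Tits is not minimal simple -/
theorem H6.Oc.not_min {G : Type*} [Group G] [Finite G] {z y : G} {S Q V I : Subgroup G}
    (h : H6.Oc z y S Q V I) : ¬ Cfsg.IsMinimalSimple G := fun ⟨_, _, k⟩ => by
  obtain ⟨K, c, n⟩ := h.exists_sub
  refine n (k K ?_)
  rintro rfl
  rw [Subgroup.card_top, h.card'] at c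
  omega
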