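import Cfsg.Agent.H6.FDT
/-! Common facts on the frame `Fr S V` with `V` a `2`-group (`V* = Ω₁Z(R)`), counting lemmas, the case `|V| = 8`. -/
set_option autoImplicit false
set_option linter.unusedSectionVars false
namespace H6.FD
open Cfsg Subgroup H26 H4 H118
open scoped Pointwise commutatorElement

variable {G : Type*} [Group G] [Finite G] {S V F J U D K : Subgroup G} {x b : G}

omit [Finite G] in
theorem exists_pow_sq {N : Subgroup G} {k : ℕ} (h : x ^ 2 ^ k = 1) (hx : x ∉ N) :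
    ∃ j : ℕ, x ^ 2 ^ j ∉ N ∧ x ^ 2 ^ j * x ^ 2 ^ j ∈ N := by
  by_contra e
  push Not at e
  have : ∀ j : ℕ, x ^ 2 ^ j ∉ N := fun j => by
    induction j with
    | zero => simpa using hx
    | succ j ih => rw [pow_succ, pow_mul, pow_two]; exact e j ih
  exact this k (h ▸ one_mem _)

theorem card_le_relIndex (h : J ≤ U) (e : J ⊓ D = ⊥) : Nat.card J ≤ D.relIndex U := by
  have := card_mul_relIndex D J
  rw [inf_comm, e, card_bot, one_mul] at this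
  exact this ▸ relIndex_le_of_le_right h (relIndex_pos _ _).ne'

omit [Finite G] in
theorem ix2_of_relIndex (h : J.relIndex V = 2) : Ix2 J V := fun a ha b hb na nb =>
  (mul_mem_iff_of_index_two h (a := ⟨a, ha⟩) (b := ⟨b, hb⟩)).2 (iff_of_false na nb)

omit [Finite G] in
theorem Ix2.comm_le (h : Ix2 J V) (h1 : K ≤ 𝐍 V) (h2 : K ≤ 𝐍 J) : ⁅V, K⁆ ≤ J := commutator_le.2 fun v hv k hk => by
  rw [show ⁅v, k⁆ = v * (k * v⁻¹ * k⁻¹) by group]
  have e := mem_normalizer_iff.1 (h2 hk) v⁻¹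
  by_cases m : v ∈ J
  · exact mul_mem m (e.1 (inv_mem m))
  · exact h _ hv _ (conj_mem_of_mem_normalizer (h1 hk) (inv_mem hv)) m fun k => m (inv_mem_iff.1 (e.2 k))

omit [Finite G] in
theorem comm_le_c (hV : IsElementaryAbelian 2 V) (hb : b ∈ 𝐍 V) (h2 : b * b ∈ 𝐂 V) :
    ⁅V, zpowers b⁆ ≤ V ⊓ 𝐂 (zpowers b) := by
  refine commutator_zpowers_le' (fun v hv => ?_) (le_normalizer_inf (zpowers_le.2 hb)
    (le_normalizer_centralizer le_normalizer) (mem_zpowers b))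
  have m := conj_mem_of_mem_normalizer hb hv
  have s : ∀ x ∈ V, x⁻¹ = x := fun x hx => inv_eq_of_mul_eq_one_right (by rw [← pow_two]; exact hV.2 x hx)
  have e : ⁅v, b⁆ = v * (b * v * b⁻¹) := by rw [commutatorElement_def, s v hv]; group
  rw [e]
  refine ⟨mul_mem hv m, mem_c_of_conj_eq ?_⟩
  have k : b * (v * (b * v * b⁻¹)) * b⁻¹ = v * (b * v * b⁻¹) := by
    rw [show b * (v * (b * v * b⁻¹)) * b⁻¹ = (b * v * b⁻¹) * (b * b * v * (b * b)⁻¹) by group,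
      mem_centralizer_iff'.1 h2 v hv]
    exact elemAb_le_centralizer hV hv _ m
  rw [mul_inv_eq_iff_eq_mul] at k ⊢
  exact k.symm

theorem relIndex_c_le {w : G} (hw : w ∈ V) (h : F ≤ 𝐍 V) : (𝐂 (zpowers w)).relIndex F ≤ Nat.card V := by
  refine Nat.card_le_card_of_injective (fun q : F ⧸ (𝐂 (zpowers w)).subgroupOf F =>
    (⟨q.out * w * (q.out : G)⁻¹, conj_mem_of_mem_normalizer (h q.out.2) hw⟩ : V)) fun q q' e => ?_
  rw [← q.out_eq, ← q'.out_eq]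
  refine QuotientGroup.eq.2 (mem_subgroupOf.2 (mem_c_of_conj_eq ?_))
  have e := congrArg Subtype.val e
  dsimp only at e
  rw [coe_mul, coe_inv, show (q.out : G)⁻¹ * q'.out * w * ((q.out : G)⁻¹ * q'.out)⁻¹ =
    (q.out : G)⁻¹ * (q'.out * w * (q'.out : G)⁻¹) * q.out by group, ← e]
  group

theorem OddM.le (h : OddM K U) (h1 : pResidualOf 2 K ≤ U) : K ≤ U :=
  let ⟨_, hT⟩ := exists_isSyl 2 K; hT.le_of_pResidualOf_le h1 (h _ hT.le hT.isP)

theorem OddM.stab (h : OddM K (𝐂 V)) (hJ : IsPGroup 2 J) (h1 : ⁅V, K⁆ ≤ J) (h2 : K ≤ 𝐂 J) : K ≤ 𝐂 V :=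
  h.le (pResidualOf_le_centralizer_of_stab hJ h1 h2)

section fr
variable (h : Fr S V) (hV : IsPGroup 2 V)
include h

theorem fr_ne : V ≠ ⊥ := fun e => fr_oz_ne_bot h (le_bot_iff.1 (e ▸ fr_oz_le h))
theorem fr_sylM : IsSyl 2 S (𝐍 V) := h.syl.mono h.le le_top
theorem fr_sylR : IsSyl 2 (S ⊓ 𝐂 V) (𝐂 V) :=
  (fr_sylM h).inf_of_normal (normalizer_le_normalizer_centralizer V) (centralizer_le_normalizer _)
theorem fr_SH : S ≤ fH S := le_c_oz S
theorem fr_sylH : IsSyl 2 S (fH S) := h.syl.mono (fr_SH h) le_top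

include hV

theorem fr_pr : PRed 2 V (𝐍 V) := by
  have := (fr_charP h hV (fr_ne h)).pRed_sylowCenterClosure
  rwa [show sylowCenterClosure 2 (𝐍 V) = V from h.zv] at this
theorem fr_VR : V ≤ S ⊓ 𝐂 V :=
  le_inf ((fr_sylM h).le_of_le_normalizer hV le_normalizer h.le) (elemAb_le_centralizer (fr_pr h hV).elemAb)
theorem fr_VW : V ≤ oz (S ⊓ 𝐂 V) := le_oz (fr_pr h hV).elemAb (fr_VR h hV) (le_centralizer_iff.1 inf_le_right)

theorem fr_W : 𝐂 V ≤ 𝐂 (oz (S ⊓ 𝐂 V)) ∧ 𝐍 V ≤ 𝐍 (oz (S ⊓ 𝐂 V)) := by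
  have y := pRed_YY (p := 2) (𝐍 V)
  have c : 𝐂 V ≤ 𝐂 (YY 2 (𝐍 V)) := by_contra fun k => by
    obtain ⟨E, e1, e2, -, e3, -, e4⟩ := odd_top (fr_sol h hV (fr_ne h)) y.red (centralizer_le_normalizer _)
      (normalizer_le_normalizer_centralizer V) k
    refine e3 (cop y.elemAb (fr_sylM h) y.norm (e1.trans (centralizer_le_normalizer _)) e2 e4
      ((le_oz (elemAb_mono y.elemAb inf_le_left) (inf_le_left.trans ((fr_sylM h).le_of_le_normalizer y.isP y.le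
      (h.le.trans y.norm))) inf_le_right).trans ((fr_oz_le h).trans (le_centralizer_iff.1 e1))))
  have e := (fr_charP h hV (fr_ne h)).YY_eq (fr_sylM h)
  rw [le_antisymm (centralizer_anti (fr_pr h hV).le_YY) c] at e
  change _ = oz _ at e
  exact ⟨e ▸ c, e ▸ y.norm⟩

theorem fr_four_le : 4 ≤ Nat.card V := by
  have h1 := mul_card_le_of_lt hV ((fr_oz_le h).lt_of_ne (fr_oz_ne h))
  have h2 := (one_lt_card_iff_ne_bot _).2 (fr_oz_ne_bot h)
  omega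

theorem fr_odd : ∃ F ≤ 𝐍 V, 𝐍 V ≤ 𝐍 F ∧ OddM F (𝐂 V) ∧
    (∀ A ≤ 𝐍 V, (∀ a ∈ A, a * a ∈ 𝐂 V) → ⁅F, A⁆ ≤ 𝐂 V → A ≤ 𝐂 V) ∧
    ∀ t ∈ 𝐍 V, t * t ∈ 𝐂 V → t ∉ 𝐂 V → ∃ η ∈ F, ⁅η, t⁆ ∉ 𝐂 V := by
  obtain ⟨F, f1, f2, f3, f4⟩ := exists_odd (fr_sol h hV (fr_ne h)) (normalizer_le_normalizer_centralizer V)
    (fr_pr h hV).red
  refine ⟨F, f1, f2, f3, f4, fun t ht t2 tn => by_contra fun k => tn (zpowers_le.1 (f4 _ (zpowers_le.2 ht) ?_
    (commutator_zpowers_le' (fun η hη => by_contra fun k' => k ⟨η, hη, k'⟩)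
    (normalizer_le_normalizer_centralizer V ht))))⟩
  rintro _ ⟨n, rfl⟩
  dsimp only
  rw [← (Commute.refl t).mul_zpow]
  exact zpow_mem t2 n

/-- `|V| = 8` with a transvection of centre `Z` is impossible -/
theorem eight (c8 : Nat.card V = 8) (hb : b ∈ 𝐍 V) (b2 : b * b ∈ 𝐂 V) (bn : b ∉ 𝐂 V) (c2 : Nat.card (oz S) = 2)
    (e : ⁅V, zpowers b⁆ = oz S) : False := by
  obtain ⟨F, f1, f2, f3, -, f5⟩ := fr_odd h hV
  have ea := (fr_pr h hV).elemAb
  have ZV := fr_oz_le h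
  have ZJ := e ▸ comm_le_c ea hb b2
  have c4 := card_eq_card_centralizer_mul_card_commutator (le_centralizer_iff_isMulCommutative.1
    (elemAb_le_centralizer ea)) hb
  rw [c8, e, c2] at c4
  have nJ : ∀ f ∈ 𝐍 V, ⁅f, b⁆ ∈ 𝐂 V → f ∈ 𝐍 (V ⊓ 𝐂 (zpowers b)) := fun f hf k => inv_mem_iff.1 (mem_normalizer_of_conj_mem
    fun v hv => ⟨conj_mem_of_mem_normalizer (inv_mem hf) hv.1, mem_c_of_conj_eq (by
      have e1 := conj_eq_of_mem_c hv.2
      have e2 := k _ hv.1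
      calc f⁻¹ * v * f⁻¹⁻¹ * b * (f⁻¹ * v * f⁻¹⁻¹)⁻¹ = f⁻¹ * (v * ⁅f, b⁆) * b * v⁻¹ * f := by group
        _ = f⁻¹ * ⁅f, b⁆ * (v * b * v⁻¹) * f := by rw [e2]; group
        _ = b := by rw [e1]; group)⟩)
  obtain ⟨J, hJ⟩ : ∃ J, V ⊓ 𝐂 (zpowers b) = J := ⟨_, rfl⟩
  have J1 : J ≤ V := hJ ▸ inf_le_left
  have J2 : b ∈ 𝐂 J := zpowers_le.1 (le_centralizer_iff.1 (hJ ▸ inf_le_right))
  rw [hJ] at nJ ZJ c4
  replace c4 : Nat.card J = 4 := by omega
  have a : F ⊓ 𝐂 (oz S) ≤ 𝐂 V := by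
    have n : F ⊓ 𝐂 (oz S) ≤ 𝐍 J := fun f hf => nJ f (f1 hf.1) (by
      have m : b ∈ 𝐂 (oz S) ⊓ commStab (V : Set G) (oz S) := ⟨centralizer_anti ZJ J2,
        zpowers_le.1 ((le_commStab_iff' ZV).2 e.le)⟩
      have nz : F ⊓ 𝐂 (oz S) ≤ 𝐍 (oz S) := le_normalizer_of_le_centralizer inf_le_right
      refine (f3.mono (K := F ⊓ (𝐂 (oz S) ⊓ commStab (V : Set G) (oz S))) inf_le_left le_rfl).stab
        (hV.to_le ZV) ((le_commStab_iff' ZV).1 (inf_le_right.trans inf_le_right)) (inf_le_right.trans inf_le_left)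
        ⟨commutator_le_of_le_normalizer f2 (commutator_mem_commutator hf.1 hb), commutator_le_of_le_normalizer'
        (le_normalizer_inf (le_normalizer_centralizer nz) (H4.le_normalizer_commStab (inf_le_left.trans f1) nz))
        (commutator_mem_commutator hf m)⟩)
    have i1 := card_mul_relIndex_of_le ZJ
    have i2 := card_mul_relIndex_of_le J1
    have o := f3.mono (K := F ⊓ 𝐂 (oz S)) inf_le_left le_rfl
    refine o.stab (hV.to_le J1) ((ix2_of_relIndex (by rw [c8, c4] at i2; omega)).comm_le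
      (inf_le_left.trans f1) n) ((o.mono le_rfl (centralizer_anti J1)).stab (hV.to_le ZV)
      ((ix2_of_relIndex (by rw [c2] at i1; omega)).comm_le n (le_normalizer_of_le_centralizer inf_le_right))
      inf_le_right)
  obtain ⟨η, hη, k⟩ := f5 b hb b2 bn
  have xF := commutator_le_of_le_normalizer f2 (commutator_mem_commutator hη hb)
  have JV : cj η J ≤ V := cj_le_of_mem_normalizer J1 (f1 hη)
  have D1 : J ⊓ cj η J ≠ ⊥ := fun k => by
    have := card_le_relIndex J1 k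
    have i2 := card_mul_relIndex_of_le JV
    rw [card_cj, c8, c4] at i2
    omega
  have xD : ⁅η, b⁆ ∈ 𝐂 (J ⊓ cj η J) := by
    refine mul_mem (centralizer_anti inf_le_right ?_) (inv_mem (centralizer_anti inf_le_left J2))
    rw [← cj_centralizer]
    exact conj_mem_cj η J2
  obtain ⟨w, hw, w1⟩ := (bot_or_exists_ne_one (oz S)).resolve_left (fr_oz_ne_bot h)
  have n8 : (𝐂 V).relIndex F ≤ 8 := by
    refine le_trans ?_ (c8 ▸ relIndex_c_le (ZV hw) f1)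
    rw [← inf_relIndex_right (𝐂 (zpowers w))]
    exact relIndex_le_of_le_left (le_trans (le_inf inf_le_right (inf_le_left.trans
      (centralizer_anti (le_zpowers_of_card_two c2 hw w1)))) a) (relIndex_pos _ _).ne'
  have m := relIndex_mul_relIndex (𝐂 V ⊓ F) (𝐂 (J ⊓ cj η J) ⊓ F) F
    (inf_le_inf_right _ (centralizer_anti (inf_le_left.trans J1))) inf_le_right
  have o := f3.not_dvd
  rw [inf_relIndex_right, inf_relIndex_right] at m
  have n1 : (𝐂 V ⊓ F).relIndex (𝐂 (J ⊓ cj η J) ⊓ F) ≠ 1 := fun e => k (relIndex_eq_one.1 e ⟨xD, xF⟩).1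
  have FD : F ≤ 𝐂 (J ⊓ cj η J) := relIndex_eq_one.1 (by
    rw [← m, Nat.prime_two.dvd_mul, not_or] at o
    have p1 := relIndex_pos (𝐂 (J ⊓ cj η J)) F
    have : 3 ≤ (𝐂 V ⊓ F).relIndex (𝐂 (J ⊓ cj η J) ⊓ F) := by omega
    by_contra
    have : 3 ≤ (𝐂 (J ⊓ cj η J)).relIndex F := by omega
    nlinarith)
  obtain ⟨u, hu, u1⟩ := (bot_or_exists_ne_one _).resolve_left (inf_omegaOne_center_ne_bot h.syl.isP
    (N := V ⊓ 𝐂 F) (inf_le_left.trans ((fr_VR h hV).trans inf_le_left))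
    (le_normalizer_inf h.le (le_normalizer_centralizer (h.le.trans f2)))
    fun e => D1 (le_bot_iff.1 (e ▸ le_inf (inf_le_left.trans J1) (le_centralizer_iff.1 FD))))
  exact k (a ⟨xF, le_centralizer_iff.1 ((le_zpowers_of_card_two c2 hu.2 u1).trans (zpowers_le.2 hu.1.2)) xF⟩)

end fr

end H6.FD
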