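import Cfsg.Agent.H6.FD0
/-! The piece `FD1` of `N4` (notes/helper26_N4d.md): `H6.fd1`. -/
set_option autoImplicit false
set_option linter.unusedSectionVars false
namespace H6.FD
open Cfsg Subgroup H26 H4 H118
open scoped Pointwise commutatorElement
universe u

local notation "𝐉" => thompsonSubgroupOf 2
local notation "O₂" => pCoreOf 2

variable {G : Type u} [Group G] [Finite G]

/-- the hypotheses of `FD1` -/
structure D1 (S V : Subgroup G) : Prop extends Fr S V where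
  core : V ≤ O₂ (fH S)
  ab : fU S V ≤ 𝐂 (fU S V)
  jc : 𝐉 S ≤ 𝐂 V

/-- an elementary subgroup of maximal order meeting `M` in a hyperplane -/
structure Bq (V B : Subgroup G) : Prop where
  mx : B ∈ MaxEA 2 (⊤ : Subgroup G)
  nM : ¬ B ≤ 𝐍 V
  ix : Ix2 (𝐍 V) B
  q : ⁅V, B ⊓ 𝐍 V⁆ ≤ 𝐂 B

theorem mx_cj {B : Subgroup G} (h : B ∈ MaxEA 2 (⊤ : Subgroup G)) (g : G) : cj g B ∈ MaxEA 2 (⊤ : Subgroup G) :=
  MaxEA.cj_of_mem_normalizer h (le_normalizer (mem_top g))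

theorem Bq.cj {V B : Subgroup G} (h : Bq V B) {m : G} (hm : m ∈ 𝐍 V) : Bq V (cj m B) := by
  have e := cj_eq_of_mem hm
  refine ⟨mx_cj h.mx m, fun k => h.nM (cj_le_cj_iff.1 (e.symm ▸ k)), ?_, ?_⟩
  · rintro _ ⟨a, ha, rfl⟩ _ ⟨b, hb, rfl⟩ na nb
    rw [← map_mul, ← e]
    exact conj_mem_cj m (h.ix a ha b hb (fun k => na (e ▸ conj_mem_cj m k)) fun k => nb (e ▸ conj_mem_cj m k))
  · have := cj_mono m h.q
    rwa [cj_commutator, cj_inf, e, cj_eq_of_mem_normalizer hm, cj_centralizer] at this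

namespace D1
variable {S V T X Y B F U A : Subgroup G} {t v x η : G} (h : D1 S V)
include h

theorem isP : IsPGroup 2 V := (isPGroup_pCoreOf 2 _).to_le h.core
theorem ea : IsElementaryAbelian 2 V := (fr_pr h.toFr h.isP).elemAb
theorem VR : V ≤ S ⊓ 𝐂 V := fr_VR h.toFr h.isP
theorem VW : V ≤ oz (S ⊓ 𝐂 V) := fr_VW h.toFr h.isP
theorem Rp : IsPGroup 2 ↥(S ⊓ 𝐂 V) := h.syl.isP.to_le inf_le_left
theorem JR : 𝐉 S ≤ S ⊓ 𝐂 V := le_inf (thompsonOf_le _ _) h.jc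
theorem JT (hT : IsPGroup 2 T) (e : S ⊓ 𝐂 V ≤ T) : 𝐉 T = 𝐉 S := h.syl.thompson_eq hT (h.JR.trans e) le_top

theorem nJ : 𝐍 (𝐉 S) ≤ 𝐍 V :=
  fr_uniq' h.toFr (h.Rp.to_le h.JR) (thompson_ne_bot h.syl.isP fun e => fr_ne h.toFr
    (le_bot_iff.1 (e ▸ h.VR.trans inf_le_left)))
    (inf_le_right.trans (h.JT h.Rp le_rfl ▸ normalizer_le_normalizer_thompsonOf _ _))

theorem TM (hT : IsPGroup 2 T) (e : S ⊓ 𝐂 V ≤ T) : T ≤ 𝐍 V :=
  le_normalizer.trans ((h.JT hT e ▸ normalizer_le_normalizer_thompsonOf 2 T).trans h.nJ)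

theorem cenB (hB : B ∈ MaxEA 2 (⊤ : Subgroup G)) (h1 : S ⊓ 𝐂 V ≤ X) (h2 : B ≤ X) (h3 : X ≤ 𝐍 Y)
    (h4 : S ⊓ 𝐂 V ≤ 𝐂 Y) : B ≤ 𝐂 Y := by
  obtain ⟨T, hT, e⟩ := exists_isSyl_ge h.Rp h1
  obtain ⟨g, hg, k⟩ := hT.exists_cj_le (elemAb_isPGroup (MaxEA.elemAb hB)) h2
  have := MaxEA.le_thompsonOf (MaxEA.of_le (mx_cj hB g) k le_top)
  rw [h.JT hT.isP e] at this
  exact cj_le_cj_iff.1 (this.trans (h.JR.trans (h4.trans
    (cj_eq_of_mem_normalizer (le_normalizer_centralizer h3 hg)).ge)))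

theorem cenV (hB : B ∈ MaxEA 2 (⊤ : Subgroup G)) (h2 : B ≤ 𝐍 V) : B ≤ 𝐂 V :=
  h.cenB hB (inf_le_left.trans h.le) h2 le_rfl inf_le_right

theorem fac (hX : CharPOf 2 X) (hT : IsSyl 2 T X) (e : S ⊓ 𝐂 V ≤ T) : X ≤ (X ⊓ 𝐍 V) ⊔ (X ⊓ 𝐂 (zc X)) :=
  h.f2 X T hX hT (inf_le_left.trans e) ((h.JT hT.isP e).trans (h.JT h.Rp le_rfl).symm)

omit h in
theorem zc1 (hT : IsSyl 2 T X) : oz T ≤ zc X ∧ X ≤ 𝐍 (zc X) := by
  rw [zc, hT.sylowCenterClosure_eq]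
  exact ⟨le_ncl _ _, le_normalizer_ncl _ _⟩

theorem pu (hX : CharPOf 2 X) (hT : IsSyl 2 (S ⊓ 𝐂 V) X) : X ≤ 𝐍 V :=
  (h.fac hX hT le_rfl).trans (sup_le inf_le_right (inf_le_right.trans
    ((centralizer_anti (h.VW.trans (zc1 hT).1)).trans (centralizer_le_normalizer _))))

theorem ti (g : G) (e : V ⊓ cj g V ≠ ⊥) : cj g V ≤ 𝐂 V := by
  have hX := fr_charP_c h.toFr (h.isP.to_le inf_le_left) e
  obtain ⟨T, hT, e1⟩ := exists_isSyl_ge h.Rp (inf_le_right.trans (centralizer_anti inf_le_left) : _ ≤ 𝐂 (V ⊓ cj g V))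
  obtain ⟨x, hx, e2⟩ := hT.exists_cj_le (isPGroup_cj g h.Rp)
    ((cj_mono g inf_le_right).trans ((cj_centralizer g V).le.trans (centralizer_anti inf_le_right)))
  have e3 : cj (x * g) (𝐉 T) ≤ T := by
    rw [h.JT hT.isP e1, H26.cj_mul]; exact (cj_mono x (cj_mono g h.JR)).trans e2
  have e4 := thompson_cj_le (L := ⊤) e3
  rw [h.JT hT.isP e1, cj_eq_iff] at e4
  have e5 := cj_eq_of_mem_normalizer (h.nJ e4)
  rw [H26.cj_mul, cj_eq_iff_eq_cj] at e5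
  obtain ⟨m, hm, e6⟩ := (fr_sylM h.toFr).exists_le_cj hT.isP (h.TM hT.isP e1)
  have mV := cj_eq_of_mem_normalizer hm
  generalize V ⊓ cj g V = Y at *
  have k : ncl V (𝐂 Y) ≤ cj m (fU S V) := by
    refine (ncl_le (le_ncl V (𝐂 Y ⊓ 𝐂 (zc (𝐂 Y)))) ((h.fac hX hT e1).trans (sup_le (le_normalizer_ncl_of_le
      inf_le_right (inf_le_left.trans (le_normalizer_inf le_normalizer (le_normalizer_centralizer (zc1 hT).2))))
      (le_normalizer_ncl _ _)))).trans ?_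
    rw [fU, cj_ncl, mV, cj_centralizer]
    refine ncl_mono le_rfl (inf_le_right.trans (centralizer_anti (le_trans (le_oz (elemAb_cj (elemAb_oz S) m)
      ((cj_mono m (fr_oz_le h.toFr)).trans (mV.le.trans (h.VR.trans e1))) ?_) (zc1 hT).1)))
    exact (cj_mono m (oz_le_c S)).trans ((cj_centralizer ..).le.trans (centralizer_anti e6))
  rw [e5]
  exact ((cj_le_ncl (inv_mem hx)).trans k).trans ((cj_mono m h.ab).trans
    ((cj_centralizer ..).le.trans (centralizer_anti ((le_ncl _ _).trans k))))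

theorem exB : ∃ B, Bq V B ∧ B ≤ fH S := by
  have sH := fr_sylH h.toFr
  obtain ⟨N, -, n1, ⟨n2, n3⟩, n4⟩ := exists_maximal_ge (Q := fun K => K ≤ 𝐍 V ∧ fH S ≤ 𝐍 K) (L := fH S) bot_le
    ⟨bot_le, by rw [normalizer_bot']; exact le_top⟩
  have mx : ∀ K ≤ fH S, K ≤ 𝐍 V → fH S ≤ 𝐍 K → K ≤ N := fun K k1 k2 k3 =>
    le_sup_right.trans (n4 _ le_sup_left (sup_le n1 k1) ⟨sup_le n2 k2, le_normalizer_sup n3 k3⟩).le
  obtain ⟨E, e1, e2, -, e3, e4, e5⟩ := odd_top (H18.Solv.of_le (fr_sol h.toFr (elemAb_isPGroup (elemAb_oz S))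
    (fr_oz_ne_bot h.toFr)) (centralizer_le_normalizer _)) (fun K k1 k2 k3 => mx K k1 ((sH.inf_of_normal k2
    k1).le_of_pResidualOf_le (k3.trans n2) (inf_le_left.trans h.le)) k2) le_rfl le_normalizer
    fun k => h.nH (k.trans n2)
  have SE := sH.le.trans e2
  have u1 : ncl V E ≤ fU S V := ncl_mono le_rfl e1
  have uc := u1.trans (h.ab.trans (centralizer_anti u1))
  have ue : IsElementaryAbelian 2 (ncl V E) := elemAb_iSup (fun g : E => elemAb_cj h.ea (g : G)) fun i j =>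
    (cj_le_ncl i.2).trans (uc.trans (centralizer_anti (cj_le_ncl j.2)))
  have un : S ≤ 𝐍 (ncl V E) := le_normalizer_ncl_of_le h.le SE
  have nj : ¬ 𝐉 S ≤ 𝐂 (ncl V E) := fun k => by
    have n : E ⊔ S ≤ 𝐍 ((E ⊔ S) ⊓ 𝐂 (ncl V E)) := le_normalizer_inf le_normalizer
      (le_normalizer_centralizer (sup_le (le_normalizer_ncl _ _) un))
    have s := (h.syl.mono le_sup_right le_top).inf_of_normal n inf_le_left
    have j := h.syl.thompson_eq s.isP (le_inf (thompsonOf_le _ _) (le_inf ((thompsonOf_le _ _).trans le_sup_right) k))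
      le_top
    refine e3 (mx E e1 (le_sup_left.trans ((s.frattini inf_le_left n).ge.trans (sup_le (inf_le_right.trans
      ((centralizer_anti (le_ncl _ _)).trans (centralizer_le_normalizer _))) (inf_le_right.trans ?_)))) e2)
    exact (j ▸ normalizer_le_normalizer_thompsonOf 2 _).trans h.nJ
  obtain ⟨A0, a0, a1⟩ : ∃ A ∈ MaxEA 2 S, ¬ A ≤ 𝐂 (ncl V E) := by
    by_contra k
    push Not at k
    exact nj (thompsonOf_le_iff.2 k)
  obtain ⟨A, a, -, q, a2⟩ := MaxEA.exists_quadratic a0 h.syl.isP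
    (h.syl.le_of_le_normalizer (elemAb_isPGroup ue) le_top un) ue ((MaxEA.le a0).trans un) a1
  have aG := MaxEA.of_isSyl h.syl a
  have al := MaxEA.le a
  have AM := al.trans h.le
  have AH := al.trans sH.le
  have n0 : E ≤ 𝐍 (E ⊓ 𝐍 V) := le_normalizer_of_commutator_le'
    (le_inf (commutator_le_of_le_normalizer le_normalizer) (e4.trans n2)) inf_le_left
  have key : ∀ η : G, ∀ t ∈ A, ⁅η, t⁆ ∈ 𝐍 V ↔ η * t * η⁻¹ ∈ 𝐍 V := fun η t ht =>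
    mul_mem_cancel_right (inv_mem (AM ht))
  have cE : ∀ η ∈ E, ∀ t ∈ A, ⁅η, t⁆ ∈ E := fun η hη t ht =>
    commutator_le_of_le_normalizer (al.trans SE) (commutator_mem_commutator hη ht)
  obtain ⟨A1, b1, -, b2, η, hη, b3, b4⟩ := dl (N := N) (Y := N ⊔ (E ⊓ commStab (A : Set G) (E ⊓ 𝐍 V)))
    (AH.trans n3) (e1.trans n3) (al.trans SE) (fun x hx => by rw [← pow_two, MaxEA.pow_eq a hx]; exact one_mem _) e5
    le_sup_left fun k => a2 (le_centralizer_iff.1 (ncl_le_iff.2 fun g hg => by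
      obtain ⟨n, hn, c, hc, e⟩ := (mem_sup_of_le_normalizer' (inf_le_left.trans (e1.trans n3))).1 (k (inv_mem hg))
      rw [le_centralizer_iff, ← cj_centralizer, le_cj_iff, ← e]
      refine h.cenV (mx_cj aG _) ?_
      rw [H26.cj_mul]
      refine cj_le_of_mem ?_ (n2 hn)
      rintro _ ⟨t, ht, rfl⟩
      exact (key c t ht).1 (hc.2.2 t ht).2))
  refine ⟨cj η A, ⟨mx_cj aG η, fun k => b3 (mem_sup_right ⟨hη, n0 hη, fun t ht =>
    ⟨cE η hη t ht, (key η t ht).2 (k (conj_mem_cj η ht))⟩⟩), ?_, ?_⟩, cj_le_of_mem AH (e1 hη)⟩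
  · rintro _ ⟨x, hx, rfl⟩ _ ⟨y, hy, rfl⟩ nx ny
    have k : ∀ t ∈ A1, MulAut.conj η t ∈ 𝐍 V := fun t ht => (key η t (b1 ht)).1 (n2 (b4 t ht))
    rw [← map_mul]
    exact k _ (b2 x hx y hy (fun e => nx (k x e)) fun e => ny (k y e))
  · have := cj_mono η (le_centralizer_iff.1 (commutator_eq_bot_iff'.1 q))
    rw [cj_commutator, cj_eq_of_mem_normalizer (le_normalizer_ncl _ _ hη), cj_centralizer] at this
    exact (commutator_mono (le_ncl _ _) inf_le_left).trans this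

variable (hB : Bq V B)
include hB

theorem key2 (f1 : F ≤ 𝐍 V) (f2 : 𝐍 V ≤ 𝐍 F) (f3 : OddM F (𝐂 V)) (hv : v ∈ oz (S ⊓ 𝐂 V) ⊓ 𝐂 B) (v1 : v ≠ 1)
    (hx : x ∈ F) (xv : x ∈ 𝐂 (zpowers v)) (ht : t ∈ 𝐍 V) (tc : t ∈ 𝐂 (oz (S ⊓ 𝐂 V) ⊓ 𝐂 B)) : ⁅x, t⁆ ∈ 𝐂 V := by
  obtain ⟨w1, w2⟩ := fr_W h.toFr h.isP
  have we := elemAb_oz (S ⊓ 𝐂 V)
  have vW := zpowers_le.2 hv
  have hX := fr_charP_c h.toFr ((elemAb_isPGroup we).to_le (vW.trans inf_le_left)) (zpowers_ne_bot' v1)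
  have RX := (le_c_oz _).trans (centralizer_anti (vW.trans inf_le_left))
  have tX := centralizer_anti vW tc
  have BX := le_centralizer_iff.1 (vW.trans inf_le_right)
  generalize 𝐂 (zpowers v) = X at *
  obtain ⟨T, hT, e⟩ := exists_isSyl_ge h.Rp RX
  have y0 : oz (S ⊓ 𝐂 V) ⊓ 𝐂 T ≤ oz T :=
    le_oz (elemAb_mono we inf_le_left) (inf_le_left.trans ((oz_le _).trans e)) inf_le_right
  have n : X ≤ 𝐍 (ncl (oz (S ⊓ 𝐂 V) ⊓ 𝐂 T) (X ⊓ 𝐍 V)) := (h.fac hX hT e).trans (sup_le (le_normalizer_ncl _ _)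
    (le_normalizer_of_le_centralizer (inf_le_right.trans (centralizer_anti (ncl_le (y0.trans (zc1 hT).1)
    (inf_le_left.trans (zc1 hT).2))))))
  have l : ncl (oz (S ⊓ 𝐂 V) ⊓ 𝐂 T) (X ⊓ 𝐍 V) ≤ oz (S ⊓ 𝐂 V) := ncl_le inf_le_left (inf_le_right.trans w2)
  have l0 := le_ncl (oz (S ⊓ 𝐂 V) ⊓ 𝐂 T) (X ⊓ 𝐍 V)
  generalize ncl (oz (S ⊓ 𝐂 V) ⊓ 𝐂 T) (X ⊓ 𝐍 V) = Y at *
  have c := h.cenB hB.mx RX BX n ((le_c_oz _).trans (centralizer_anti l))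
  refine centralizer_anti h.VW (cop (K := F ⊓ X ⊓ 𝐂 Y) we (hT.mono (le_inf hT.le (h.TM hT.isP e)) inf_le_left)
    (inf_le_right.trans w2) (inf_le_left.trans (le_inf inf_le_right (inf_le_left.trans f1)))
    (le_normalizer_inf (le_normalizer_inf (inf_le_right.trans f2) (inf_le_left.trans le_normalizer))
    (inf_le_left.trans (le_normalizer_centralizer n))) (f3.mono (inf_le_left.trans inf_le_left) w1)
    (l0.trans (le_centralizer_iff.1 inf_le_right)) ⟨⟨?_, ?_⟩, ?_⟩)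
  · exact commutator_le_of_le_normalizer f2 (commutator_mem_commutator hx ht)
  · exact commutator_le_of_le_normalizer le_normalizer (commutator_mem_commutator xv tX)
  · exact commutator_le_of_le_normalizer' (le_normalizer_centralizer n) (commutator_mem_commutator xv
      (centralizer_anti (le_inf l (le_centralizer_iff.1 c)) tc))

theorem key3 (f1 : F ≤ 𝐍 V) (f2 : 𝐍 V ≤ 𝐍 F) (f3 : OddM F (𝐂 V)) (ht : t ∈ 𝐍 V)
    (tc : t ∈ 𝐂 (oz (S ⊓ 𝐂 V) ⊓ 𝐂 B)) (t2 : t * t ∈ 𝐂 V) (hη : η ∈ F) (n : ⁅η, t⁆ ∉ 𝐂 V) :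
    oz (S ⊓ 𝐂 V) ⊓ 𝐂 B ⊓ cj η (𝐂 (zpowers t)) = ⊥ := by
  refine (eq_bot_iff_forall _).2 fun v hv => by_contra fun v1 => n ?_
  have xF := commutator_le_of_le_normalizer f2 (commutator_mem_commutator hη ht)
  have nC := normalizer_le_normalizer_centralizer V
  have m : η * t * η⁻¹ ∈ 𝐂 (zpowers v) := by
    have := hv.2
    rw [cj_centralizer, cj_zpowers] at this
    exact zpowers_le.1 (le_centralizer_iff.1 (zpowers_le.2 this))
  have k := h.key2 hB f1 f2 f3 hv.1 v1 xF (mul_mem m (inv_mem (centralizer_anti (zpowers_le.2 hv.1) tc))) ht tc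
  refine f3.sq (f1.trans nC) xF ?_
  rw [show ⁅η, t⁆ * ⁅η, t⁆ = ⁅η, t⁆ * (η * (t * t) * η⁻¹ * (t * t)⁻¹) * ⁅η, t⁆⁻¹ * ⁅⁅η, t⁆, t⁆ by
    simp only [commutatorElement_def]; group]
  exact mul_mem (conj_mem_of_mem_normalizer (nC (f1 xF)) (mul_mem (conj_mem_of_mem_normalizer (nC (f1 hη)) t2)
    (inv_mem t2))) k

theorem bound (ht : t ∈ 𝐍 V) (tc : t ∈ 𝐂 (oz (S ⊓ 𝐂 V) ⊓ 𝐂 B)) (t2 : t * t ∈ 𝐂 V) (n : t ∉ 𝐂 V)
    (h1 : U ≤ oz (S ⊓ 𝐂 V)) (h2 : 𝐍 V ≤ 𝐍 U) : Nat.card ↥(U ⊓ 𝐂 B) ≤ (𝐂 (zpowers t)).relIndex U := by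
  obtain ⟨F, f1, f2, f3, -, f5⟩ := fr_odd h.toFr h.isP
  obtain ⟨η, hη, k⟩ := f5 t ht t2 n
  have := card_le_relIndex (inf_le_left : U ⊓ 𝐂 B ≤ U) (le_bot_iff.1 ((inf_le_inf_right _
    (inf_le_inf_right _ h1)).trans (h.key3 hB f1 f2 f3 ht tc t2 hη k).le))
  rwa [← cj_eq_of_mem_normalizer (h2 (f1 hη)), relIndex_cj, cj_eq_of_mem_normalizer (h2 (f1 hη))] at this

theorem lemQ (h1 : A ≤ 𝐍 V) (h2 : A ≤ 𝐂 (oz (S ⊓ 𝐂 V) ⊓ 𝐂 B)) (h3 : ∀ a ∈ A, a * a ∈ 𝐂 V) (h4 : ⁅V, A⁆ ≤ 𝐂 B) :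
    Ix2 (𝐂 V) A := by
  by_cases e : A ≤ 𝐂 V
  · exact fun a ha _ _ k => (k (e ha)).elim
  obtain ⟨F, f1, f2, f3, f4, -⟩ := fr_odd h.toFr h.isP
  have nC := normalizer_le_normalizer_centralizer V
  obtain ⟨A1, b1, b0, b2, η, hη, b3, b4⟩ := dl (Y := commStab (A : Set G) (𝐂 V)) (h1.trans nC) (f1.trans nC)
    (h1.trans f2) h3 f3 (le_commStab_iff.2 ⟨le_normalizer, commutator_le_of_le_normalizer (h1.trans nC)⟩)
    fun k => e (f4 A h1 h3 (le_commStab_iff.1 k).2)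
  obtain ⟨t, ht, n⟩ : ∃ t ∈ A, ⁅η, t⁆ ∉ 𝐂 V := by
    by_contra k
    push Not at k
    exact b3 ⟨nC (f1 hη), k⟩
  have k := h.key3 hB f1 f2 f3 (h1 ht) (h2 ht) (h3 t ht) hη n
  have I : ∀ v ∈ V, ∀ s ∈ A, ⁅v, s⁆ ∈ oz (S ⊓ 𝐂 V) ⊓ 𝐂 B := fun v hv s hs => ⟨h.VW (commutator_le_of_le_normalizer h1
    (commutator_mem_commutator hv hs)), h4 (commutator_mem_commutator hv hs)⟩
  have c : A1 ≤ 𝐂 V := fun s hs v hv => by
    refine commutatorElement_eq_one_iff_mul_comm.1 ((eq_bot_iff_forall _).1 k _ ⟨I v hv s (b1 hs), mem_cj.2 ?_⟩)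
    have m := conj_mem_of_mem_normalizer' (f1 hη) hv
    have c := conj_mem_of_mem_normalizer' (nC (mul_mem (f1 hη) (h1 (b1 hs)))) (inv_mem (b4 s hs)) _ (inv_mem m)
    have e : η⁻¹ * ⁅v, s⁆ * η = ⁅η⁻¹ * v * η, s⁆ := by
      calc _ = η⁻¹ * v * η * s * ((η * s)⁻¹ * ⁅η, s⁆⁻¹ * (η * s) * (η⁻¹ * v * η)⁻¹) *
            ((η * s)⁻¹ * ⁅η, s⁆⁻¹ * (η * s))⁻¹ * s⁻¹ := by simp only [commutatorElement_def]; group
        _ = _ := by rw [← c]; simp only [commutatorElement_def]; group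
    rw [e]
    exact centralizer_anti (zpowers_le.2 ht) (le_centralizer_iff.1 h2 (I _ m s (b1 hs)))
  exact fun a ha b hb na nb => c (b2 a ha b hb (fun k => na (c k)) fun k => nb (c k))

theorem idx (h1 : U ≤ oz (S ⊓ 𝐂 V)) : (𝐂 B).relIndex U ≤ (𝐂 V).relIndex B := by
  have c : B ⊓ 𝐂 V ≤ 𝐂 U := inf_le_right.trans ((fr_W h.toFr h.isP).1.trans (centralizer_anti h1))
  have k1 := MaxEA.card_le hB.mx le_top (elemAb_sup (elemAb_mono (MaxEA.elemAb hB.mx) inf_le_left) (elemAb_mono (elemAb_oz _) h1) c)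
  have k2 := card_sup_mul_card_inf (le_normalizer_of_le_centralizer c)
  have k3 := card_mul_relIndex (𝐂 V) B
  have k4 := card_mul_relIndex (𝐂 B) U
  have k5 := card_le_of_le (le_inf (inf_le_left.trans (inf_le_left.trans (elemAb_le_centralizer (MaxEA.elemAb hB.mx))))
    inf_le_right : B ⊓ 𝐂 V ⊓ U ≤ 𝐂 B ⊓ U)
  rw [inf_comm] at k3
  have k6 := Nat.mul_le_mul k1 k5
  rw [k2, ← k3, ← k4, mul_comm (Nat.card ↥(𝐂 B ⊓ U)), mul_assoc] at k6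
  exact Nat.le_of_mul_le_mul_right (Nat.le_of_mul_le_mul_left k6 (card_pos' _)) (card_pos' _)

theorem notc (h0 : Y ≠ ⊥) (h1 : Y ≤ oz (S ⊓ 𝐂 V) ⊓ 𝐂 B) (hT : IsSyl 2 T (𝐂 Y)) (e : S ⊓ 𝐂 V ≤ T) : ¬ T ≤ 𝐂 V :=
  fun k => hB.nM ((le_centralizer_iff.1 (h1.trans inf_le_right)).trans (h.pu (fr_charP_c h.toFr
    ((elemAb_isPGroup (elemAb_oz _)).to_le (h1.trans inf_le_left)) h0) ((fr_sylR h.toFr).eq_of_le hT.isP e k ▸ hT)))

theorem sixteen (fl : FL.{u}) (c : Nat.card V = 16) (w : oz (S ⊓ 𝐂 V) = V) (c4 : Nat.card ↥(V ⊓ 𝐂 B) = 4)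
    (hT : IsSyl 2 T (𝐂 (V ⊓ 𝐂 B))) (e : S ⊓ 𝐂 V ≤ T) (e' : T ≤ S) : False := by
  have TM := e'.trans h.le
  have cm := le_centralizer_iff_isMulCommutative.1 (elemAb_le_centralizer h.ea)
  have IC : ∀ t ∈ T, V ⊓ 𝐂 B ≤ V ⊓ 𝐂 (zpowers t) := fun t ht =>
    le_inf inf_le_left (le_centralizer_iff.1 (zpowers_le.2 (hT.le ht)))
  have i1 : ∀ t ∈ T, t * t ∈ 𝐂 V → t ∉ 𝐂 V → V ⊓ 𝐂 (zpowers t) = V ⊓ 𝐂 B ∧ ⁅V, zpowers t⁆ = V ⊓ 𝐂 B :=
    fun t ht t2 n => by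
      have k1 := h.bound hB (TM ht) (w.symm ▸ hT.le ht) t2 n w.ge le_rfl
      have k2 := card_mul_relIndex (𝐂 (zpowers t)) V
      have k3 := card_eq_card_centralizer_mul_card_commutator cm (TM ht)
      rw [inf_comm, c] at k2
      have e1 := (eq_of_le_of_card_ge (IC t ht) (by rw [c4] at k1 ⊢; nlinarith)).symm
      rw [e1, c, c4] at k3
      exact ⟨e1, eq_of_le_of_card_ge (e1 ▸ comm_le_c h.ea (TM ht) t2) (by omega)⟩
  have sq : ∀ t ∈ T, t * t ∈ 𝐂 V := fun t ht => by_contra fun n => by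
    obtain ⟨k, hk⟩ := isPGroup_iff_mem.1 hT.isP _ (mul_mem ht ht)
    obtain ⟨j, n1, n2⟩ := exists_pow_sq hk n
    rw [(Commute.refl t).mul_pow] at n1 n2
    have hu := pow_mem ht (2 ^ j)
    generalize t ^ 2 ^ j = u at *
    obtain ⟨a1, a2⟩ := i1 _ (mul_mem hu hu) n2 n1
    have z : zpowers (u * u) ≤ zpowers u := zpowers_le.2 (mul_mem (mem_zpowers u) (mem_zpowers u))
    have e1 : V ⊓ 𝐂 (zpowers u) = V ⊓ 𝐂 B := le_antisymm (a1 ▸ inf_le_inf_left _ (centralizer_anti z)) (IC u hu)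
    have k3 := card_eq_card_centralizer_mul_card_commutator cm (TM hu)
    rw [e1, c, c4] at k3
    have e2 := eq_of_le_of_card_ge (a2 ▸ commutator_mono le_rfl z : V ⊓ 𝐂 B ≤ ⁅V, zpowers u⁆) (by omega)
    exact n1 (pow_two u ▸ quadratic_pow_mem h.ea.2 (zpowers_le.2 (TM hu))
      (commutator_eq_bot_iff'.2 (e2 ▸ zpowers_le.2 (hT.le hu))) (mem_zpowers u))
  have q := h.lemQ hB TM (w.symm ▸ hT.le) sq (commutator_le.2 fun v hv t ht => by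
    by_cases n : t ∈ 𝐂 V
    · rw [commutatorElement_eq_one_iff_mul_comm.2 (n v hv)]; exact one_mem _
    · exact ((i1 t ht (sq t ht) n).2.le (commutator_mem_commutator hv (mem_zpowers t))).2)
  have I0 : V ⊓ 𝐂 B ≠ ⊥ := fun k => by rw [k, card_bot] at c4; omega
  obtain ⟨b, hb, n⟩ := SetLike.not_le_iff_exists.1 (h.notc hB I0 (w.symm ▸ le_rfl) hT e)
  have eT : S ⊓ 𝐂 V ⊔ zpowers b = T := le_antisymm (sup_le e (zpowers_le.2 hb)) fun t ht => by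
    by_cases k : t ∈ 𝐂 V
    · exact mem_sup_left ⟨e' ht, k⟩
    · exact (mul_mem_cancel_right (mem_sup_right (mem_zpowers b))).1
        (mem_sup_left ⟨e' (mul_mem ht hb), q t ht b hb k n⟩)
  obtain ⟨a1, a2⟩ := i1 b hb (sq b hb) n
  exact hB.nM ((le_centralizer_iff.1 inf_le_right).trans (fl G S V _ b h.toFr h.ab c w (e' hb) a1 a2 c4 (eT ▸ hT)
    (eT ▸ (h.JT hT.isP e).trans (h.JT h.Rp le_rfl).symm) fun g k => h.ti g fun k' =>
    k (le_bot_iff.1 (k' ▸ inf_le_inf inf_le_left (cj_mono g inf_le_left)))))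

omit hB in
theorem main (fl : FL.{u}) : Nat.card V = 4 := by
  obtain ⟨B, hB, bH⟩ := h.exB
  obtain ⟨w1, w2⟩ := fr_W h.toFr h.isP
  have ZI : oz S ≤ V ⊓ 𝐂 B := le_inf (fr_oz_le h.toFr) (le_centralizer_iff.1 bH)
  have II : V ⊓ 𝐂 B ≤ oz (S ⊓ 𝐂 V) ⊓ 𝐂 B := inf_le_inf_right _ h.VW
  have Bc := elemAb_le_centralizer (MaxEA.elemAb hB.mx)
  have b2 : ∀ b ∈ B, b * b ∈ 𝐂 V := fun b hb => by rw [← pow_two, MaxEA.pow_eq hB.mx hb]; exact one_mem _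
  have Bc' : B ≤ 𝐂 (oz (S ⊓ 𝐂 V) ⊓ 𝐂 B) := le_centralizer_iff.1 inf_le_right
  obtain ⟨T, hT, e⟩ := exists_isSyl_ge h.Rp ((le_c_oz _).trans (centralizer_anti inf_le_left) :
    _ ≤ 𝐂 (oz (S ⊓ 𝐂 V) ⊓ 𝐂 B))
  obtain ⟨x, hx, n⟩ := SetLike.not_le_iff_exists.1 (h.notc hB (fun k => fr_oz_ne_bot h.toFr
    (le_bot_iff.1 (k ▸ ZI.trans II))) le_rfl hT e)
  obtain ⟨k, hk⟩ := isPGroup_iff_mem.1 hT.isP _ hx
  obtain ⟨j, n1, n2⟩ := exists_pow_sq hk n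
  have ht := pow_mem hx (2 ^ j)
  have k1 := (h.bound hB (h.TM hT.isP e ht) (hT.le ht) n2 n1 le_rfl w2).trans (relIndex_le_of_le_left
    (le_centralizer_iff.1 (zpowers_le.2 (hT.le ht))) (relIndex_pos _ _).ne')
  rw [inf_comm, inf_relIndex_right] at k1
  have k2 := h.idx hB le_rfl
  have k3 := card_mul_relIndex (𝐂 B) (oz (S ⊓ 𝐂 V))
  have k4 := card_le_of_le h.VW
  have k5 := fr_four_le h.toFr h.isP
  have k6 := relIndex_mul_relIndex (𝐂 V ⊓ (B ⊓ 𝐍 V)) (B ⊓ 𝐍 V) B inf_le_right inf_le_left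
  rw [inf_relIndex_right, inf_comm B, inf_relIndex_right, ← inf_assoc, inf_eq_left.2 (centralizer_le_normalizer _),
    inf_relIndex_right, inf_comm] at k6
  have k7 := hB.ix.relIndex_le
  have k8 := (h.lemQ hB inf_le_right (inf_le_left.trans Bc') (fun b hb => b2 b hb.1) hB.q).relIndex_le
  by_contra n4
  have nb : ¬ B ⊓ 𝐍 V ≤ 𝐂 V := fun k => by
    rw [relIndex_eq_one.2 k] at k6
    exact n4 (by nlinarith)
  obtain ⟨b, hb, bn⟩ := SetLike.not_le_iff_exists.1 nb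
  have r4 : (𝐂 V).relIndex B ≤ 4 := by nlinarith
  obtain ⟨i, hi⟩ := h.isP.exists_card_eq
  have i4 : i ≤ 4 := (Nat.pow_le_pow_iff_right one_lt_two).1 (by nlinarith)
  have : Nat.card V = 8 ∨ Nat.card V = 16 := by
    rw [hi] at n4 k5 ⊢
    interval_cases i <;> omega
  rcases this with c | c
  · have l1 := h.bound hB hb.2 (Bc' hb.1) (b2 b hb.1) bn h.VW le_rfl
    have l2 := card_mul_relIndex (𝐂 (zpowers b)) V
    have l3 := card_eq_card_centralizer_mul_card_commutator (le_centralizer_iff_isMulCommutative.1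
      (elemAb_le_centralizer h.ea)) hb.2
    have s1 : ⁅V, zpowers b⁆ ≤ V ⊓ 𝐂 B := le_inf (commutator_le_of_le_normalizer (zpowers_le.2 hb.2))
      ((commutator_mono le_rfl (zpowers_le.2 hb)).trans hB.q)
    have l4 := card_le_of_le s1
    have l5 := card_le_of_le (inf_le_inf_left V (centralizer_anti (zpowers_le.2 hb.1)))
    have l6 := card_le_of_le ZI
    have l7 := (one_lt_card_iff_ne_bot _).2 (fr_oz_ne_bot h.toFr)
    rw [inf_comm, l3] at l2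
    rw [Nat.eq_of_mul_eq_mul_left (card_pos' _) l2] at l1
    rw [c] at l3
    have l8 : Nat.card ↥(V ⊓ 𝐂 B) ≤ 2 := by nlinarith
    exact eight h.toFr h.isP c hb.2 (b2 b hb.1) bn (by omega)
      ((eq_of_le_of_card_ge s1 l1).trans (eq_of_le_of_card_ge ZI (by omega)).symm)
  · have w := (eq_of_le_of_card_ge h.VW (by nlinarith)).symm
    rw [w] at hT k1 k2 k3
    obtain ⟨m, hm, e1⟩ := (fr_sylM h.toFr).exists_cj_le hT.isP (h.TM hT.isP e)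
    have mV := cj_eq_of_mem_normalizer hm
    have e2 : cj m (V ⊓ 𝐂 B) = V ⊓ 𝐂 (cj m B) := by rw [cj_inf, mV, cj_centralizer]
    have e3 : cj m (S ⊓ 𝐂 V) = S ⊓ 𝐂 V := cj_eq_of_mem_normalizer (mem_normalizer_of_cj_le (le_inf
      ((cj_mono m e).trans e1) ((cj_mono m inf_le_right).trans (by rw [cj_centralizer, mV]))))
    refine h.sixteen (hB.cj hm) fl c w (by rw [← e2, card_cj, inf_comm]; nlinarith) ?_ (e3 ▸ cj_mono m e) e1
    rw [← e2, ← cj_centralizer]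
    exact hT.cj m

end D1

end H6.FD

/-- the piece `FD1` of `N4` -/
theorem H6.fd1.{u} : H26.FD1.{u} := fun _ _ _ _ _ h h1 h2 h3 => H6.FD.D1.main ⟨h, h1, h2, h3⟩ H118.fl
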