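import Mathlib.GroupTheory.Sylow
import Mathlib.Data.Set.Card

/-! The local facts `Oc` of a group of type Tits used by the octagon argument (`notes/helper26_N4.md`, part G).
`z` generates `Ω₁Z(S)`, `V = {1, z, y, zy}`, `Q = O₂(C(z))`, `I = U ⊓ U^g` (`g ∈ N(V)` moving `z`). -/

set_option autoImplicit false

namespace H6

open Subgroup

variable {G : Type*} [Group G]

/-- `a`, `b` are distinct collinear points -/
def Col (z y a b : G) : Prop := ∃ g : G, g * z * g⁻¹ = a ∧ g * y * g⁻¹ = b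

/-- local facts of type Tits -/
structure Oc (z y : G) (S Q V I : Subgroup G) : Prop where
  z1 : z ≠ 1
  y1 : y ≠ 1
  yz : y ≠ z
  memV : ∀ x, x ∈ V ↔ x = 1 ∨ x = z ∨ x = y ∨ x = z * y
  swap : Col z y y z
  turn : Col z y z (z * y)
  /-- five lines through `z` -/
  ten : {b | Col z y z b}.ncard = 10
  syl : ∃ P : Sylow 2 G, (P : Subgroup G) = S
  /-- `S = H ⊓ M` -/
  memS : ∀ x, x ∈ S ↔ x * z = z * x ∧ x ∈ normalizer (V : Set G)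
  /-- `Q` fixes the lines through `z` -/
  fixQ : ∀ q ∈ Q, ∀ b, Col z y z b → q * b * q⁻¹ = b ∨ q * b * q⁻¹ = z * b
  /-- `H/Q` is a Frobenius group on the lines through `z` -/
  frob : ∀ s ∈ S, s ∉ Q → ∀ b, Col z y z b → s * b * s⁻¹ = b ∨ s * b * s⁻¹ = z * b → b ∈ V
  /-- `S/Q` is cyclic -/
  cyc : ∀ x ∈ S, ∀ x' ∈ S, x * x = 1 → x' * x' = 1 → x ∈ Q ∨ x' ∈ Q ∨ x * x' ∈ Q
  /-- points at distance two are not in `Q` -/
  far : ∀ a, Col z y y a → a ∉ V → a ∉ Q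
  /-- points at distance three -/
  d3 : ∀ a b, Col z y z a → a ∉ V → Col z y y b → b ∉ V → a * b * (a * b) ∈ I ∧ a * b * (a * b) ∉ V
  VI : V ≤ I
  NI : normalizer (V : Set G) ≤ normalizer (I : Set G)
  exI : ∃ w ∈ I, w ∉ V
  two : ∀ w ∈ I, ∀ w' ∈ I, w ∉ V → w' ∉ V → w * w' ∈ V
  sqI : ∀ w ∈ I, w * w = 1
  /-- `U = ⟨I^H⟩` is abelian -/
  abU : ∀ h, h * z = z * h → ∀ w ∈ I, ∀ w' ∈ I, w * (h * w' * h⁻¹) = h * w' * h⁻¹ * w
  npt : ∀ w ∈ I, w ∉ V → ¬ IsConj z w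
  /-- `C(w) ≤ M` and `M` is transitive on `I \ V` -/
  line : ∀ w ∈ I, w ∉ V → ∀ g, g * w * g⁻¹ ∈ I → g ∈ normalizer (V : Set G)
  /-- every involution of `H` lies in `U(p) = ⋃ I(l)` (`l` a line through `p`), `p = z` or collinear to `z` -/
  inv : ∀ x, x * x = 1 → x * z = z * x → ∃ g, (g * z * g⁻¹ = z ∨ Col z y z (g * z * g⁻¹)) ∧ g⁻¹ * x * g ∈ I
  no3 : ¬ 3 ∣ Nat.card (centralizer ({z} : Set G))
  /-- `|S| = 2¹¹`, or the index two subgroups of `H` and `M` -/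
  card : Nat.card (centralizer ({z} : Set G)) = 10240 ∨ ∃ (H₀ : Subgroup G) (c : G), H₀ ≤ centralizer {z} ∧
    H₀.relIndex (centralizer {z}) = 2 ∧ c ∉ H₀ ∧ c * c = z ∧ (∀ x, x * z = z * x → x * x = 1 → x ∈ H₀) ∧
    ∀ g, g * z * g⁻¹ = y → g * y * g⁻¹ = z → ∀ x ∈ H₀, x * y = y * x → g * x * g⁻¹ ∈ H₀

end H6
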