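import Cfsg.Agent.S0196
import Cfsg.Agent.S0494
import Cfsg.Agent.S0495
import Cfsg.Agent.S0497
import Cfsg.Agent.S0984
import Cfsg.Agent.S0998
import Cfsg.Agent.S1001
import Cfsg.Agent.S2119
import Cfsg.Agent.H10.Sieve2
import Cfsg.Agent.H10.PSL2Max
import Cfsg.Agent.H1.Basic
import Cfsg.Agent.S0721

/-! Subgroups of `A₈`: Sylow `7`-normalisers, orders of simple subgroups, minimal normal subgroups. -/

set_option autoImplicit false

namespace H6
open Subgroup

/-- The alternating group of degree eight. -/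
abbrev A8 := ↥(alternatingGroup (Fin 8))

theorem card_A8 : Nat.card A8 = 20160 := by
  have := two_mul_nat_card_alternatingGroup (α := Fin 8)
  rw [Nat.card_perm, Nat.card_eq_fintype_card (α := Fin 8), Fintype.card_fin] at this
  exact Nat.eq_of_mul_eq_mul_left two_pos (this.trans (by norm_num [Nat.factorial]))

theorem perm8_ord7 (g : Equiv.Perm (Fin 8)) (h : 7 ∣ orderOf g) : orderOf g = 7 := by
  rw [← Equiv.Perm.lcm_cycleType] at h ⊢
  obtain ⟨n, hn, h7⟩ := (Nat.prime_iff.1 (by norm_num : Nat.Prime 7)).exists_mem_multiset_dvd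
    (h.trans (Multiset.lcm_dvd.2 fun b hb => Multiset.dvd_prod hb))
  obtain ⟨s, hs⟩ := Multiset.exists_cons_of_mem hn
  have h1 : g.cycleType.sum ≤ 8 := by simpa using g.sum_cycleType_le
  have h2 := Equiv.Perm.two_le_of_mem_cycleType hn
  rw [hs, Multiset.sum_cons] at h1
  have h3 : n = 7 := by omega
  have h4 : s = 0 := by
    by_contra h0
    obtain ⟨m, hm⟩ := Multiset.exists_mem_of_ne_zero h0
    have := Equiv.Perm.two_le_of_mem_cycleType (hs ▸ Multiset.mem_cons_of_mem hm)
    have := Multiset.single_le_sum (fun _ _ => Nat.zero_le _) m hm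
    omega
  simp [hs, h3, h4]

variable {H : Type*} [Group H] [Finite H]

omit [Finite H] in
theorem emb_ord7 (f : H →* A8) (hf : Function.Injective f) (g : H) (h : 7 ∣ orderOf g) :
    orderOf g = 7 := by
  rw [← orderOf_injective f hf, ← orderOf_coe] at h ⊢
  exact perm8_ord7 _ h

omit [Finite H] in
theorem emb_card (f : H →* A8) (hf : Function.Injective f) : Nat.card H ∣ 20160 :=
  card_A8 ▸ card_dvd_of_injective f hf

theorem emb_cent7 (f : H →* A8) (hf : Function.Injective f) {x : H} (hx : orderOf x = 7) :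
    centralizer ({x} : Set H) = zpowers x := by
  have h7 : Nat.Prime 7 := by norm_num
  have hle : zpowers x ≤ centralizer ({x} : Set H) :=
    zpowers_le.2 (mem_centralizer_singleton_iff.2 rfl)
  have h1 : Nat.card (centralizer ({x} : Set H)) = 7 ^ (Nat.card (centralizer ({x} : Set H))).primeFactorsList.length := by
    refine Nat.eq_prime_pow_of_unique_prime_dvd Nat.card_pos.ne' fun {r} hr hd => ?_
    by_contra hne
    have := Fact.mk hr
    obtain ⟨y, hy⟩ := exists_prime_orderOf_dvd_card' r hd
    rw [← orderOf_coe] at hy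
    have hc : Commute x y := (mem_centralizer_singleton_iff.1 y.2).symm
    have h2 := hc.orderOf_mul_eq_mul_orderOf_of_coprime
      (by rw [hx, hy]; exact (Nat.coprime_primes h7 hr).2 (Ne.symm hne))
    rw [hx, hy] at h2
    have := emb_ord7 f hf _ (h2 ▸ dvd_mul_right _ _)
    have := hr.two_le
    omega
  have h2 : Nat.card (centralizer ({x} : Set H)) ∣ 20160 :=
    (card_subgroup_dvd_card _).trans (emb_card f hf)
  refine (eq_of_le_of_card_ge hle ?_).symm
  rw [Nat.card_zpowers, hx]
  rw [h1] at h2 ⊢
  generalize (Nat.card (centralizer ({x} : Set H))).primeFactorsList.length = k at h2 ⊢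
  rcases k with _ | _ | k
  · norm_num
  · norm_num
  · exact absurd ((pow_dvd_pow 7 (by omega : 2 ≤ k + 1 + 1)).trans h2) (by norm_num)

theorem emb_norm42 (f : H →* A8) (hf : Function.Injective f) (P : Subgroup H) (hP : Nat.card P = 7) :
    Nat.card (normalizer (P : Set H)) ∣ 42 := by
  have := Fact.mk (by norm_num : Nat.Prime 7)
  have h := Cfsg.Agent.S0196.result P fun x hx h1 => by
    have h2 : orderOf x = 7 := by
      have := orderOf_eq_prime (x := (⟨x, hx⟩ : P)) (p := 7) (hP ▸ pow_card_eq_one')
        (fun e => h1 (congrArg Subtype.val e))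
      rwa [← orderOf_coe] at this
    rw [emb_cent7 f hf h2]
    exact eq_of_le_of_card_ge (zpowers_le.2 hx) (by rw [Nat.card_zpowers, h2, hP])
  rw [← card_mul_index (P.subgroupOf (normalizer (P : Set H))),
    Nat.card_congr (subgroupOfEquivOfLe le_normalizer).toEquiv, hP]
  rw [hP] at h
  exact mul_dvd_mul_left 7 h

theorem sylow7 (h : Nat.card H ∣ 20160) (P : Subgroup H) (hP : Nat.card P = 7) :
    (normalizer (P : Set H)).index % 7 = 1 := by
  have := Fact.mk (by norm_num : Nat.Prime 7)
  have h1 : (Nat.card H).factorization 7 = 1 := by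
    have h2 : 7 ∣ Nat.card H := hP ▸ card_subgroup_dvd_card P
    have h3 := (Nat.Prime.dvd_iff_one_le_factorization this.out Nat.card_pos.ne').1 h2
    by_contra h4
    exact absurd (((Nat.Prime.pow_dvd_iff_le_factorization this.out Nat.card_pos.ne').2
      (by omega : 2 ≤ _)).trans h) (by norm_num)
  let Q : Sylow 7 H := Sylow.ofCard P (by rw [h1, hP, pow_one])
  have h5 := card_sylow_modEq_one 7 H
  rw [Q.card_eq_index_normalizer] at h5
  exact h5

omit [Finite H] in
theorem emb_norm21 (f : H →* A8) (hf : Function.Injective f) (P : Subgroup H) (hP : Nat.card P = 7) :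
    Nat.card (normalizer (P : Set H)) ∣ 21 := by
  have hQ : Nat.card (P.map f) = 7 := by rw [card_map_of_injective hf, hP]
  have h1 := emb_norm42 (MonoidHom.id A8) Function.injective_id _ hQ
  have h2 := sylow7 card_A8.dvd _ hQ
  have h3 := card_mul_index (normalizer ((P.map f : Subgroup A8) : Set A8))
  have h4 : Nat.card (normalizer ((P.map f : Subgroup A8) : Set A8)) = 21 := by
    rw [card_A8] at h3
    have h5 : 7 ∣ Nat.card (normalizer ((P.map f : Subgroup A8) : Set A8)) :=
      hQ ▸ card_dvd_of_le le_normalizer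
    generalize Nat.card (normalizer ((P.map f : Subgroup A8) : Set A8)) = n at *
    have := Nat.le_of_dvd (by norm_num) h1
    interval_cases n <;> omega
  rw [← h4, ← card_map_of_injective hf]
  exact card_dvd_of_le (le_normalizer_map f)

theorem simple_norm_ne [IsSimpleGroup H] (hH : ¬ IsMulCommutative H) {p : ℕ} [Fact p.Prime]
    (P : Sylow p H) (hP : (P : Subgroup H) ≠ ⊥) :
    ¬ normalizer ((P : Subgroup H) : Set H) ≤ centralizer ((P : Subgroup H) : Set H) := fun h => by
  have h1 := MonoidHom.ker_transferSylow_isComplement' P h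
  rcases (MonoidHom.normal_ker (MonoidHom.transferSylow P h)).eq_bot_or_eq_top with h2 | h2
  · have h3 : (P : Subgroup H) = ⊤ := by
      have := h1.sup_eq_top
      rwa [h2, bot_sup_eq] at this
    refine hH ⟨⟨fun a b => ?_⟩⟩
    exact (h (le_normalizer (h3 ▸ mem_top b)) a (h3 ▸ mem_top a))
  · have := h1.disjoint
    rw [h2, top_disjoint] at this
    exact hP this

theorem emb_simple_norm [IsSimpleGroup H] (hH : ¬ IsMulCommutative H) (f : H →* A8)
    (hf : Function.Injective f) (P : Sylow 7 H) (h7 : 7 ∣ Nat.card H) :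
    Nat.card P = 7 ∧ Nat.card (normalizer ((P : Subgroup H) : Set H)) = 21 := by
  have := Fact.mk (by norm_num : Nat.Prime 7)
  have hP : Nat.card P = 7 := by
    rw [P.card_eq_multiplicity]
    have h3 := (Nat.Prime.dvd_iff_one_le_factorization this.out Nat.card_pos.ne').1 h7
    have h4 : ¬ 2 ≤ (Nat.card H).factorization 7 := fun h4 =>
      absurd (((Nat.Prime.pow_dvd_iff_le_factorization this.out Nat.card_pos.ne').2 h4).trans
        (emb_card f hf)) (by norm_num)
    rw [show (Nat.card H).factorization 7 = 1 by omega, pow_one]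
  refine ⟨hP, ?_⟩
  have h1 := emb_norm21 f hf P hP
  have h2 : 7 ∣ Nat.card (normalizer ((P : Subgroup H) : Set H)) :=
    hP.symm.dvd.trans (card_dvd_of_le le_normalizer)
  have h3 : Nat.card (normalizer ((P : Subgroup H) : Set H)) ≠ 7 := fun h => by
    refine simple_norm_ne hH P (fun e => by simp [e] at hP) ?_
    rw [← eq_of_le_of_card_ge (le_normalizer (H := (P : Subgroup H))) (by rw [h, hP])]
    have : IsCyclic P := isCyclic_of_prime_card hP
    exact (le_centralizer_iff_isMulCommutative).2 inferInstance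
  generalize Nat.card (normalizer ((P : Subgroup H) : Set H)) = n at *
  have := Nat.le_of_dvd (by norm_num) h1
  interval_cases n <;> omega

theorem dvd_five_or_seven (hH : ¬ Group.IsSolvable H) (h : Nat.card H ∣ 20160) :
    5 ∣ Nat.card H ∨ 7 ∣ Nat.card H := by
  by_contra h1
  rw [not_or] at h1
  refine hH (H5.burnside_paqb_dvd (a := 6) (b := 2) Nat.prime_two Nat.prime_three ?_)
  have h5 := (Nat.Prime.coprime_iff_not_dvd Nat.prime_five).2 h1.1
  have h7 := (Nat.Prime.coprime_iff_not_dvd (by norm_num : Nat.Prime 7)).2 h1.2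
  exact (Nat.Coprime.mul_left h5 h7).symm.dvd_of_dvd_mul_right (by simpa using h)

theorem emb_simple_card [IsSimpleGroup H] (hH : ¬ IsMulCommutative H) (f : H →* A8)
    (hf : Function.Injective f) : Nat.card H = 60 ∨ Nat.card H = 360 ∨ Nat.card H = 168 ∨
      Nat.card H = 2520 ∨ Nat.card H = 20160 := by
  have hd := emb_card f hf
  have hs := fun h1 h2 => H10.card_small hH h1 h2
  by_cases h7 : 7 ∣ Nat.card H
  · have := Fact.mk (by norm_num : Nat.Prime 7)
    obtain ⟨P⟩ : Nonempty (Sylow 7 H) := inferInstance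
    obtain ⟨h1, h2⟩ := emb_simple_norm hH f hf P h7
    have h3 := sylow7 hd P h1
    have h4 := card_mul_index (normalizer ((P : Subgroup H) : Set H))
    have h5 : Nat.card H ≠ 1344 := fun h => by
      have := Fact.mk Nat.prime_five
      rcases Cfsg.Agent.S0998.result (G := H) (fun _ => hH inferInstance) 3 2 7 6 Nat.prime_three
        Nat.prime_two (by norm_num) (by norm_num) (by norm_num) (by norm_num) (by rw [h]; norm_num) with
        ⟨F, _, _, hF, ⟨e⟩⟩ | ⟨F, _, _, hF, ⟨e⟩⟩
      · have := (Nat.card_congr e.toEquiv).trans (H10.card_PSL2_of 60 hF (by norm_num))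
        omega
      · have := (Nat.card_congr e.toEquiv).trans (H10.card_PSL2_of 168 hF (by norm_num))
        omega
    rw [h2] at h4
    generalize (normalizer ((P : Subgroup H) : Set H)).index = n at h3 h4
    rw [← h4] at hd hs h5 ⊢
    have h6 : n ∣ 960 := Nat.dvd_of_mul_dvd_mul_left (by norm_num : 0 < 21) hd
    have h8 : n ∈ Nat.divisors 960 := Nat.mem_divisors.2 ⟨h6, by norm_num⟩
    have h9 : ∀ n ∈ Nat.divisors 960, n % 7 = 1 → n = 1 ∨ n = 8 ∨ n = 15 ∨ n = 64 ∨ n = 120 ∨ n = 960 := by
      decide +kernel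
    rcases h9 n h8 h3 with rfl | rfl | rfl | rfl | rfl | rfl <;> simp at hs h5 ⊢
  · have h1 : Nat.card H ∣ 2880 :=
      ((Nat.Prime.coprime_iff_not_dvd (by norm_num : Nat.Prime 7)).2 h7).symm.dvd_of_dvd_mul_right
        (by simpa using hd)
    have h2 : Nat.card H ≠ 2880 := fun h => by
      have h3 : f.range.index = 7 := by
        have := card_mul_index f.range
        rw [card_A8, ← Nat.card_congr (MonoidHom.ofInjective hf).toEquiv, h] at this
        omega
      have : IsSimpleGroup A8 := alternatingGroup.isSimpleGroup (by simp)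
      have h4 := card_dvd_of_injective (MulAction.toPermHom A8 (A8 ⧸ f.range)) (by
        rw [← MonoidHom.ker_eq_bot_iff, ← normalCore_eq_ker]
        refine (normalCore_normal _).eq_bot_or_eq_top.resolve_right fun e => ?_
        rw [show f.range = ⊤ from top_le_iff.1 (e ▸ normalCore_le f.range), index_top] at h3
        omega)
      rw [Nat.card_perm, card_A8, ← index, h3] at h4
      norm_num [Nat.factorial] at h4
    have h8 : Nat.card H ∈ Nat.divisors 2880 := Nat.mem_divisors.2 ⟨h1, by norm_num⟩
    have h9 : ∀ n ∈ Nat.divisors 2880, n = 2880 ∨ n = 1440 ∨ n ≤ 1092 := by decide +kernel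
    have h3 : Nat.card H ≤ 1092 ∨ Nat.card H = 1440 := by
      rcases h9 _ h8 with h | h | h <;> omega
    have h4 := hs (by omega) (Or.inl (h3.imp id fun h => by simp [h]))
    simp only [List.mem_cons, List.not_mem_nil, or_false] at h4
    rcases h4 with h | h | h | h | h | h | h | h | h | h <;> simp [h] at h1 ⊢

/-- Two commuting non-solvable subgroups cannot meet trivially. -/
theorem emb_not_two (f : H →* A8) (hf : Function.Injective f) {A B : Subgroup H}
    (hA : ¬ Group.IsSolvable A) (hB : ¬ Group.IsSolvable B) (hc : ∀ a ∈ A, ∀ b ∈ B, Commute a b)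
    (hd : Disjoint A B) : False := by
  have hH := emb_card f hf
  have h1 : Nat.card A * Nat.card B ∣ 20160 := by
    refine Dvd.dvd.trans ?_ hH
    rw [← Nat.card_prod]
    refine card_dvd_of_injective (A.subtype.noncommCoprod B.subtype fun a b => hc a a.2 b b.2) ?_
    rw [injective_iff_map_eq_one]
    rintro ⟨a, b⟩ h
    have h2 : (a : H) = (b : H)⁻¹ := eq_inv_of_mul_eq_one_left h
    have h3 : (a : H) = 1 := disjoint_def.1 hd a.2 (h2 ▸ inv_mem b.2)
    exact Prod.ext (Subtype.ext h3) (Subtype.ext (inv_eq_one.1 (h2 ▸ h3)))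
  have key : ∀ {A B : Subgroup H}, (∀ a ∈ A, ∀ b ∈ B, Commute a b) → 5 ∣ Nat.card A →
      7 ∣ Nat.card B → False := fun {A B} hc h5 h7 => by
    have := Fact.mk Nat.prime_five
    have := Fact.mk (by norm_num : Nat.Prime 7)
    obtain ⟨x, hx⟩ := exists_prime_orderOf_dvd_card' 5 h5
    obtain ⟨y, hy⟩ := exists_prime_orderOf_dvd_card' 7 h7
    rw [← orderOf_coe] at hx hy
    have h2 := (hc x x.2 y y.2).orderOf_mul_eq_mul_orderOf_of_coprime (by rw [hx, hy]; norm_num)
    rw [hx, hy] at h2
    have := emb_ord7 f hf _ (h2 ▸ dvd_mul_left _ _)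
    omega
  rcases dvd_five_or_seven hA ((card_subgroup_dvd_card A).trans hH) with h2 | h2 <;>
    rcases dvd_five_or_seven hB ((card_subgroup_dvd_card B).trans hH) with h3 | h3
  · exact absurd ((mul_dvd_mul h2 h3).trans h1) (by norm_num)
  · exact key hc h2 h3
  · exact key (fun a ha b hb => (hc b hb a ha).symm) h3 h2
  · exact absurd ((mul_dvd_mul h2 h3).trans h1) (by norm_num)

/-- If no nontrivial normal subgroup is solvable, there is a simple normal subgroup with trivial
centraliser. -/
theorem emb_socle (f : H →* A8) (hf : Function.Injective f) [Nontrivial H]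
    (hs : ∀ N : Subgroup H, N.Normal → Group.IsSolvable N → N = ⊥) :
    ∃ N : Subgroup H, N.Normal ∧ IsSimpleGroup N ∧ ¬ IsMulCommutative N ∧
      centralizer (N : Set H) = ⊥ := by
  obtain ⟨N, hN, h0, -, hmin⟩ := H1.exists_minimal_normal_le (⊤ : Subgroup H) top_ne_bot
  have hNs : ¬ Group.IsSolvable N := fun h => h0 (hs N hN h)
  have hc : centralizer (N : Set H) = ⊥ := by
    refine hs _ inferInstance (by_contra fun h => emb_not_two f hf hNs h
      (fun a ha b hb => hb a ha) (disjoint_iff.2 ?_))
    refine (hmin _ inferInstance inf_le_left).resolve_right fun e => hNs ?_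
    refine Group.isSolvable_of_comm fun a b => Subtype.ext ?_
    exact (e.ge b.2).2 a a.2
  obtain ⟨T, _, m, hT, hm, ⟨e⟩⟩ := H16.exists_pi_of_minimal_normal N h0 hmin
  have hTs : ¬ Group.IsSolvable T := fun h => hNs (Group.isSolvable_of_comm fun a b =>
    e.injective (by
      rw [map_mul, map_mul]; funext i; exact IsSimpleGroup.comm_iff_isSolvable.2 h _ _))
  have hm1 : m = 1 := by
    by_contra h
    have : Finite T := Finite.of_injective (fun t => e.symm (Pi.mulSingle ⟨0, hm⟩ t))
      (e.symm.injective.comp (Pi.mulSingle_injective _))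
    have h1 : Nat.card T * Nat.card T ∣ 20160 := by
      refine Dvd.dvd.trans ?_ ((card_subgroup_dvd_card N).trans (emb_card f hf))
      rw [Nat.card_congr e.toEquiv, Nat.card_fun, Nat.card_eq_fintype_card (α := Fin m),
        Fintype.card_fin, ← sq]
      exact pow_dvd_pow _ (by omega)
    rcases dvd_five_or_seven hTs ((dvd_mul_right _ _).trans h1) with h2 | h2 <;>
      exact absurd ((mul_dvd_mul h2 h2).trans h1) (by norm_num)
  subst hm1
  exact ⟨N, hN, (e.trans (MulEquiv.piUnique _)).isSimpleGroup,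
    fun h => hNs (Group.isSolvable_of_comm fun a b => h.is_comm.comm a b), hc⟩

/-- A normal subgroup meeting `N` trivially is trivial when `C(N) = 1`. -/
theorem eq_bot_of_disjoint_of_cent {G : Type*} [Group G] {N K : Subgroup G} [N.Normal] [K.Normal]
    (hc : centralizer (N : Set G) = ⊥) (h : Disjoint K N) : K = ⊥ :=
  eq_bot_iff.2 (hc ▸ fun k hk n hn => (commute_of_normal_of_disjoint K N inferInstance inferInstance h k n hk hn).symm.eq)

theorem equiv_perm_or {n : ℕ} {N : Subgroup H} (g : H →* Equiv.Perm (Fin n)) (hg : Function.Injective g)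
    (h : 2 * Nat.card N = n.factorial) : N = ⊤ ∨ Nonempty (H ≃* Equiv.Perm (Fin n)) := by
  have h1 := card_dvd_of_injective g hg
  rw [Nat.card_perm, Nat.card_eq_fintype_card (α := Fin n), Fintype.card_fin] at h1
  have h2 := card_mul_index N
  have h3 : N.index ∣ 2 := by
    rw [← h, ← h2, mul_comm 2] at h1
    exact Nat.dvd_of_mul_dvd_mul_left Nat.card_pos h1
  rcases (Nat.dvd_prime Nat.prime_two).1 h3 with h4 | h4
  · exact Or.inl (index_eq_one.1 h4)
  · refine Or.inr ⟨MulEquiv.ofBijective g ((Nat.bijective_iff_injective_and_card g).2 ⟨hg, ?_⟩)⟩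
    rw [Nat.card_perm, Nat.card_eq_fintype_card (α := Fin n), Fintype.card_fin, ← h, ← h2, h4, mul_comm]

omit [Finite H] in
theorem emb_perm5 {N : Subgroup H} [N.Normal] (hc : centralizer (N : Set H) = ⊥)
    (e : N ≃* alternatingGroup (Fin 5)) : ∃ g : H →* Equiv.Perm (Fin 5), Function.Injective g := by
  let a := MulEquiv.ofBijective _ (Cfsg.Agent.S2119.result 5 (by norm_num) (by norm_num))
  refine ⟨a.symm.toMonoidHom.comp ((MulAut.congr e).toMonoidHom.comp (MulAut.conjNormal (H := N))),
    a.symm.injective.comp ((MulAut.congr e).injective.comp ?_)⟩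
  rw [injective_iff_map_eq_one]
  intro x hx
  refine mem_bot.1 (hc ▸ fun n hn => ?_)
  have := congrArg Subtype.val (DFunLike.congr_fun hx ⟨n, hn⟩)
  simp only [MulAut.conjNormal_apply, MulAut.one_apply] at this
  exact (mul_inv_eq_iff_eq_mul.1 this).symm

theorem no45 {G : Type*} [Group G] [Finite G] [IsSimpleGroup G] (h : Nat.card G = 360)
    (K : Subgroup G) : Nat.card K ≠ 45 := fun hK => by
  have := Fact.mk Nat.prime_five
  obtain ⟨P⟩ : Nonempty (Sylow 5 K) := inferInstance
  have hP : Nat.card P = 5 := by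
    rw [P.card_eq_multiplicity, hK]
    have : Nat.factorization 45 5 = 1 := by
      rw [show 45 = 5 ^ 1 * 9 by norm_num, Nat.factorization_mul (by norm_num) (by norm_num),
        Finsupp.add_apply, Nat.Prime.factorization_pow Nat.prime_five,
        Nat.factorization_eq_zero_of_not_dvd (by norm_num)]
      simp
    rw [this, pow_one]
  let Q := (P : Subgroup K).map K.subtype
  have hQ : Nat.card Q = 5 := by rw [card_map_of_injective K.subtype_injective, hP]
  have h1 := Cfsg.Agent.S0196.result Q fun x hx h1 => by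
    have h2 : orderOf x = 5 := by
      have := orderOf_eq_prime (x := (⟨x, hx⟩ : Q)) (p := 5) (hQ ▸ pow_card_eq_one')
        (fun e => h1 (congrArg Subtype.val e))
      rwa [← orderOf_coe] at this
    rw [Cfsg.Agent.S1001.result 5 2 3 Nat.prime_five (by rw [h]; norm_num) x h2]
    exact eq_of_le_of_card_ge (zpowers_le.2 hx) (by rw [Nat.card_zpowers, h2, hQ])
  have h2 : (normalizer ((P : Subgroup K) : Set K)).index = 1 := by
    have h3 := card_sylow_modEq_one 5 K
    have h4 := P.card_dvd_index
    have h5 := card_mul_index (P : Subgroup K)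
    rw [hP, hK] at h5
    rw [show (P : Subgroup K).index = 9 by omega] at h4
    refine P.card_eq_index_normalizer.symm.trans ?_
    have := Nat.le_of_dvd (by norm_num) h4
    generalize Nat.card (Sylow 5 K) = n at *
    interval_cases n <;> simp [Nat.ModEq] at *
  have h3 : K ≤ normalizer (Q : Set G) := by
    have := le_normalizer_map (H := (P : Subgroup K)) K.subtype
    rwa [index_eq_one.1 h2, ← MonoidHom.range_eq_map, range_subtype] at this
  have h4 := card_dvd_of_le h3
  rw [← card_mul_index (Q.subgroupOf (normalizer (Q : Set G))),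
    Nat.card_congr (subgroupOfEquivOfLe le_normalizer).toEquiv, hQ, hK] at h4
  rw [hQ] at h1
  exact absurd (h4.trans (mul_dvd_mul_left 5 h1)) (by norm_num)

theorem card_dvd_fact_index {G : Type*} [Group G] [Finite G] [IsSimpleGroup G] {K : Subgroup G}
    (h : K ≠ ⊤) : Nat.card G ∣ K.index.factorial := by
  have h4 := card_dvd_of_injective (MulAction.toPermHom G (G ⧸ K)) (by
    rw [← MonoidHom.ker_eq_bot_iff, ← normalCore_eq_ker]
    exact (normalCore_normal _).eq_bot_or_eq_top.resolve_right fun e =>
      h (top_le_iff.1 (e ▸ normalCore_le K)))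
  rwa [Nat.card_perm] at h4

theorem emb_perm6 (f : H →* A8) (hf : Function.Injective f) {N : Subgroup H} [N.Normal]
    [IsSimpleGroup N] (hN : Nat.card N = 360) (hc : centralizer (N : Set H) = ⊥) :
    ∃ g : H →* Equiv.Perm (Fin 6), Function.Injective g := by
  classical
  let φ : H →* Equiv.Perm (Fin 8) := (alternatingGroup _).subtype.comp f
  have hφ : Function.Injective φ := (subtype_injective _).comp hf
  let _ : MulAction H (Fin 8) := MulAction.compHom _ φ
  have hfix : ∀ h : H, (∀ x : Fin 8, h • x = x) → h = 1 := fun h hh =>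
    hφ (by rw [map_one]; exact Equiv.ext hh)
  let S : SubMulAction H (Fin 8) :=
    { carrier := {x | ∃ n ∈ N, n • x ≠ x}
      smul_mem' := by
        rintro h x ⟨n, hn, hx⟩
        refine ⟨h * n * h⁻¹, Normal.conj_mem inferInstance n hn h, fun e => hx ?_⟩
        rwa [smul_smul, inv_mul_cancel_right, mul_smul, smul_left_cancel_iff] at e }
  have horb : ∀ x ∈ S, Nat.card (MulAction.orbit N x) = 6 := by
    rintro x ⟨n, hn, hx⟩
    have h1 : MulAction.stabilizer N x ≠ ⊤ := fun e =>
      hx (MulAction.mem_stabilizer_iff.1 (e.ge (mem_top (⟨n, hn⟩ : N))))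
    have h2 := card_dvd_fact_index h1
    have h3 := card_mul_index (MulAction.stabilizer N x)
    have h4 := no45 hN (MulAction.stabilizer N x)
    rw [MulAction.index_stabilizer, ← Nat.card_coe_set_eq] at h2 h3
    have h5 : Nat.card (MulAction.orbit N x) ≤ 8 := by
      simpa using Finite.card_subtype_le (· ∈ MulAction.orbit N x)
    rw [hN] at h2 h3
    generalize Nat.card (MulAction.orbit N x) = m at *
    interval_cases m <;> first | rfl | omega | norm_num [Nat.factorial] at h2
  have hS : Nat.card S = 6 := by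
    obtain ⟨n, hn⟩ := exists_ne (1 : N)
    obtain ⟨x, hx⟩ : ∃ x : Fin 8, (n : H) • x ≠ x := by
      by_contra h; push Not at h; exact hn (Subtype.ext (hfix _ h))
    have hx' : x ∈ S := ⟨n, n.2, hx⟩
    rw [← horb x hx']
    refine congrArg (fun s : Set (Fin 8) => Nat.card s) (Set.Subset.antisymm (fun y hy => ?_) ?_)
    · by_contra hn
      have h1 : Disjoint (MulAction.orbit N y) (MulAction.orbit N x) := by
        rw [Set.disjoint_left]
        intro z h1 h2
        exact hn (by rw [← MulAction.orbit_eq_iff.2 h2, MulAction.orbit_eq_iff.2 h1]; exact MulAction.mem_orbit_self y)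
      have h2 := Set.ncard_union_eq h1
      have h3 := Set.ncard_le_card (MulAction.orbit N y ∪ MulAction.orbit N x)
      rw [← Nat.card_coe_set_eq (MulAction.orbit N y), ← Nat.card_coe_set_eq (MulAction.orbit N x), horb x hx', horb y hy] at h2
      simp [h2] at h3
    · rintro _ ⟨m, rfl⟩
      exact S.smul_mem (m : H) hx'
  have e : S ≃ Fin 6 := Finite.equivFinOfCardEq hS
  refine ⟨e.permCongrHom.toMonoidHom.comp (MulAction.toPermHom H S), e.permCongrHom.injective.comp ?_⟩
  rw [← MonoidHom.ker_eq_bot_iff]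
  refine eq_bot_of_disjoint_of_cent hc (disjoint_def.2 fun {h} h1 h2 => hfix h fun x => ?_)
  by_contra hx
  exact hx (congrArg Subtype.val (DFunLike.congr_fun (MonoidHom.mem_ker.1 h1) (⟨x, h, h2, hx⟩ : S)))

/-- Subgroups of `A₈` without nontrivial solvable normal subgroups. -/
theorem emb_class (f : H →* A8) (hf : Function.Injective f) [Nontrivial H]
    (hs : ∀ N : Subgroup H, N.Normal → Group.IsSolvable N → N = ⊥) :
    (∃ n : ℕ, 5 ≤ n ∧ n ≤ 8 ∧ Nonempty (H ≃* alternatingGroup (Fin n))) ∨
    Nonempty (H ≃* Equiv.Perm (Fin 5)) ∨ Nonempty (H ≃* Equiv.Perm (Fin 6)) ∨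
      (IsSimpleGroup H ∧ Nat.card H = 168) := by
  obtain ⟨N, hN, hsimp, hna, hc⟩ := emb_socle f hf hs
  have hf' : Function.Injective (f.comp N.subtype) := hf.comp N.subtype_injective
  have htop : N = ⊤ → Nonempty (H ≃* N) := fun e => ⟨(topEquiv.symm).trans (MulEquiv.subgroupCongr e.symm)⟩
  have h7 : 7 ∣ Nat.card N → N = ⊤ := fun h7 => by
    have := Fact.mk (by norm_num : Nat.Prime 7)
    obtain ⟨P⟩ : Nonempty (Sylow 7 N) := inferInstance
    obtain ⟨h1, h2⟩ := emb_simple_norm hna _ hf' P h7
    have h3 := emb_norm21 f hf ((P : Subgroup N).map N.subtype)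
      (by rw [card_map_of_injective N.subtype_injective, h1])
    have h4 : (normalizer ((P : Subgroup N) : Set N)).map N.subtype =
        normalizer (((P : Subgroup N).map N.subtype : Subgroup H) : Set H) :=
      eq_of_le_of_card_ge (le_normalizer_map _) (by
        rw [card_map_of_injective N.subtype_injective, h2]; exact Nat.le_of_dvd (by norm_num) h3)
    have h5 := P.normalizer_sup_eq_top
    rwa [← h4, sup_eq_right.2 (map_subtype_le _)] at h5
  rcases emb_simple_card hna _ hf' with h | h | h | h | h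
  · obtain ⟨e⟩ := Cfsg.Agent.S0494.result h
    obtain ⟨g, hg⟩ := emb_perm5 hc e
    rcases equiv_perm_or (N := N) g hg (by rw [h]; rfl) with h1 | h1
    · exact Or.inl ⟨5, le_rfl, by norm_num, ⟨(htop h1).some.trans e⟩⟩
    · exact Or.inr (Or.inl h1)
  · obtain ⟨e⟩ := Cfsg.Agent.S0497.result h
    obtain ⟨g, hg⟩ := emb_perm6 f hf h hc
    rcases equiv_perm_or (N := N) g hg (by rw [h]; rfl) with h1 | h1
    · exact Or.inl ⟨6, by norm_num, by norm_num, ⟨(htop h1).some.trans e⟩⟩
    · exact Or.inr (Or.inr (Or.inl h1))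
  · obtain ⟨e⟩ := htop (h7 (by rw [h]; norm_num))
    exact Or.inr (Or.inr (Or.inr ⟨e.isSimpleGroup, (Nat.card_congr e.toEquiv).trans h⟩))
  · obtain ⟨e⟩ := htop (h7 (by rw [h]; norm_num))
    exact Or.inl ⟨7, by norm_num, by norm_num, ⟨e.trans (Cfsg.Agent.S0984.result h).some⟩⟩
  · obtain ⟨e⟩ := htop (h7 (by rw [h]; norm_num))
    exact Or.inl ⟨8, by norm_num, le_rfl, ⟨MulEquiv.ofBijective f
      ((Nat.bijective_iff_injective_and_card f).2 ⟨hf, by
        rw [Nat.card_congr e.toEquiv, h, card_A8]⟩)⟩⟩

end H6
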