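import Cfsg.Agent.H18.FL
/-! Tools for the `N4` pieces: the dihedral lemma `dl` modulo a normal subgroup, the odd layer `exists_odd`
of a solvable group with `O₂(X/N) = 1`, coprime action `cop`. -/
set_option autoImplicit false
namespace H6.FD
open Cfsg Subgroup H26 H4 H118
open scoped Pointwise commutatorElement

local notation "O²" => pResidualOf 2

variable {G : Type*} [Group G] [Finite G] {A E N X Y W T K : Subgroup G} {x : G}

/-- `E` has odd order modulo `N` -/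
def OddM (E N : Subgroup G) : Prop := ∀ P ≤ E, IsPGroup 2 P → P ≤ N

/-- `B` has index at most two in `A` -/
def Ix2 (B A : Subgroup G) : Prop := ∀ a ∈ A, ∀ b ∈ A, a ∉ B → b ∉ B → a * b ∈ B

omit [Finite G] in
theorem OddM.mono (h : OddM E N) (h1 : K ≤ E) (h2 : N ≤ Y) : OddM K Y := fun P hP hp => (h P (hP.trans h1) hp).trans h2

theorem OddM.not_dvd (h : OddM E N) : ¬ 2 ∣ N.relIndex E :=
  let ⟨_, hT⟩ := exists_isSyl 2 E; hT.not_dvd_relIndex_of_le (h _ hT.le hT.isP)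

open H18 in
theorem OddM.sq (h : OddM E N) (hn : E ≤ 𝐍 N) (hx : x ∈ E) (h2 : x * x ∈ N) : x ∈ N := by
  have e := (cs_eq_one_iff (hn (mul_mem hx hx))).2 h2
  rw [mfun_mul (hn hx) (hn hx), ← pow_two] at e
  have d := orderOf_dvd_natCard _ (mfun_mem_mim (f := coset N) hx)
  rw [card_quo hn] at d
  rcases (Nat.dvd_prime Nat.prime_two).1 (orderOf_dvd_of_pow_eq_one e) with k | k
  · exact (cs_eq_one_iff (hn hx)).1 (orderOf_eq_one_iff.1 k)
  · exact (h.not_dvd (k ▸ d)).elim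

omit [Finite G] in
theorem Ix2.relIndex_le {B : Subgroup G} (h : Ix2 B A) : B.relIndex A ≤ 2 := by
  by_cases e : A ≤ B
  · rw [relIndex_eq_one.2 e]; omega
  obtain ⟨a, ha, hb⟩ := SetLike.not_le_iff_exists.1 e
  refine (index_eq_two_iff.2 ⟨⟨a, ha⟩, fun b => ?_⟩).le
  simp only [mem_subgroupOf, coe_mul]
  by_cases k : (b : G) ∈ B
  · exact .inr ⟨k, fun k' => hb ((mul_mem_cancel_left k).1 k')⟩
  · exact .inl ⟨h _ b.2 _ ha k hb, k⟩

open H18 in
/-- the dihedral lemma -/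
theorem dl (hA : A ≤ 𝐍 N) (hE : E ≤ 𝐍 N) (hn : A ≤ 𝐍 E) (h2 : ∀ a ∈ A, a * a ∈ N) (ho : OddM E N)
    (hY : N ≤ Y) (h : ¬ E ≤ Y) : ∃ B ≤ A, A ⊓ N ≤ B ∧ Ix2 B A ∧ ∃ η ∈ E, η ∉ Y ∧ ∀ t ∈ B, ⁅η, t⁆ ∈ N := by
  by_cases e : A ≤ N
  · obtain ⟨η, h1, h3⟩ := SetLike.not_le_iff_exists.1 h
    exact ⟨A, le_rfl, inf_le_left, fun a ha _ _ k => (k ha).elim, η, h1, h3, fun t ht =>
      commutator_le_of_le_normalizer' hE (commutator_mem_commutator h1 (e ht))⟩
  have ea : IsElementaryAbelian 2 (A ⫽ N) := elemAb_two_of_sq fun x hx => by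
    obtain ⟨a, ha, rfl⟩ := (mem_quo hA).1 hx
    rw [← mfun_mul (hA ha) (hA ha)]
    exact cs_eq_one (h2 a ha)
  by_contra k
  refine h ((le_of_quo_le (B := Y ⊓ 𝐍 N) hE ⟨le_inf hY le_normalizer, inf_le_right⟩ (le_of_hyperplanes ea
    (fun k => e ((quo_eq_bot_iff hA).1 k)) (mim_norm hn) ?_ fun B hB hm z hz => ?_)).trans inf_le_left)
  · rw [card_quo hE]
    exact ((Nat.Prime.coprime_iff_not_dvd Nat.prime_two).2 ho.not_dvd).symm
  obtain ⟨η, hη, rfl⟩ := (mem_quo hE).1 hz.1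
  refine mfun_mem_mim ⟨by_contra fun n => k ⟨A ⊓ qpre N B, inf_le_left, inf_le_inf_left _ le_qpre,
    fun a ha b hb na nb => ⟨mul_mem ha hb, ?_⟩, η, hη, n, fun t ht => ?_⟩, hE hη⟩
  · have na' : cs N a ∉ B := fun k => na ⟨ha, mem_mpre.2 ⟨hA ha, k⟩⟩
    have nb' : cs N b ∉ B := fun k => nb ⟨hb, mem_mpre.2 ⟨hA hb, k⟩⟩
    have ma := mfun_mem_mim (f := coset N) ha
    have e1 := (hm (zpowers (cs N a) ⊔ B) le_sup_right (sup_le (zpowers_le.2 ma) hB.le)).resolve_left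
      fun k => na' (k ▸ mem_sup_left (mem_zpowers _))
    have s : cs N a * cs N a = 1 := by rw [← pow_two]; exact ea.2 _ ma
    refine mem_mpre.2 ⟨hA (mul_mem ha hb), ?_⟩
    rw [mfun_mul (hA ha) (hA hb), ← inv_eq_of_mul_eq_one_right s]
    exact (mem_or_of_sq (centralizer_le_normalizer _ (centralizer_anti hB.le (elemAb_le_centralizer ea ma)))
      (s ▸ one_mem _) (e1.ge (mfun_mem_mim hb))).resolve_left nb'
  · rw [← cs_eq_one_iff (commutator_le_of_le_normalizer le_normalizer (commutator_mem_commutator (hE hη) (hA ht.1))), mfun_comm (hE hη) (hA ht.1),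
      commutatorElement_eq_one_iff_mul_comm]
    exact (hz.2 _ (mem_mpre.1 ht.2).2).symm

open H18 in
/-- the odd layer -/
theorem exists_odd (hs : Group.IsSolvable X) (hn : X ≤ 𝐍 N) (hr : RedM X N) : ∃ F ≤ X, X ≤ 𝐍 F ∧ OddM F N ∧
    ∀ A ≤ X, (∀ a ∈ A, a * a ∈ N) → ⁅F, A⁆ ≤ N → A ≤ N := by
  have o : pCoreOf 2 (X ⫽ N) = ⊥ := by
    have e : (X ⊓ qpre N (pCoreOf 2 (X ⫽ N))) ⫽ N = _ := mim_inf_mpre_of_le (pCoreOf_le 2 _)
    have n : X ⊓ qpre N (pCoreOf 2 (X ⫽ N)) ≤ 𝐍 N := inf_le_left.trans hn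
    rw [← e, quo_eq_bot_iff n]
    refine hr _ inf_le_left (le_normalizer_inf le_normalizer (norm_mpre hn (le_normalizer_pCoreOf 2 _))) ?_
    rw [← quo_eq_bot_iff ((pResidualOf_le _ _).trans n), mim, ← pResidualOf_subgroupOf n, map_pResidualOf]
    exact pResidualOf_eq_bot_iff.2 ((isPGroup_pCoreOf 2 _).to_le e.le)
  have c := (pSol_of_solvable (p := 2) (Solv.mim (f := coset N) hs)).centralizer_oQ_le o
  have e : (X ⊓ qpre N (H17.oQ 2 (X ⫽ N))) ⫽ N = _ := mim_inf_mpre_of_le (H17.oQ_le 2 _)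
  have key : ∀ P ≤ X, IsPGroup 2 (P ⫽ N) → P ⫽ N ≤ H17.oQ 2 (X ⫽ N) → P ≤ N := fun P h1 h2 h3 => by
    rw [← quo_eq_bot_iff (h1.trans hn)]
    obtain ⟨k, hk⟩ := h2.exists_card_eq
    cases k with
    | zero => exact card_eq_one.1 hk
    | succ k => exact (H17.oQ_not_dvd 2 _ ((hk ▸ dvd_pow_self 2 k.succ_ne_zero).trans (card_dvd_of_le h3))).elim
  refine ⟨X ⊓ qpre N (H17.oQ 2 (X ⫽ N)), inf_le_left, le_normalizer_inf le_normalizer
    (norm_mpre hn (H17.le_normalizer_oQ 2 _)), fun P hP hp => key P (hP.trans inf_le_left)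
    ((hp.comap_subtype).map _) (e ▸ mim_mono hP), fun A hA h2 h => key A hA (elemAb_isPGroup
    (elemAb_two_of_sq fun x hx => ?_)) (le_trans (le_inf (mim_mono hA) ?_) c)⟩
  · obtain ⟨a, ha, rfl⟩ := (mem_quo (hA.trans hn)).1 hx
    rw [← mfun_mul (hn (hA ha)) (hn (hA ha))]
    exact cs_eq_one (h2 a ha)
  · rw [← e, ← comm_le_iff_quo (hA.trans hn) (inf_le_left.trans hn), commutator_comm]
    exact h

/-- coprime action: a normal subgroup of odd action that centralizes `C_W(T)` centralizes `W` -/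
theorem cop (hW : IsElementaryAbelian 2 W) (hT : IsSyl 2 T X) (h1 : X ≤ 𝐍 W) (h2 : K ≤ X) (h3 : X ≤ 𝐍 K)
    (ho : OddM K (𝐂 W)) (h : W ⊓ 𝐂 T ≤ 𝐂 K) : K ≤ 𝐂 W := by
  have s := hT.inf_of_normal h3 h2
  refine le_centralizer_iff.1 (le_trans (le_inf le_rfl (le_centralizer_iff.1 (ho _ s.le s.isP)))
    (le_centralizer_of_transfer (elemAb_le_centralizer hW) (elemAb_isPGroup hW) (h2.trans h1) s hT.isP
    (hT.le.trans h1) (hT.le.trans h3) (le_normalizer_inf le_normalizer (hT.le.trans h3))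
    (le_trans (inf_le_inf_right _ inf_le_left) h)))

end H6.FD
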