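import Cfsg.Agent.H18.FE5
/-! The module part of piece E1 of N4: an elementary abelian group `P` acting nearly quadratically on `B/⟨y⟩`
and fixing a vector which generates `B/⟨y⟩` (`H6.FE.Nq.core`). -/
set_option autoImplicit false
set_option linter.unusedSectionVars false
namespace H6.FE
open Cfsg Subgroup H26 H4 H118
open scoped Pointwise commutatorElement

variable {G : Type*} [Group G] [Finite G] {B H T K P J B₀ : Subgroup G} {y e s t c u v w j : G}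

/-- if `s` inverts `e`, a vector of an `e`-invariant subgroup of `[B,e]` fixed by `s` is a commutator -/
theorem free (h : Mo y B H T) (i : In H T e s) (hK : K ≤ We B e) (eK : e ∈ 𝐍 K) (hw : w ∈ K)
    (h1 : ⁅s, w⁆ ∈ zpowers y) : ∃ v ∈ K, ⁅s, v⁆ = w := by
  have eH := Mo.eH i
  have W := h.We_le eH
  have inj : ∀ v ∈ We B e, ∀ v' ∈ We B e, e * v * e⁻¹ * (e⁻¹ * v * e) = e * v' * e⁻¹ * (e⁻¹ * v' * e) → v = v' :=
    fun v hv v' hv' k => by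
      have a := h.conjU eH (W hv)
      have a' := h.conjU eH (W hv')
      have b := h.conjU (inv_mem eH) (W hv)
      have b' := h.conjU (inv_mem eH) (W hv')
      rw [inv_inv] at b b'
      have k2 : e * (v * v') * e⁻¹ = e⁻¹ * (v * v') * e := by
        rw [show e * (v * v') * e⁻¹ = e * v * e⁻¹ * (e * v' * e⁻¹) by group,
          show e⁻¹ * (v * v') * e = e⁻¹ * v * e * (e⁻¹ * v' * e) by group]
        generalize e * v * e⁻¹ = p at *
        generalize e * v' * e⁻¹ = p' at *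
        generalize e⁻¹ * v * e = r at *
        generalize e⁻¹ * v' * e = r' at *
        rw [eq_mul_inv_of_mul_eq k, h.inv b, h.cm (mul_mem (mul_mem a' b') b) a', ← mul_assoc, ← mul_assoc, h.sq a',
          one_mul, h.cm b' b]
      have k3 : e ∈ 𝐂 (zpowers (v * v')) := mem_of_sq_mem i.od (mem_c_of_conj_eq (by
        rw [show e * e * (v * v') * (e * e)⁻¹ = e * (e * (v * v') * e⁻¹) * e⁻¹ by group, k2]; group))
      have := h.disj eH i.od (mul_mem hv hv') (mem_Ce.2 ⟨W (mul_mem hv hv'), conj_eq_of_mem_c k3⟩)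
      rw [eq_inv_of_mul_eq_one_left this, h.inv (W hv')]
  let f : K → K := fun v => ⟨e * v * e⁻¹ * (e⁻¹ * v * e),
    mul_mem (conj_mem_of_mem_normalizer eK v.2) (conj_mem_of_mem_normalizer' eK v.2)⟩
  obtain ⟨⟨v, hv⟩, k⟩ := Finite.injective_iff_surjective.1
    (show Function.Injective f from fun a b k => Subtype.ext (inj _ (hK a.2) _ (hK b.2) (congrArg Subtype.val k))) ⟨w, hw⟩
  have k1 : e * v * e⁻¹ * (e⁻¹ * v * e) = w := congrArg Subtype.val k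
  have sw := conj_eq_of_comm (h.WZ_one eH i.od (h.commW i (hK hw)) h1)
  have a := h.conjU eH (W (hK hv))
  have b := h.conjU (inv_mem eH) (W (hK hv))
  rw [inv_inv] at b
  have sv := conj_mem_of_mem_normalizer (h.t_nW i) (hK hv)
  have e1 : ∀ x, s * (e * x * e⁻¹) * s⁻¹ = e⁻¹ * (s * x * s⁻¹) * e := fun x => by
    rw [show s * (e * x * e⁻¹) * s⁻¹ = s * e * s⁻¹ * (s * x * s⁻¹) * (s * e * s⁻¹)⁻¹ by group, i.inv, inv_inv]
  have e2 : ∀ x, s * (e⁻¹ * x * e) * s⁻¹ = e * (s * x * s⁻¹) * e⁻¹ := fun x => by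
    rw [show s * (e⁻¹ * x * e) * s⁻¹ = (s * e * s⁻¹)⁻¹ * (s * x * s⁻¹) * (s * e * s⁻¹) by group, i.inv, inv_inv]
  have k2 : s * v * s⁻¹ = v := inj _ sv _ (hK hv) (by
    rw [← e1, ← e2, conj_mul, h.cm b a, k1, sw])
  refine ⟨_, conj_mem_of_mem_normalizer eK hv, ?_⟩
  rw [commutatorElement_def, e1, k2, h.inv a, h.cm b a, k1]

/-- the nearly quadratic configuration modulo `⟨y⟩` -/
structure Nq (y : G) (B H T P B₀ J : Subgroup G) : Prop extends Mo y B H T where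
  PH : P ≤ H
  eP : IsElementaryAbelian 2 P
  le : B₀ ≤ B
  ne : ¬ B ≤ B₀
  two : ∀ u ∈ B, ∀ v ∈ B, u ∉ B₀ → v ∉ B₀ → u * v ∈ B₀
  y0 : y ∈ B₀
  J0 : J ≤ B₀
  cB : ∀ s ∈ P, ∀ u ∈ B₀, ⁅s, u⁆ ∈ J
  cJ : ∀ s ∈ P, ∀ u ∈ J, ⁅s, u⁆ = 1
  inj : ∀ u ∈ B, u ∉ B₀ → ∀ s ∈ P, ⁅s, u⁆ ∈ J ⊔ zpowers y → s ∈ T
  sur : ∀ u ∈ B, u ∉ B₀ → ∀ K : Subgroup G, (∀ s ∈ P, ⁅s, u⁆ ∈ K) → B₀ ≤ K ⊔ J
  sol1 : ∀ e s, In H T e s → s ∈ P → ∀ i ∈ J, i ∈ Ce B e → i ≠ 1 → We B e ≤ B₀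

namespace Nq
variable (h : Nq y B H T P B₀ J)
include h

theorem JB : J ≤ B := h.J0.trans h.le
theorem Z0 : zpowers y ≤ B₀ := zpowers_le.2 h.y0
theorem dec (hK : K ≤ B) (hu : u ∈ K ⊔ J) : ∃ a ∈ K, ∃ b ∈ J, a * b = u :=
  (mem_sup_of_le_normalizer (hK.trans (h.toMo.le_n h.JB))).1 hu

variable (i : In H T e s) (hs : s ∈ P) (d : ∀ t ∈ P, ⁅t, e⁆ ∈ T ∨ ⁅t * s, e⁆ ∈ T)
include i hs d

theorem nn (ht : t ∈ P) : t ∈ 𝐍 (Ce B e) ∧ t ∈ 𝐍 (We B e ⊔ zpowers y) := by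
  have eH := Mo.eH i
  rcases d t ht with k | k
  · exact ⟨h.n_Ce eH i.od (h.PH ht) (Mo.conj_mem_of_comm k), h.n_WZ eH (h.PH ht) (Mo.conj_mem_of_comm k)⟩
  · have m := h.PH (mul_mem ht hs)
    exact ⟨(mul_mem_cancel_right (h.n_Ce eH i.od i.tH (Mo.t_conj i))).1 (h.n_Ce eH i.od m (Mo.conj_mem_of_comm k)),
      (mul_mem_cancel_right (h.n_WZ eH i.tH (Mo.t_conj i))).1 (h.n_WZ eH m (Mo.conj_mem_of_comm k))⟩

theorem cC (ht : t ∈ P) (hu : u ∈ Ce B e) : ⁅t, u⁆ ∈ Ce B e :=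
  mul_mem (conj_mem_of_mem_normalizer (h.nn i hs d ht).1 hu) (inv_mem hu)

theorem cW (ht : t ∈ P) (hu : u ∈ We B e ⊔ zpowers y) : ⁅t, u⁆ ∈ We B e ⊔ zpowers y :=
  mul_mem (conj_mem_of_mem_normalizer (h.nn i hs d ht).2 hu) (inv_mem hu)

theorem C0 : Ce B e ≤ B₀ := fun u hu => by
  by_contra k
  have eH := Mo.eH i
  have a : ∀ v ∈ B₀, ⁅s, v⁆ ∈ Ce B e := fun v hv => by
    obtain ⟨a, ha, b, hb, rfl⟩ := h.dec inf_le_left (h.sur u hu.1 k _ (fun t ht => h.cC i hs d ht hu) hv)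
    rw [h.comm_mul i.tH ha.1 (h.JB hb), h.cJ s hs b hb, mul_one]
    exact h.cC i hs d hs ha
  obtain ⟨w, hw, k1⟩ := h.exists_comm i
  refine k1 (h.disj eH i.od (h.commW i hw) ?_)
  by_cases k2 : w ∈ B₀
  · exact a w k2
  have := a _ (h.two w (h.We_le eH hw) u hu.1 k2 k)
  rw [h.comm_mul i.tH (h.We_le eH hw) hu.1] at this
  exact (mul_mem_cancel_right (h.cC i hs d hs hu)).1 this

theorem W0 : ¬ We B e ≤ B₀ := fun k => h.ne fun u hu => by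
  obtain ⟨w, hw, γ, hγ, rfl⟩ := h.split (Mo.eH i) i.od hu
  exact mul_mem (k hw) (h.C0 i hs d hγ)

theorem JC (hu : u ∈ J) (h1 : u ∈ Ce B e) : u = 1 := by
  by_contra k
  exact h.W0 i hs d (h.sol1 e s i hs u hu h1 k)

theorem JC' (hu : u ∈ J ⊔ zpowers y) (h1 : u ∈ Ce B e) : u ∈ zpowers y := by
  rw [sup_comm] at hu
  obtain ⟨a, ha, b, hb, rfl⟩ := h.dec h.ZU hu
  rw [h.JC i hs d hb ((mul_mem_cancel_left (h.Z_le_Ce (Mo.eH i) ha)).1 h1), mul_one]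
  exact ha

theorem PC (ht : t ∈ P) (hu : u ∈ Ce B e) : ⁅t, u⁆ = 1 :=
  h.JC i hs d (h.cB t ht u (h.C0 i hs d hu)) (h.cC i hs d ht hu)

theorem comm_split (ht : t ∈ P) (hw : w ∈ We B e) (hu : u ∈ Ce B e) : ⁅t, w * u⁆ = ⁅t, w⁆ := by
  rw [h.comm_mul (h.PH ht) (h.We_le (Mo.eH i) hw) hu.1, h.PC i hs d ht hu, mul_one]

/-- the case `|P : P ∩ T| > 2` -/
theorem big (ht : t ∈ P) (h1 : ⁅t, e⁆ ∈ T) (h2 : t ∉ T) (hj : j ∈ B) (c : ∀ t ∈ P, ⁅t, j⁆ ∈ zpowers y) :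
    j ∈ J ⊔ zpowers y := by
  have eH := Mo.eH i
  have W := h.We_le eH
  have X : ∀ w ∈ We B e, ⁅s, w⁆ ∈ zpowers y → ⁅t, w⁆ ∈ zpowers y → w ∈ J := fun w hw a b => by
    have m : ∀ u ∈ B, u ∈ commStab {t} (zpowers y) ↔ ⁅t, u⁆ ∈ zpowers y := fun u hu =>
      ⟨fun k => by rw [← commutatorElement_inv]; exact inv_mem (k.2 t rfl), fun k =>
        ⟨h.le_n h.ZU hu, fun a ha => by rw [ha, ← commutatorElement_inv]; exact inv_mem k⟩⟩
    obtain ⟨v, hv, rfl⟩ := free h.toMo i (K := We B e ⊓ commStab {t} (zpowers y)) inf_le_left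
      (mem_normalizer_of_cj_le fun x hx => by
        obtain ⟨u, hu, rfl⟩ := mem_cj'.1 hx
        have uB := W hu.1
        refine ⟨conj_mem_of_mem_normalizer Mo.e_nW hu.1, (m _ (h.conjU eH uB)).2 ?_⟩
        have τ : e⁻¹ * ⁅t, e⁆ * e ∈ T := conj_mem_of_mem_normalizer' (h.nT eH) h1
        rw [show ⁅t, e * u * e⁻¹⁆ = e * ⁅e⁻¹ * ⁅t, e⁆ * e * t, u⁆ * e⁻¹ by group, comm_mul_left]
        exact conj_mem_of_mem_normalizer (h.HZ eH) (mul_mem (conj_mem_of_mem_normalizer (h.HZ (h.TH τ))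
          ((m u uB).1 hu.2)) (h.Tc τ uB))) ⟨hw, (m w (W hw)).2 b⟩ a
    refine h.cB s hs v (by_contra fun k => h2 (h.inj v (W hv.1) k t ht (mem_sup_right ((m v (W hv.1)).1 hv.2))))
  have JW : J ≤ We B e := fun u hu => by
    obtain ⟨w, hw, γ, hγ, rfl⟩ := h.split eH i.od (h.JB hu)
    have := X w hw (by rw [← h.comm_split i hs d hs hw hγ, h.cJ s hs _ hu]; exact one_mem _)
      (by rw [← h.comm_split i hs d ht hw hγ, h.cJ t ht _ hu]; exact one_mem _)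
    rwa [h.JC i hs d ((mul_mem_cancel_left this).1 hu) hγ, mul_one]
  obtain ⟨u, hu, u0⟩ := SetLike.not_le_iff_exists.1 (h.W0 i hs d)
  have BW : B₀ ≤ We B e ⊔ zpowers y := (h.sur u (W hu) u0 _ fun t ht => h.cW i hs d ht (mem_sup_left hu)).trans
    (sup_le le_rfl (JW.trans le_sup_left))
  obtain ⟨w, hw, γ, hγ, rfl⟩ := h.split eH i.od hj
  exact mul_mem_sup (X w hw (h.comm_split i hs d hs hw hγ ▸ c s hs) (h.comm_split i hs d ht hw hγ ▸ c t ht))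
    (h.WZ_inf eH i.od (BW (h.C0 i hs d hγ)) hγ)

/-- the case `|P : P ∩ T| = 2` -/
theorem small (h1 : ∀ t ∈ P, t ∈ T ∨ t * s ∈ T) : ∃ c, Tr y B H T e s c ∧ (∀ u ∈ B₀, ⁅s, u⁆ ∈ zpowers y) ∧
    ∀ γ ∈ Ce B e, γ ∉ zpowers y → c * γ ∈ J ⊔ zpowers y := by
  have eH := Mo.eH i
  have W := h.We_le eH
  obtain ⟨u, hu, u0⟩ := SetLike.not_le_iff_exists.1 (h.W0 i hs d)
  have uB := W hu
  have c0 := h.commU i.tH uB
  have l : zpowers ⁅s, u⁆ ⊔ zpowers y ≤ B := sup_le (zpowers_le.2 c0) h.ZU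
  have b := h.sur u uB u0 (zpowers ⁅s, u⁆ ⊔ zpowers y) fun t ht => by
    rcases h1 t ht with k | k
    · exact mem_sup_right (h.Tc k uB)
    · rw [show t = t * s * s by rw [mul_assoc, i.tt, mul_one], comm_mul_left, conj_eq_comm]
      exact mul_mem (mul_mem (mem_sup_right (h.Tc k c0)) (mem_sup_left (mem_zpowers _))) (mem_sup_right (h.Tc k uB))
  have sc : ⁅s, ⁅s, u⁆⁆ = 1 := comm_eq_one_of_conj (by
    have := comm_mul_left s s u
    rw [i.tt, commutatorElement_one_left, eq_comm, mul_eq_one_iff_eq_inv, h.inv c0] at this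
    exact this)
  have a : ∀ v ∈ B₀, ⁅s, v⁆ ∈ zpowers y := fun v hv => by
    obtain ⟨a, ha, b, hb, rfl⟩ := h.dec l (b hv)
    rw [h.comm_mul i.tH (l ha) (h.JB hb), h.cJ s hs b hb, mul_one]
    rcases h.mem_yc c0 ha with k | k
    · rw [h.commZ i.tH k]; exact one_mem _
    · have := h.commZ i.tH k
      rw [h.comm_mul i.tH c0 (l ha), sc, one_mul] at this
      rw [this]; exact one_mem _
  have a' : ∀ v ∈ B, ⁅s, v⁆ ∈ zpowers ⁅s, u⁆ ⊔ zpowers y := fun v hv => by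
    by_cases k : v ∈ B₀
    · exact mem_sup_right (a v k)
    have := a _ (h.two u uB v hv u0 k)
    rw [h.comm_mul i.tH uB hv] at this
    exact (mul_mem_cancel_left (mem_sup_left (mem_zpowers _))).1 (mem_sup_right this)
  obtain ⟨c, q, hc⟩ := h.qd_of i c0 fun w hw => a' w (W hw)
  have cU := h.cU q
  refine ⟨c, ⟨q, fun v hv => ?_⟩, a, fun γ hγ k => ?_⟩
  · refine (sup_le (zpowers_le.2 ?_) le_sup_right : zpowers ⁅s, u⁆ ⊔ zpowers y ≤ _) (a' v hv)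
    exact (mul_mem_cancel_right (mem_sup_left (mem_zpowers c))).1 (mem_sup_right hc)
  · obtain ⟨a, ha, b, hb, rfl⟩ := h.dec l (b (h.C0 i hs d hγ))
    rcases h.mem_yc c0 ha with k' | k'
    · exact absurd (h.JC' i hs d (mul_mem (mem_sup_right k') (mem_sup_left hb)) hγ) k
    · rw [← mul_assoc, show c * a = ⁅s, u⁆ * c * (⁅s, u⁆ * a) by
        rw [h.cm c0 cU, mul_assoc, ← mul_assoc ⁅s, u⁆, h.sq c0, one_mul]]
      exact mul_mem (mem_sup_right (mul_mem hc k')) (mem_sup_left hb)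

omit i hs d in
theorem core (hP : ¬ P ≤ T) (hj : j ∈ B) (cp : ∀ t ∈ P, ⁅t, j⁆ ∈ zpowers y) (nj : j ∉ J ⊔ zpowers y)
    (gen : ∀ K : Subgroup G, H ≤ 𝐍 K → y ∈ K → j ∈ K → B ≤ K) (hu : u ∈ B) (u1 : u ∉ zpowers y) :
    ∃ g ∈ H, u * (g * j * g⁻¹) ∈ zpowers y := by
  obtain ⟨s, hs, sT⟩ := SetLike.not_le_iff_exists.1 hP
  obtain ⟨e, i, d⟩ := dl h.TH h.nT h.sol h.red h.PH h.eP hs sT
  have eH := Mo.eH i
  have W := h.We_le eH
  have h1 : ∀ t ∈ P, ⁅t, e⁆ ∈ T → t ∈ T := fun t ht k => by_contra fun k' => nj (h.big i hs d ht k k' hj cp)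
  obtain ⟨c, r, a, b⟩ := h.small i hs d fun t ht => (d t ht).imp (h1 t ht) (h1 _ (mul_mem ht hs))
  have cU := h.cU r.toQd
  have FC : ∀ f ∈ Fo H T, ∀ γ ∈ Ce B e, ⁅f, γ⁆ ∈ zpowers y := fun f hf γ hγ => by
    have fH := Fo_le hf
    by_cases k : γ ∈ zpowers y
    · rw [h.commZ fH k]; exact one_mem _
    have q' := r.toQd.cj f
    have eB := cj_eq_of_mem_normalizer (h.HU fH)
    rw [eB, cj_eq_of_mem fH, cj_eq_of_mem_normalizer (h.nT fH)] at q'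
    have := h.Ce_eq r.toQd q' (by
      have m := (cj_mono f (le_sup_left (a := We B e))).trans (cj_eq_of_mem_normalizer (h.F_le_n r hf)).le
      rwa [cj_We, eB] at m)
    have m : f * γ * f⁻¹ ∈ Ce B e := by
      have m := conj_mem_cj f hγ
      rwa [cj_Ce, eB, this] at m
    have k' : f * γ * f⁻¹ ∉ zpowers y := fun k' => k (by
      have := conj_mem_of_mem_normalizer' (h.HZ fH) k'
      rwa [show f⁻¹ * (f * γ * f⁻¹) * f = γ by group] at this)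
    refine h.JC' i hs d ?_ (mul_mem m (inv_mem hγ))
    have := mul_mem (b _ m k') (inv_mem (b _ hγ k))
    rwa [mul_inv_rev, h.cm cU m.1, show f * γ * f⁻¹ * c * (γ⁻¹ * c⁻¹) = f * γ * f⁻¹ * (c * γ⁻¹ * c⁻¹) by group,
      h.fixU cU (inv_mem hγ.1)] at this
  obtain ⟨w, hw, γ, hγ, rfl⟩ := h.split eH i.od hj
  rcases mem_two (h.sq cU) (h.fixW r.toQd hw (h.comm_split i hs d hs hw hγ ▸ cp s hs)) with rfl | rfl
  · refine absurd ((h.mT e).2 ⟨eH, fun v hv => ?_⟩) i.eT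
    have := gen (B ⊓ commStab (Fo H T) (zpowers y)) (le_normalizer_inf h.HU (le_normalizer_commStab h.nF h.HZ))
      ⟨h.yU, le_normalizer (mem_zpowers y), fun f hf => by
        rw [← commutatorElement_inv, h.commZ (Fo_le hf) (mem_zpowers y)]; exact inv_mem (one_mem _)⟩
      ⟨hj, h.le_n h.ZU hj, fun f hf => by rw [one_mul, ← commutatorElement_inv]; exact inv_mem (FC f hf γ hγ)⟩ hv
    rw [← commutatorElement_inv]
    exact inv_mem (this.2.2 e i.eF)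
  have γZ : γ ∈ zpowers y := by_contra fun k => nj (b γ hγ k)
  have l : B ≤ We B e ⊔ zpowers y := (gen (⁅B, Fo H T⁆ ⊔ zpowers y)
    (le_normalizer_sup (le_normalizer_commutator h.HU h.nF) h.HZ) (mem_sup_right (mem_zpowers y))
    (mul_mem_sup (commutator_mono le_rfl (zpowers_le.2 i.eF) hw) γZ)).trans (sup_le (commutator_le.2 fun v hv f hf => by
      obtain ⟨w, hw, γ, hγ, rfl⟩ := h.split eH i.od hv
      rw [← commutatorElement_inv, h.comm_mul (Fo_le hf) (W hw) hγ.1]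
      exact inv_mem (mul_mem (mul_mem (conj_mem_of_mem_normalizer (h.F_le_n r hf) (mem_sup_left hw))
        (inv_mem (mem_sup_left hw))) (mem_sup_right (FC f hf γ hγ)))) le_sup_right)
  obtain ⟨v, hv, z, hz, rfl⟩ := h.mem_WZ eH (l hu)
  have key : ∀ g ∈ H, g * w * g⁻¹ = v → v * z * (g * (w * γ) * g⁻¹) ∈ zpowers y := fun g hg k => by
    rw [← conj_mul, k, h.fixZ hg γZ, h.cm (W hv) (h.ZU hz), mul_assoc, ← mul_assoc v, h.sq (W hv), one_mul]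
    exact mul_mem hz γZ
  rcases h.qcases r.toQd hv with k | k | k | k
  · exact absurd (by rwa [k, one_mul]) u1
  · exact ⟨1, one_mem _, key 1 (one_mem _) (by rw [k]; simp)⟩
  · exact ⟨e, eH, key e eH k.symm⟩
  · refine ⟨e * e, mul_mem eH eH, key _ (mul_mem eH eH) ?_⟩
    rw [k, ← h.cyc eH i.od r.cW r.c1 (h.four r.toQd)]; group

end Nq
end H6.FE
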