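import Cfsg.Agent.H6.FE0
import Cfsg.Agent.H9.NQ
/-! Piece E1 of N4: every critical pair of points is pure (`H6.FE.pure`). -/
set_option autoImplicit false
set_option linter.unusedSectionVars false
namespace H6.FE
open Cfsg Subgroup H26 H4 H118
open scoped Pointwise commutatorElement

variable {G : Type*} [Group G] [Finite G] {S V l m : Subgroup G} {z x y p b e : G} {n : ℕ}

/-- the configuration (H*) -/
def Hs (V : Subgroup G) (x y : G) : Prop := ¬ Up V y ≤ Tp V x ∧ ∀ b ∈ Up V y, b ∉ Tp V x →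
  ∃ e, Qd (Up V x) (𝐂 (zpowers x)) (Tp V x) e b y ∧ We (Up V x) e ≤ Tp V y ∧
    ∀ s ∈ Up V y, ⁅s, e⁆ ∈ Tp V x ∨ ⁅s * b, e⁆ ∈ Tp V x

variable (h : Ge S V z)
include h

theorem qd_y (hx : Col V x x) (hy : Col V y y) (i : In (𝐂 (zpowers x)) (Tp V x) e b) (hb : b ∈ Up V y)
    (h1 : We (Up V x) e ≤ Tp V y) : Qd (Up V x) (𝐂 (zpowers x)) (Tp V x) e b y := by
  have k : ∀ w ∈ We (Up V x) e, ⁅b, w⁆ ∈ zpowers y := fun w hw => by
    rw [← commutatorElement_inv]; exact inv_mem ((mem_Tp.1 (h1 hw)).2 b hb)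
  obtain ⟨w, hw, k1⟩ := (h.mo hx).exists_comm i
  exact ⟨i, (mem_two (h.pp hy) (k w hw)).resolve_left k1 ▸ (h.mo hx).commW i hw, hy.1, k⟩

theorem hs_of (c : Cm V (n + 2)) (d : Near V (n + 3) x y) (nc : ¬ Up V x ≤ 𝐂 (Up V y)) (hx : x ∈ Up V y) :
    Hs V x y ∨ Hs V y x := by
  have cx := d.left
  have cy := d.right
  have X := h.mo cx
  have Y := h.mo cy
  have c1 : Cm V 1 := c.mono (by omega)
  by_cases k : Up V y ≤ Tp V x
  · refine .inr ⟨fun k' => nc (h.Up_comm k' k), fun b hb hb' => ?_⟩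
    obtain ⟨e, i, dd⟩ := dl Y.TH Y.nT Y.sol Y.red (c.fix d) X.ea hb hb'
    have := (Y.We_le (Mo.eH i)).trans k
    exact ⟨e, qd_y h cy cx i hb this, this, dd⟩
  refine .inl ⟨k, fun b hb hb' => ?_⟩
  obtain ⟨P, hP⟩ : ∃ P, P = ⨆ q : {q // Col V y q}, Up V q := ⟨_, rfl⟩
  have le : ∀ q, Col V y q → Up V q ≤ P := fun q hq => hP ▸ le_iSup (fun q : {q // Col V y q} => Up V q) ⟨q, hq⟩
  have eP : IsElementaryAbelian 2 P := hP ▸ elemAb_iSup (fun q => h.Up_ea q.2.right) fun q r =>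
    c.mono (k := 2) (by omega) _ _ (q.2.symm.near.trans r.2.near)
  have cP : P ≤ 𝐂 (Up V y) := (elemAb_le_centralizer eP).trans (centralizer_anti (le y cy))
  have PH : P ≤ 𝐂 (zpowers x) := cP.trans (centralizer_anti (zpowers_le.2 hx))
  obtain ⟨e, i, dd⟩ := dl X.TH X.nT X.sol X.red PH eP (le y cy hb) hb'
  have W := X.We_le (Mo.eH i)
  have AH := W.trans (c.fix d)
  have bw : ∀ w ∈ We (Up V x) e, ⁅b, w⁆ ∈ Up V y := fun w hw => by
    rw [← commutatorElement_inv]; exact inv_mem (Y.commU (AH hw) hb)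
  have qd : ∀ s ∈ P, ⁅s, e⁆ ∈ Tp V x → ∀ w ∈ We (Up V x) e, ⁅s, w⁆ ∈ Up V y := fun s hs k w hw =>
    zpowers_le.2 hx (X.quad i (PH hs) k (fun w hw => by
      rw [comm_eq_one_of_conj (mem_centralizer_iff'.1 (cP hs) _ (bw w hw))]; exact one_mem _) hw)
  have : We (Up V x) e ≤ Tp V y := h.lemX c1 cy.1 AH fun q hq => commutator_le.2 fun s hs w hw => by
    have sP := le q hq hs
    rcases dd s sP with k | k
    · exact qd s sP k w hw
    · have := qd _ (mul_mem sP (le y cy hb)) k w hw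
      rw [comm_mul_left, mem_centralizer_iff'.1 (cP sP) _ (bw w hw)] at this
      exact (mul_mem_cancel_left (bw w hw)).1 this
  exact ⟨e, qd_y h cx cy i hb this, this, fun s hs => dd s (le y cy hs)⟩

theorem line_of (hy : Col V y y) {P : Subgroup G} (hP : IsPGroup 2 P) (h1 : P ≤ 𝐂 (zpowers y)) :
    ∃ m, Ln V m ∧ y ∈ m ∧ P ≤ 𝐍 m := by
  obtain ⟨y1, -, l, hl, hp, -⟩ := hy
  obtain ⟨Q, s, k, o⟩ := h.exists_syl hl hp y1
  obtain ⟨g, hg, k'⟩ := (s.mono (o ▸ le_c_oz Q) le_top).exists_le_cj hP h1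
  exact ⟨cj g l, hl.cj g, conj_eq_of_mem_c hg ▸ conj_mem_cj g hp, k'.trans (cj_normalizer g l ▸ cj_mono g k)⟩

theorem not_hs (c : Cm V (n + 1)) (d : Near V (n + 2) x y) (nc : ¬ Up V x ≤ 𝐂 (Up V y)) : ¬ Hs V x y := by
  rintro ⟨h0, h1⟩
  have cx := d.left
  have cy := d.right
  have X := h.mo cx
  have Y := h.mo cy
  have c1 : Cm V 1 := c.mono (by omega)
  have ncol : ¬ Col V x y := fun k => nc (c1 _ _ k.near)
  have BH := c.fix d.symm
  obtain ⟨b, hb, hb'⟩ := SetLike.not_le_iff_exists.1 h0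
  obtain ⟨e, q, WT, dd⟩ := h1 b hb hb'
  have eH := Mo.eH q.toIn
  have W := X.We_le eH
  have yA := X.cU q
  have yC : y ∉ Ce (Up V x) e := fun k => cy.1 (X.disj eH q.od q.cW k)
  have two : ∀ s ∈ Up V y, ⁅s, e⁆ ∈ Tp V x → s ∈ Tp V x := fun s hs k => by
    by_contra k'
    obtain ⟨e', q', -, -⟩ := h1 s hs k'
    obtain ⟨w, hw, γ, hγ, k2⟩ := X.split eH q.od (X.We_le (Mo.eH q'.toIn) (X.dW q'))
    have := X.t_d q'
    rw [← k2, X.comm_mul (BH hs) (W hw) hγ.1] at this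
    refine yC (this ▸ mul_mem (X.Z_le_Ce eH (X.quad q.toIn (BH hs) k (fun w hw => ?_) hw))
      (mul_mem (conj_mem_of_mem_normalizer (X.n_Ce eH q.od (BH hs) (Mo.conj_mem_of_comm k)) hγ) (inv_mem hγ)))
    rw [comm_eq_one_of_conj (Y.fixU hs (Y.ZU (q.tw w hw)))]; exact one_mem _
  obtain ⟨B₀, hB⟩ : ∃ B₀, B₀ = Up V y ⊓ Tp V x := ⟨_, rfl⟩
  have m0 : ∀ {u}, u ∈ B₀ ↔ u ∈ Up V y ∧ u ∈ Tp V x := hB ▸ mem_inf
  have le : B₀ ≤ Up V y := fun u hu => (m0.1 hu).1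
  have sb : ∀ s ∈ Up V y, s ∉ B₀ → s * b ∈ B₀ := fun s hs k => m0.2 ⟨mul_mem hs hb,
    two _ (mul_mem hs hb) ((dd s hs).resolve_left fun k' => k (m0.2 ⟨hs, two s hs k'⟩))⟩
  have tw : ∀ u ∈ Up V y, ∀ v ∈ Up V y, u ∉ B₀ → v ∉ B₀ → u * v ∈ B₀ := fun u hu v hv a a' => by
    have := mul_mem (sb u hu a) (inv_mem (sb v hv a'))
    rwa [mul_inv_rev, mul_assoc, mul_inv_cancel_left, Y.inv hv] at this
  have b0 : b ∉ B₀ := fun k => hb' (m0.1 k).2
  have ne : ¬ Up V y ≤ B₀ := fun k => b0 (k hb)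
  have xy : x ≠ y := fun k => ncol (k ▸ cx)
  have BW : ∀ u ∈ B₀, ∀ w ∈ We (Up V x) e, ⁅u, w⁆ = 1 := fun u hu w hw =>
    (mem_two (h.pp cx) (X.Tc (m0.1 hu).2 (W hw))).resolve_right fun k => by
      have := inv_mem (Y.Tc (WT hw) (le hu))
      rw [commutatorElement_inv, k] at this
      exact (mem_two (h.pp cy) this).elim cx.1 xy
  have cy' : ∀ g ∈ zpowers e, cj g B₀ ≤ 𝐂 (zpowers y) := fun g hg u hu => by
    obtain ⟨v, hv, rfl⟩ := mem_cj'.1 hu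
    have := conj_eq_of_comm (BW v hv _ (conj_mem_of_mem_normalizer' (zpowers_le.2 Mo.e_nW hg) q.cW))
    refine mem_c_of_conj_eq ?_
    rw [show g * v * g⁻¹ * y * (g * v * g⁻¹)⁻¹ = g * (v * (g⁻¹ * y * g) * v⁻¹) * g⁻¹ by group, this]; group
  have cc : ∀ g ∈ zpowers e, ⁅Up V y, cj g B₀⁆ ≤ B₀ := fun g hg => hB.ge.trans' (le_inf
    (commutator_le_of_le_normalizer ((cy' g hg).trans Y.HU))
    ((commutator_mono le_rfl (cj_le_of_mem_normalizer (fun u hu => (m0.1 hu).2) (X.nT (zpowers_le.2 eH hg)))).trans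
      (commutator_le_of_le_normalizer' (BH.trans X.nT))))
  have D : H9.FB.D0 (Up V y) B₀ b e := ⟨⟨Y.Uc, Y.ea.2⟩, hb, b0, le, relIndex_eq_two_of ne tw,
    (H18.piNat_compl_iff Nat.prime_two).2 (Nat.two_dvd_ne_zero.2 (Nat.odd_iff.1 q.od)), by rw [← q.inv, Y.inv hb],
    (cy' e (mem_zpowers e)).trans Y.HU, cc e (mem_zpowers e), by
      have := cj_mono e (cc _ (inv_mem (mem_zpowers e)))
      rwa [cj_commutator, H26.cj_cj_inv] at this⟩
  have PH := cy' e (mem_zpowers e)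
  have y0 : y ∈ B₀ := m0.2 ⟨Y.yU, X.UT yA⟩
  have y1P : e * y * e⁻¹ ∈ cj e B₀ := conj_mem_cj e y0
  have ID : B₀ ⊓ cj e B₀ ≤ 𝐂 (Up V y ⊔ cj e (Up V y)) := D.ID
  have eD : e ∈ Up V y ⊔ cj e (Up V y) := D.eD
  have flip : ∀ {K : Subgroup G} {a b : G}, ⁅a, b⁆ ∈ K → ⁅b, a⁆ ∈ K := fun k => by
    rw [← commutatorElement_inv]; exact inv_mem k
  have N : Nq y (Up V y) (𝐂 (zpowers y)) (Tp V y) (cj e B₀) B₀ (B₀ ⊓ cj e B₀) := ⟨Y, PH,
    elemAb_cj (elemAb_mono Y.ea le) e, le, ne, tw, y0, inf_le_left, fun s hs u hu => flip (D.c0B hu hs),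
    fun s hs u hu => comm_eq_one_of_conj (mem_centralizer_iff'.1 (le_centralizer_iff.1 ID
      (mem_sup_right (cj_mono e le hs))) u hu), fun u hu u0 s hs k => by
      obtain ⟨a, ha, t, ht, k1⟩ := (mem_sup_of_le_normalizer ((inf_le_left.trans le).trans (Y.le_n Y.ZU))).1 k
      have JT : ∀ s ∈ cj e B₀, ⁅s, u⁆ ∈ B₀ ⊓ cj e B₀ → s ∈ Tp V y := fun s hs k =>
        Y.UT (le (D.inj hu u0 hs (flip k)).1)
      rcases mem_two (h.pp cy) ht with rfl | rfl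
      · exact JT s hs (by rwa [← k1, mul_one])
      refine (mul_mem_cancel_right (WT (X.dW q))).1 (JT _ (mul_mem hs y1P) ?_)
      have k2 : ⁅u, e * t * e⁻¹⁆ = t := by
        rw [show u = u * b * b by rw [mul_assoc, Y.sq hb, mul_one], comm_mul_left, X.t_d q,
          BW _ (sb u hu u0) _ (X.dW q), mul_one, Y.fixU (mul_mem hu hb) Y.yU]
      rwa [comm_mul_left, ← commutatorElement_inv u, k2, Y.inv Y.yU, Y.fixZ (PH hs) ht, ← k1,
        Y.cm (le ha.1) Y.yU, ← mul_assoc, Y.sq Y.yU, one_mul],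
    fun u hu u0 K k => D.sur hu u0 fun s hs => flip (k s hs), fun ε s i hs j hj jC j1 => by
      have := le_centralizer_iff.1 (zpowers_le.2 (ID hj))
      exact D.sol1 (h.sol_c (Y.sq (le hj.1)) j1) this (mem_c_of_conj_eq (mem_Ce.1 jC).2) (Y.HU (Mo.eH i))
        ((H18.piNat_compl_iff Nat.prime_two).2 (Nat.two_dvd_ne_zero.2 (Nat.odd_iff.1 i.od))) hs
        (by rw [← i.inv, inv_eq_of_mul_eq_one_right i.tt])⟩
  have NP : ∀ m j, Ln V m → y ∈ m → j ∈ m → j ∉ zpowers y → j ∉ B₀ ⊓ cj e B₀ ⊔ zpowers y := fun m j hm hy hj j1 k => by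
    obtain ⟨a, ha, t, ht, rfl⟩ := (mem_sup_of_le_normalizer ((inf_le_left.trans le).trans (Y.le_n Y.ZU))).1 k
    have ca : Col V a y := ⟨fun k => j1 (by rwa [k, one_mul]), cy.1, m, hm,
      (mul_mem_cancel_right (zpowers_le.2 hy ht)).1 hj, hy⟩
    have ea : e ∈ 𝐂 (zpowers a) := le_centralizer_iff.1 (zpowers_le.2 (ID ha)) eD
    have := mem_centralizer_iff'.1 (c1 _ _ ca.symm.near hb) _ (conj_mem_of_mem_normalizer (c_le_n_Up V a ea) ca.mem)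
    exact cy.1 ((X.t_d q).symm.trans (comm_eq_one_of_conj this))
  by_cases k : cj e B₀ ≤ Tp V y
  · obtain ⟨p, d1, p1, -, l, hl, hp, hy⟩ := d.last
    refine NP l p hl hy hp (fun k => (mem_two (h.pp cy) k).elim p1 fun k => nc (c _ _ (k ▸ d1))) ?_
    rw [sup_comm]
    exact N.sur b hb b0 _ (fun s hs => Y.Tc (k hs) hb)
      (m0.2 ⟨hl.le_Up hy hp, Ge.c_le_Tp cx (c _ _ d1.symm (hl.le_Up hp hp))⟩)
  obtain ⟨m, hm, hy, k1⟩ := line_of h cy (elemAb_isPGroup N.eP) PH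
  obtain ⟨j, hj, j1⟩ := h.exists_other hm hy
  have key := fun u => N.core (u := u) k (hm.le_Up hy hj)
    (fun t ht => flip (h.comm_ln hm hy cy.1 PH k1 (commutator_mem_commutator hj ht))) (NP m j hm hy hj j1)
    fun K a b c => h.Up_le_of hm hy cy.1 a (h.ln_le hm hy cy.1 hj j1 b c)
  obtain ⟨x1, -, l, hl, hx, -⟩ := cx
  obtain ⟨g, -, gx⟩ := h.trans2 hl hx x1 hm hy cy.1
  obtain ⟨a, ha, k2⟩ := key (g * y * g⁻¹) (by have := conj_mem_cj g yA; rwa [cj_Up, gx] at this) fun k =>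
    (mem_two (h.pp cy) k).elim (conj_ne_one g cy.1) fun k => xy (by simpa using gx.trans k.symm)
  have ya : y ∈ cj a m := conj_eq_of_mem_c ha ▸ conj_mem_cj a hy
  have := Col.cj (⟨cy.1, conj_ne_one g cy.1, _, hm.cj a, ya,
    (mul_mem_cancel_right (conj_mem_cj a hj)).1 (zpowers_le.2 ya k2)⟩ : Col V y (g * y * g⁻¹)) g⁻¹
  rw [show g⁻¹ * y * g⁻¹⁻¹ = x by rw [← gx]; group, show g⁻¹ * (g * y * g⁻¹) * g⁻¹⁻¹ = y by group] at this
  exact ncol this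

theorem pure (c : Cm V (n + 1)) (d : Near V (n + 2) x y) (nc : ¬ Up V x ≤ 𝐂 (Up V y)) : x ∉ Up V y := fun hx => by
  rcases n with _ | n
  · obtain ⟨p, d1, d2⟩ := d.first
    obtain ⟨_, d3, d4⟩ := d2.first
    rw [d4.zero_eq] at d3
    have ncol : ¬ Col V x y := fun k => nc (c _ _ k.near)
    obtain ⟨p1, y1, l, hl, hp, hy⟩ := d3
    have f := h.ln_four hl
    have py : p ∉ zpowers y := fun k => (mem_two (f.sq y hy) k).elim p1 fun k => ncol (k ▸ d1)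
    have r1 : p * y ≠ 1 := fun k => py (by rw [eq_inv_of_mul_eq_one_left k]; exact inv_mem (mem_zpowers y))
    obtain ⟨τ, -, a, b⟩ := h.j3 hl (h.mem_Jl_of hl hy y1 hp py hx d1.symm.mem)
      (fun k => ncol ⟨d1.1, y1, l, hl, k, hy⟩) (mul_mem hp hy) r1 hp
      fun k => (mem_two (f.sq _ (mul_mem hp hy)) k).elim p1 fun k => y1 (by simpa using k)
    have := d1.cj τ
    rw [conj_eq_of_comm a, conj_eq_comm, b, f.le_c hy p hp, mul_assoc, f.sq p hp, mul_one] at this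
    exact ncol this
  · exact (hs_of h c d nc hx).elim (not_hs h c d nc) (not_hs h c d.symm fun k => nc (le_centralizer_iff.1 k))

end H6.FE
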