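import Cfsg.Agent.H2.Gd0

/-! Piece `PZ` of the four-degree theorem: reduction to a minimal normal section of `⁅R, B⁆` (`H6.GdZ.pZ`). -/

set_option autoImplicit false

namespace H6.GdZ

open Subgroup Cfsg H18 H5 H6 H8 H1 H2.Gd
open scoped commutatorElement

universe u

theorem pZ (hX : PX.{u}) : PZ.{u} := by
  intro G _ _ R B M _ _ r s x y hr hs sr pR pB aB nA c0 mA AM h hxy
  have nr : ∀ {A K : Subgroup G} [K.Normal], A ≤ N(K) := fun {A K} _ => le_normalizer_of_normal
  have pR' : PiGrp {s}ᶜ R := pR.p'_of_ne sr.symm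
  have hB : Hall {s} B (R ⊔ B) := hall_of_sup' pB pR' (Or.inl nr)
  have fr : R ⊔ B ⊔ N(B) = ⊤ := by simpa using frattini_arg hs (nml_top (K := R ⊔ B)) hB
  have nrm : ∀ X : Subgroup G, R ≤ N(X) → N(B) ≤ N(X) → X.Normal := fun X a b =>
    norm_top_iff.1 (fr.ge.trans (sup_le (sup_le a (le_N.trans b)) b))
  haveI nE : (⁅R, B⁆ : Subgroup G).Normal := nrm _ norm_comm_left (norm_comm nr le_rfl)
  have ER : ⁅R, B⁆ ≤ R := comm_le_left nr
  have nEB : (⁅R, B⁆ ⊔ B : Subgroup G).Normal := nrm _ (norm_iff_comm_le'.2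
    ((comm_sup_le (comm_le_left nr) comm_comm.le nr nr).trans le_sup_left)) (norm_sup nr le_rfl)
  have cc : ⁅⁅R, B⁆, B⁆ = ⁅R, B⁆ := (cop_of_pi nr pB pR' (Or.inl aB.solv)).comm_comm
  generalize (⁅R, B⁆ : Subgroup G) = E at nE ER nEB cc c0
  obtain ⟨K, -, ⟨nK, KE⟩, mK⟩ := exists_maximal_sub (fun K : Subgroup G => K.Normal ∧ K < E) (A := ⊥)
    ⟨inferInstance, bot_lt_iff_ne_bot.2 c0⟩
  set f := QuotientGroup.mk' K with hf
  have sf : Function.Surjective f := QuotientGroup.mk'_surjective K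
  have kf : f.ker = K := QuotientGroup.ker_mk' K
  have mb : ∀ X : Subgroup G, X.map f = ⊥ ↔ X ≤ K := fun X => by rw [Subgroup.map_eq_bot_iff, kf]
  have pm : ∀ {p : ℕ} {X : Subgroup G}, PiGrp {p} X → PiGrp {p} (X.map f) := fun k => k.of_dvd (card_map_dvd _ f)
  have ik : ∀ χ : G ⧸ K → ℂ, charKer (fun g : G => χ g) = (charKer χ).comap f := fun χ => charKer_comp _ sf
  haveI : (E.map f).Normal := nE.map _ sf
  haveI : (R.map f).Normal := Normal.map inferInstance _ sf
  haveI : (M.map f).Normal := Normal.map inferInstance _ sf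
  have V0 : E.map f ≠ ⊥ := fun k => KE.not_ge ((mb _).1 k)
  have VR : E.map f ≤ R.map f := map_mono ER
  have cR : R.map f ≤ C(E.map f) := by
    have l := (pm pR).comm_lt ((pm pR).of_le VR) le_normalizer_of_normal V0
    rw [← map_commutator] at l
    refine cent_symm (comm_eq_bot_iff.1 ?_)
    rw [← map_commutator, mb]
    refine le_sup_right.trans (mK (K ⊔ ⁅E, R⁆) ⟨inferInstance, lt_of_le_of_ne (sup_le KE.le (comm_le_left nr)) fun e => ?_⟩
      le_sup_left).le
    exact l.not_ge (map_le_map_iff.2 (by rw [kf, sup_comm, e]))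
  have c1 : E.map f ⊓ C(B.map f) = ⊥ := by
    have := abel_comm_inf_cent (A := B.map f) (VR.trans cR) le_normalizer_of_normal
      ((pm pB).coprime (((pm pR).of_le VR).p'_of_ne sr.symm))
    rwa [← map_commutator, cc] at this
  have c2 : (R.map f ⊔ B.map f) ⊓ C(E.map f) ≤ R.map f := by
    haveI : (C(E.map f)).Normal := norm_top_iff.1 (norm_C le_normalizer_of_normal)
    rcases mA ((R ⊔ B) ⊓ (C(E.map f)).comap f) inferInstance (le_inf le_sup_left (map_le_iff_le_comap.1 cR))
      inf_le_left with e | e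
    · rw [← Subgroup.map_sup]
      rintro _ ⟨⟨a, ha, rfl⟩, k⟩
      exact mem_map_of_mem f (e.le ⟨ha, k⟩)
    · refine (V0 ?_).elim
      rw [← c1, eq_comm, inf_eq_left]
      exact cent_symm (map_le_iff_le_comap.2 (le_sup_right.trans (e.ge.trans inf_le_right)))
  obtain ⟨o1, o2, o3⟩ := hX (G ⧸ K) (E.map f) (R.map f) (B.map f) (M.map f) r s x y hr hs sr V0 VR cR (pm pR) (pm pB)
    (abel_iff_der.2 (by rw [← map_commutator, aB.der, Subgroup.map_bot]))
    (by rw [← Subgroup.map_sup]; exact nEB.map _ sf) (by rw [← Subgroup.map_sup]; exact nA.map _ sf) c1 c2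
    (by rw [← Subgroup.map_sup]; exact map_mono AM)
    (fun χ hχ k => by
      rw [← charDegree_inflate]
      exact h _ hχ.inflate fun l => k (by rwa [ik, ← map_le_iff_le_comap] at l)) hxy
  refine ⟨o1, fun χ hχ k => ?_, fun S pS => ?_⟩
  · obtain ⟨β, f1, f2⟩ := hχ.exists_deflate _ (KE.le.trans (ER.trans k))
    have e : (fun g : G => β g) = χ := funext f2
    have := o2 β f1 (by rw [map_le_iff_le_comap, ← ik, e]; exact k)
    rwa [← charDegree_inflate, e] at this
  · have := o3 _ (pm pS)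
    rw [← map_commutator, Subgroup.map_le_map_iff, kf] at this
    exact this.trans (sup_le le_rfl (KE.le.trans ER))

end H6.GdZ
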