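import Cfsg.Agent.H5.Central
import Cfsg.Agent.H5.Galois
/-! Triangle counts: `tc a b c` (class multiplication constants, `tc_eq`), a strongly embedded elementary abelian Sylow
`3`-subgroup (`TS J H`), the `(3,3,3)` triangle lemma `TS.tri` and the index bound `TS.bound`. -/
set_option autoImplicit false
open H5 Cfsg Finset Subgroup
open scoped ComplexConjugate
namespace H6

variable {G : Type*} [Group G]

/-- `|C(c)|` times the number of `y` with `y b y⁻¹ a` conjugate to `c⁻¹` -/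
noncomputable def tc (a b c : G) : ℕ :=
  Nat.card {y : G // IsConj c (y * b * y⁻¹ * a)⁻¹} * Nat.card (centralizer ({c} : Set G))

theorem tc_eq [Finite G] (a b c : G) : (tc a b c : ℂ) =
    Nat.card G * ∑ χ : IrrCharacter G, (χ : G → ℂ) a * (χ : G → ℂ) b * (χ : G → ℂ) c / (χ : G → ℂ) 1 := by
  classical
  have := Fintype.ofFinite G
  have : ∀ χ : IrrCharacter G, Nat.card G * ((χ : G → ℂ) a * (χ : G → ℂ) b * (χ : G → ℂ) c / (χ : G → ℂ) 1) =
      ∑ y, (χ : G → ℂ) c * conj ((χ : G → ℂ) (y * b * y⁻¹ * a)⁻¹) := fun χ => by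
    simp only [χ.2.apply_inv, Complex.conj_conj, ← mul_sum, χ.2.sum_conj_mul]; ring
  rw [mul_sum, sum_congr rfl fun χ _ => this χ, sum_comm]
  simp only [column_orthogonality, ← sum_filter, sum_const, tc, Nat.card_eq_fintype_card, Fintype.card_subtype]
  simp

theorem tc_count [Finite G] {M : Type*} [Group M] [Fintype M] {ι : M →* G} (inj : Function.Injective ι) (a : M) (b c : G)
    (h : ∀ b', IsConj b b' → IsConj c (b' * ι a)⁻¹ → b' ∈ ι.range) (P : M → Prop) [DecidablePred P]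
    (hP : ∀ m, P m ↔ IsConj b (ι m) ∧ IsConj c (ι (m * a)⁻¹)) :
    tc (ι a) b c = (univ.filter P).card * Nat.card (centralizer ({b} : Set G)) * Nat.card (centralizer ({c} : Set G)) := by
  classical
  have := Fintype.ofFinite G
  have := sum_conj_eq (fun x => if IsConj c (x * ι a)⁻¹ then 1 else 0) b
  rw [tc, Nat.card_eq_fintype_card (α := Subtype _), Fintype.card_subtype, card_filter, this, smul_eq_mul, mul_comm _ (Finset.sum _ _),
    ← card_filter, filter_filter]
  congr 2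
  refine (card_bij (fun m _ => ι m) (fun m hm => ?_) (fun _ _ _ _ e => inj e) fun x hx => ?_).symm
  · simpa using (hP m).1 (mem_filter.1 hm).2
  · obtain ⟨h1, h2⟩ := (mem_filter.1 hx).2
    obtain ⟨m, rfl⟩ := h x h1 h2
    exact ⟨m, mem_filter.2 ⟨mem_univ _, (hP m).2 ⟨h1, by simpa using h2⟩⟩, rfl⟩

structure TS (J H : Subgroup G) : Prop where
  le : J ≤ H
  cube : ∀ j ∈ J, j ^ 3 = 1
  comm : ∀ j ∈ J, ∀ k ∈ J, j * k = k * j
  norm : ∀ g, g ∈ H ↔ ∀ j ∈ J, g * j * g⁻¹ ∈ J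
  cent : ∀ j ∈ J, j ≠ 1 → ∀ g, g * j = j * g → g ∈ H
  syl : ∀ g ∈ H, g ^ 3 = 1 → g ∈ J

namespace TS

variable {J H : Subgroup G} (h : TS J H)
include h

theorem ti {j g : G} (hj : j ∈ J) (j1 : j ≠ 1) (e : g * j * g⁻¹ ∈ J) : g ∈ H := (h.norm g).2 fun k hk =>
  h.syl _ (h.cent _ e (by simpa using j1) _ (by rw [conj_mul, conj_mul, h.comm k hk j hj]))
    (by rw [conj_pow, h.cube k hk]; simp)

theorem tri [Finite G] {a b : G} (ha : a ∈ J) (a1 : a ≠ 1) (hb : b ^ 3 = 1) (hab : (b * a) ^ 3 = 1) :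
    b ∈ J ∨ IsConj a b := by
  have a3 := h.cube a ha
  obtain ⟨u, rfl⟩ : ∃ u, b = u * a := ⟨b * a⁻¹, by simp⟩
  have e1 : u * (a * u * a⁻¹) * (a * (a * u * a⁻¹) * a⁻¹) = 1 := by
    calc _ = (u * a) ^ 3 * (a ^ 3)⁻¹ := by simp only [pow_succ]; group
      _ = 1 := by rw [hb, a3]; simp
  have e2 : Commute u (a * u * a⁻¹) := by
    have : (a * u * a⁻¹) * u * (a * (a * u * a⁻¹) * a⁻¹) = 1 := by
      calc _ = a * u * (a ^ 3)⁻¹ * (a * a * u * a * a * u * a * a) * (a ^ 3)⁻¹ * a⁻¹ := by group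
        _ = a * (u * a * a) ^ 3 * a⁻¹ := by rw [a3]; simp only [pow_succ]; group
        _ = 1 := by rw [hab]; simp
    exact mul_right_cancel (e1.trans this.symm)
  have k : ∀ n : ℕ, a * (a * u ^ n * a⁻¹) * a⁻¹ = (u ^ n * (a * u ^ n * a⁻¹))⁻¹ := fun n => by
    rw [← conj_pow, ← conj_pow, ← e2.mul_pow, ← inv_pow, ← eq_inv_of_mul_eq_one_right e1]
  have c : ∀ m n : ℕ, Commute (u ^ m) (a * u ^ n * a⁻¹) := fun m n => by rw [← conj_pow]; exact e2.pow_pow m n
  by_cases d : 3 ∣ orderOf u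
  · obtain ⟨n, hn⟩ := d
    have s3 : (u ^ n) ^ 3 = 1 := by rw [← pow_mul, mul_comm, ← hn, pow_orderOf_eq_one]
    have s1 : u ^ n ≠ 1 := pow_ne_one_of_lt_orderOf (by have := orderOf_pos u; omega) (by have := orderOf_pos u; omega)
    obtain ⟨z, z1, z3, za, zu⟩ : ∃ z, z ≠ 1 ∧ z ^ 3 = 1 ∧ z * a = a * z ∧ u * z = z * u := by
      by_cases e : u ^ n * (a * u ^ n * a⁻¹)⁻¹ = 1
      · exact ⟨u ^ n, s1, s3, by rw [mul_inv_eq_one, eq_mul_inv_iff_mul_eq] at e; exact e, (Commute.self_pow u n).eq⟩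
      have t3 : (a * u ^ n * a⁻¹) ^ 3 = 1 := by rw [conj_pow, s3]; simp
      refine ⟨_, e, by rw [(c n n).inv_right.mul_pow, s3, inv_pow, t3]; simp, ?_,
        ((Commute.self_pow u n).mul_right (pow_one u ▸ c 1 n).inv_right).eq⟩
      rw [eq_comm, ← mul_inv_eq_iff_eq_mul, ← conj_mul, ← conj_inv, k,
        inv_inv, ← mul_assoc, ← (c n n).eq, mul_assoc, eq_inv_of_mul_eq_one_left ((pow_three' _).symm.trans t3)]
    exact Or.inl (h.syl _ (H.mul_mem (h.cent z (h.syl z (h.cent a ha a1 z za) z3) z1 u zu) (h.le ha)) hb)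
  obtain ⟨n, hn⟩ : ∃ n, (u ^ n) ^ 3 = u := by
    obtain ⟨n, hn⟩ := exists_pow_eq_self_of_coprime (x := u) (n := 3) ((Nat.prime_three.coprime_iff_not_dvd).2 d)
    exact ⟨n, by rw [← pow_mul, mul_comm, pow_mul, hn]⟩
  refine Or.inr (isConj_iff.2 ⟨u ^ n * u ^ n * (a * u ^ n * a⁻¹), ?_⟩)
  have k1 := k n
  have c1 := (c n n).eq
  generalize u ^ n = s at *
  subst hn
  calc _ = s * s * (a * s * a⁻¹) * (a * (a * s * a⁻¹) * a⁻¹)⁻¹ * (a * s * a⁻¹)⁻¹ * (a * s * a⁻¹)⁻¹ * a := by group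
    _ = s * s * ((a * s * a⁻¹) * s) * (a * s * a⁻¹)⁻¹ * a := by rw [k1]; group
    _ = _ := by rw [← c1, pow_three']; group

theorem tri' [Finite G] {a b c b' : G} (ha : a ∈ J) (a1 : a ≠ 1) (hb : b ^ 3 = 1) (hc : c ^ 3 = 1)
    (n : ¬ (IsConj a b ∧ IsConj a c)) (h1 : IsConj b b') (h2 : IsConj c (b' * a)⁻¹) : b' ∈ J := by
  have p : ∀ {x y : G}, x ^ 3 = 1 → IsConj x y → y ^ 3 = 1 := fun hx e => by
    obtain ⟨g, rfl⟩ := isConj_iff.1 e
    rw [conj_pow, hx]; simp
  have k := p hc h2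
  rcases h.tri ha a1 (p hb h1) (by rwa [inv_pow, inv_eq_one] at k) with e | e
  · exact e
  rcases h.tri ha a1 k (by
    rw [show (b' * a)⁻¹ * a = a⁻¹ * b'⁻¹ * a⁻¹⁻¹ by group, conj_pow, inv_pow, p hb h1]; simp) with e' | e'
  · simpa using J.mul_mem (J.inv_mem e') (J.inv_mem ha)
  · exact (n ⟨e.trans h1.symm, e'.trans h2.symm⟩).elim

open Classical in
theorem card_cls [Fintype G] {w : G} (hw : w ∈ J) (w1 : w ≠ 1) : Nat.card (centralizer ({w} : Set G)) *
    (univ.filter fun c => IsConj w c ∧ c ∈ J).card = Nat.card H := by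
  have := sum_conj_eq (fun x => if x ∈ J then 1 else 0) w
  rw [smul_eq_mul, ← card_filter, ← card_filter, filter_filter] at this
  rw [← this, Nat.card_eq_fintype_card, Fintype.card_subtype]
  exact congrArg _ (filter_congr fun g _ => ⟨h.ti hw w1, fun e => (h.norm g).1 e w hw⟩)

theorem le_cent {w : G} (hw : w ∈ J) : J ≤ centralizer ({w} : Set G) := fun j hj =>
  mem_centralizer_singleton_iff.2 (h.comm j hj w hw)

theorem bound [Finite G] {e : ℕ} (he : Nat.card H = Nat.card J * e) :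
    (H.index : ℤ) * (Nat.card J - 1 - e - e ^ 2) ≤ e * (Nat.card J - 1) := by
  classical
  have := Fintype.ofFinite G
  let A := univ.filter fun a => a ∈ J ∧ a ≠ 1
  have mA : ∀ {a}, a ∈ A ↔ a ∈ J ∧ a ≠ 1 := by simp [A]
  have eA : univ.filter (· ∈ J) = insert 1 A := by
    ext a; by_cases a1 : a = 1 <;> simp [mA, a1]
  have cA : Nat.card J = A.card + 1 := by
    rw [Nat.card_eq_fintype_card, Fintype.card_subtype, eA, card_insert_of_notMem (by simp [mA])]
  have k1 : ∀ w ∈ A, Nat.card (centralizer ({w} : Set G)) * (A.filter fun c => IsConj w c).card = Nat.card H :=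
    fun w hw => by
    rw [← h.card_cls (mA.1 hw).1 (mA.1 hw).2]
    refine congrArg (_ * card ·) (Finset.ext fun c => ?_)
    simp only [mem_filter, mA, mem_univ, true_and]
    exact ⟨fun k => ⟨k.2, k.1.1⟩, fun k => ⟨⟨k.2, by rintro rfl; exact (mA.1 hw).2 (isConj_one_left.1 k.1)⟩, k.1⟩⟩
  have k2 : ∀ w ∈ A, (A.filter fun c => IsConj w c).card ≤ e := fun w hw =>
    Nat.le_of_mul_le_mul_left (by
      rw [← he, ← k1 w hw]; exact Nat.mul_le_mul_right _ (card_le_of_le (h.le_cent (mA.1 hw).1))) (Nat.card_pos (α := J))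
  have k3 : ∀ w ∈ J, ∑ c ∈ A, (if IsConj c w then Nat.card (centralizer ({c} : Set G)) else 0) ≤ Nat.card H :=
    fun w hw => by
    by_cases w1 : w = 1
    · rw [sum_eq_zero fun c hc => if_neg fun k => (mA.1 hc).2 (isConj_one_left.1 (w1 ▸ k))]; exact Nat.zero_le _
    rw [← k1 w (mA.2 ⟨hw, w1⟩), card_filter, mul_sum]
    refine (sum_congr rfl fun c _ => ?_).le
    by_cases k : IsConj c w
    · rw [if_pos k, if_pos k.symm, mul_one, card_centralizer_eq_of_isConj k]
    · rw [if_neg k, if_neg fun k' => k k'.symm, mul_zero]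
  have up : ∑ a ∈ A, ∑ b ∈ A, ∑ c ∈ A, tc a b c ≤ A.card * (e * Nat.card H * Nat.card G) +
      A.card * (A.card * (Nat.card H * Nat.card H)) := by
    rw [← mul_add, ← smul_eq_mul]
    refine sum_le_card_nsmul _ _ _ fun a ha => ?_
    refine le_trans (sum_le_sum (g := fun b => (if IsConj a b then Nat.card H * Nat.card G else 0) +
      Nat.card H * Nat.card H) fun b hb => ?_) ?_
    · refine le_trans (sum_le_sum (g := fun c => (if IsConj a b then if IsConj a c then
        Nat.card (centralizer ({a} : Set G)) * Nat.card G else 0 else 0) + ∑ y with y ∈ H,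
          if IsConj c (y * b * y⁻¹ * a)⁻¹ then Nat.card (centralizer ({c} : Set G)) else 0) fun c hc => ?_) ?_
      · by_cases k : IsConj a b ∧ IsConj a c
        · rw [if_pos k.1, if_pos k.2, card_centralizer_eq_of_isConj k.2, tc, mul_comm]
          exact le_add_right (Nat.mul_le_mul_left _ (Finite.card_subtype_le _))
        refine le_add_left ?_
        rw [← sum_filter, sum_const, smul_eq_mul, tc, Nat.card_eq_fintype_card (α := Subtype _), Fintype.card_subtype,
          filter_filter]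
        refine Nat.mul_le_mul_right _ (card_le_card fun y hy => mem_filter.2 ⟨mem_univ _, ?_, (mem_filter.1 hy).2⟩)
        exact h.ti (mA.1 hb).1 (mA.1 hb).2 (h.tri' (mA.1 ha).1 (mA.1 ha).2 (h.cube b (mA.1 hb).1)
          (h.cube c (mA.1 hc).1) k (isConj_iff.2 ⟨y, rfl⟩) (mem_filter.1 hy).2)
      rw [sum_add_distrib, sum_comm]
      refine add_le_add ?_ ?_
      · split_ifs
        · rw [← sum_filter, sum_const, smul_eq_mul, ← mul_assoc, mul_comm (card _), k1 a ha]
        · simp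
      · refine (sum_le_card_nsmul _ _ _ fun y hy => k3 _ (J.inv_mem (J.mul_mem
          ((h.norm y).1 (mem_filter.1 hy).2 b (mA.1 hb).1) (mA.1 ha).1))).trans ?_
        rw [← Fintype.card_subtype, ← Nat.card_eq_fintype_card, smul_eq_mul]
    · rw [sum_add_distrib, sum_const, smul_eq_mul, ← sum_filter, sum_const, smul_eq_mul, mul_assoc]
      exact Nat.add_le_add_right (Nat.mul_le_mul_right _ (k2 a ha)) _
  have ex : ∀ χ : IrrCharacter G, ∃ s : ℤ, (s : ℂ) = ∑ a ∈ A, (χ : G → ℂ) a ∧ 0 ≤ s + charDegree (χ : G → ℂ) := fun χ => by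
    obtain ⟨n, hn⟩ := (χ.2.isCharacter.restrict J).exists_classInner_nat isCharacter_one
    rw [classInner_one_right, inv_mul_eq_iff_eq_mul₀ card_ne_zero_complex, ← sum_subtype (univ.filter (· ∈ J))
      (by simp) (χ : G → ℂ), eA, sum_insert (by simp [mA]), ← χ.2.coe_charDegree] at hn
    exact ⟨Nat.card J * n - charDegree (χ : G → ℂ), by push_cast; rw [← hn]; ring, by simp; positivity⟩
  choose s hs s0 using ex
  have e1 : ∑ χ, (s χ : ℚ) ^ 2 = A.card * Nat.card H := by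
    have : ∑ χ, (s χ : ℂ) * conj (s χ : ℂ) = ∑ a ∈ A, (Nat.card H : ℂ) := by
      simp only [hs, map_sum, sum_mul_sum]
      rw [sum_comm]
      refine sum_congr rfl fun a ha => ?_
      rw [sum_comm, ← k1 a ha]
      simp only [column_orthogonality, ← sum_filter, sum_const]
      simp [mul_comm]
    simp only [map_intCast, sum_const, nsmul_eq_mul, ← sq] at this
    exact_mod_cast this
  have e2 : ((∑ a ∈ A, ∑ b ∈ A, ∑ c ∈ A, tc a b c : ℕ) : ℚ) =
      Nat.card G * ∑ χ, (s χ : ℚ) ^ 3 / charDegree (χ : G → ℂ) := by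
    refine Rat.cast_injective (α := ℂ) ?_
    push_cast
    simp only [tc_eq, ← mul_sum, hs, fun χ : IrrCharacter G => χ.2.coe_charDegree]
    simp only [sum_comm (s := A) (t := (univ : Finset (IrrCharacter G))), ← sum_div, ← mul_sum, ← sum_mul, pow_three']
  have e3 : (A.card : ℚ) ^ 3 + A.card ^ 2 ≤ ∑ χ, ((s χ : ℚ) ^ 3 / charDegree (χ : G → ℂ) + (s χ : ℚ) ^ 2) := by
    refine le_trans (le_of_eq ?_) (single_le_sum (fun χ _ => ?_) (mem_univ (irrOne G)))
    · have a1 : s (irrOne G) = A.card := Int.cast_injective (α := ℂ) (by simp [hs])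
      have a2 : charDegree (irrOne G : G → ℂ) = 1 := Nat.cast_injective (R := ℂ) (by simp [(irrOne G).2.coe_charDegree])
      simp [a1, a2]
    · have a1 : (0 : ℚ) < charDegree (χ : G → ℂ) := by exact_mod_cast χ.2.charDegree_pos
      have a2 : (0 : ℚ) ≤ s χ + charDegree (χ : G → ℂ) := by exact_mod_cast s0 χ
      rw [div_add' _ _ _ a1.ne', pow_succ, ← mul_add]
      positivity
  rw [sum_add_distrib, e1] at e3
  have e4 := (Nat.cast_le (α := ℚ)).2 up
  rw [e2, ← H.card_mul_index, he, cA] at e4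
  rw [he, cA] at e3
  rw [cA]
  generalize A.card = n at e3 e4
  generalize ∑ χ, (s χ : ℚ) ^ 3 / charDegree (χ : G → ℂ) = T at e3 e4
  have e0 : 0 < e := Nat.pos_of_ne_zero fun k => by rw [k] at he; exact Nat.card_pos.ne' he
  rcases Nat.eq_zero_or_pos n with rfl | n0
  · simp; nlinarith [sq_nonneg (e : ℤ)]
  push_cast at e3 e4 ⊢
  have p : (0 : ℚ) < (n + 1) * e * (n * (n + 1)) := by positivity
  have : (H.index : ℚ) * (n + 1 - 1 - e - e ^ 2) ≤ e * (n + 1 - 1) := by
    refine le_of_mul_le_mul_left ?_ p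
    nlinarith [mul_le_mul_of_nonneg_left e3 (by positivity : (0 : ℚ) ≤ (n + 1) * e * H.index)]
  exact_mod_cast this

theorem index [Finite G] : H = ⊤ ∨ Nat.card J < H.index := by
  refine or_iff_not_imp_left.2 fun k => ?_
  obtain ⟨g, hg⟩ : ∃ g, g ∉ H := by simpa [eq_top_iff'] using k
  have := Fintype.ofFinite J
  have := Fintype.ofFinite (G ⧸ H)
  rw [index_eq_card, Nat.card_eq_fintype_card, Nat.card_eq_fintype_card]
  refine Fintype.card_lt_of_injective_of_notMem (fun j : J => ((j * g : G) : G ⧸ H)) (fun i j e => ?_) (b := ((1 : G) : G ⧸ H)) ?_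
  · by_contra n
    have := QuotientGroup.eq.1 e
    rw [show ((i : G) * g)⁻¹ * (j * g) = g⁻¹ * ((i⁻¹ * j : J) : G) * g⁻¹⁻¹ by simp [mul_assoc]] at this
    exact hg (H.inv_mem_iff.1 (h.ti (i⁻¹ * j).2 (by simpa [inv_mul_eq_one] using n) (h.syl _ this (by
      rw [conj_pow, h.cube _ (i⁻¹ * j).2]; simp))))
  · rintro ⟨j, e⟩
    exact hg (by simpa using H.inv_mem (H.mul_mem (QuotientGroup.eq.1 e) (h.le j.2)))

theorem eq_top [Finite G] {e : ℕ} (he : Nat.card H = Nat.card J * e)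
    (k : (e : ℤ) * (Nat.card J - 1) < (Nat.card J + 1) * (Nat.card J - 1 - e - e ^ 2)) : H = ⊤ := by
  refine h.index.resolve_right fun i => ?_
  have := h.bound he
  have p := Nat.card_pos (α := J)
  have : (0 : ℤ) < Nat.card J - 1 - e - e ^ 2 := by
    by_contra! n
    nlinarith [mul_nonneg (Nat.cast_nonneg (α := ℤ) e) (show (0 : ℤ) ≤ Nat.card J - 1 by omega)]
  nlinarith [show (Nat.card J : ℤ) + 1 ≤ H.index by omega]

end TS

end H6
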