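import Cfsg.Agent.H7.Homo
import Cfsg.Agent.H6.Tri
/-! Principal blocks with automizer of order two (`dih`): `B₀ = {1, χ} ∪ Y`. -/
set_option autoImplicit false
open H5 H7 Cfsg Finset Subgroup
open scoped ComplexConjugate
namespace H6

variable {G : Type*} [Group G] [Finite G] {p : ℕ} [Fact p.Prime] {M : Ideal AlgInt} [PM p M] {P : Subgroup G}

theorem dih (h : FA p P) (h2 : Nat.card (autN P) = 2) (h7 : 7 ≤ Nat.card P) :
    ∃ (χ : IrrCharacter G) (Y : Set (IrrCharacter G)) (ε δ : ℤ), χ ≠ irrOne G ∧ (ε = 1 ∨ ε = -1) ∧ (δ = 1 ∨ δ = -1) ∧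
      Y.Nonempty ∧ irrOne G ∉ Y ∧ (∀ f : IrrCharacter G → ℂ, ∑ᶠ ψ ∈ principalBlock M G, f ψ = f (irrOne G) + f χ + ∑ᶠ η ∈ Y, f η) ∧
      (∀ v ∈ P, v ≠ 1 → (χ : G → ℂ) v = ε) ∧
      ∀ η ∈ Y, ∀ g, ¬ p ∣ orderOf g → δ * (η : G → ℂ) g = 1 + ε * (χ : G → ℂ) g := by
  classical
  have := Fintype.ofFinite G
  have := Fintype.ofFinite P
  have : Nontrivial P := Finite.one_lt_card_iff_nontrivial.1 (by omega)
  have F := h.fam (M := M)
  obtain ⟨ζ, δ, d, α, x⟩ := F.exists_exc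
  have o1 : ∀ v ≠ 1, dn (famP M P) (irrOne G) v = 1 := fun v hv => by
    rw [FA.dn_famP hv, if_pos irrOne_mem_principalBlock]; rfl
  set B := principalBlock M G
  have m1 : irrOne G ∈ B \ ζ '' {1}ᶜ := ⟨irrOne_mem_principalBlock, x.notMem F (by omega) o1⟩
  have a1 : α (irrOne G) = 1 := by
    obtain ⟨v, hv⟩ := exists_ne (1 : P)
    exact_mod_cast (x.non _ m1 v hv).symm.trans (o1 v hv)
  have n1 := x.norm
  have n3 := x.card F
  rw [h2] at n1 n3
  obtain ⟨n5, n5'⟩ := x.sum_sq F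
  have n4 := Finset.sum_nonneg n5'
  have n6 := Set.ncard_sdiff_singleton_add_one m1
  rw [← Nat.card_coe_set_eq (B \ _)] at n6
  have d3 : δ ^ 2 = 1 := by rcases x.sign with e | e <;> simp [e]
  obtain ⟨l, hl⟩ := F.exists_ne_one
  have hd : d = 0 := by
    by_contra d0
    have d1 : 1 ≤ d ^ 2 := (one_le_sq_iff_one_le_abs d).2 (Int.one_le_abs d0)
    have d4 := mul_le_mul (by omega : (2 : ℤ) ≤ Nat.card (ζ '' {1}ᶜ) - 1) (le_refl (d ^ 2)) (by omega) (by omega)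
    have d5 := mul_le_mul (le_refl ((Nat.card (ζ '' {1}ᶜ) : ℤ) - 1)) d1 (by omega) (by omega)
    have d6 := sq_nonneg (d - δ)
    have d2 : d = δ := by
      have : (d - δ) ^ 2 = 0 := by omega
      exact sub_eq_zero.1 (pow_eq_zero_iff two_ne_zero |>.1 this)
    have := x.rel' ⟨l, hl, rfl⟩ (not_dvd_orderOf_one (p := p))
    rw [show B \ ζ '' {1}ᶜ = {irrOne G} from (Set.sdiff_eq_empty.1
        ((Set.ncard_eq_zero (Set.toFinite _)).1 (by omega))).antisymm (Set.singleton_subset_iff.2 m1), finsum_mem_singleton,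
      show Nat.card (ζ '' {1}ᶜ) = 3 by omega, d2, a1, ← H8.coe_deg] at this
    have : (2 * (δ * charDegree (ζ l : G → ℂ)) + 1 : ℤ) = 0 := by
      apply Int.cast_injective (α := ℂ); push_cast at this ⊢; rw [irrOne_apply] at this
      linear_combination this
    omega
  rw [hd, zero_sub, neg_sq, d3] at n1
  have n7 : ((B \ ζ '' {1}ᶜ) \ {irrOne G}).ncard = 1 := by
    by_contra e
    have e0 : B \ ζ '' {1}ᶜ = {irrOne G} := (Set.sdiff_eq_empty.1
      ((Set.ncard_eq_zero (Set.toFinite _)).1 (by omega))).antisymm (Set.singleton_subset_iff.2 m1)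
    rw [e0, finsum_mem_singleton, a1] at n1
    omega
  obtain ⟨χ, e2⟩ := Set.ncard_eq_one.1 n7
  have m2 : χ ∈ (B \ ζ '' {1}ᶜ) \ {irrOne G} := e2.ge rfl
  have hX : B \ ζ '' {1}ᶜ = {irrOne G, χ} := by
    rw [← e2, Set.insert_sdiff_singleton, Set.insert_eq_of_mem m1]
  have hne : irrOne G ≠ χ := fun e => m2.2 e.symm
  rw [hX, finsum_mem_pair hne, a1] at n1
  refine ⟨χ, ζ '' {1}ᶜ, α χ, δ, hne.symm, sq_eq_one_iff.1 (by omega), x.sign, ⟨_, l, hl, rfl⟩, m1.2, fun f => ?_,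
    fun v hv v1 => ?_, fun η hη g hg => ?_⟩
  · rw [← finsum_mem_pair hne, ← hX, ← finsum_mem_union Set.disjoint_sdiff_left (Set.toFinite _) (Set.toFinite _),
      Set.sdiff_union_of_subset x.subset]
  · have := x.non χ m2.1 ⟨v, hv⟩ (by simpa using v1)
    rwa [FA.dn_famP (by simpa using v1), if_pos m2.1.1] at this
  · have := x.rel' hη hg
    rw [hX, finsum_mem_pair hne, a1, hd, irrOne_apply] at this
    push_cast at this
    linear_combination -this

theorem geom_odd {x : ℤ} (hx : Odd x) {n k : ℕ} (hn : Odd n) (h : x ^ n - 1 ∣ 2 ^ k) (h2 : ¬ x ∣ 2) : x ^ n = x := by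
  have e := mul_geom_sum x n
  have o : Odd (∑ i ∈ range n, x ^ i) := by
    have : ∀ n : ℕ, (∑ i ∈ range n, x ^ i) % 2 = n % 2 := fun n => by
      induction n with
      | zero => simp
      | succ n ih => have := Int.odd_iff.1 (hx.pow (n := n)); rw [sum_range_succ]; omega
    have := this n
    have := Nat.odd_iff.1 hn
    rw [Int.odd_iff]; omega
  have u : IsUnit (∑ i ∈ range n, x ^ i) :=
    ((Int.isCoprime_two_right.2 o).pow_right (n := k)).isUnit_of_dvd' dvd_rfl ((Dvd.intro_left _ e).trans h)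
  rcases Int.isUnit_iff.1 u with u | u <;> rw [u] at e
  · linarith
  · exact absurd (by rw [show (2 : ℤ) = x ^ n + x by linarith]; exact dvd_add (dvd_pow_self x hn.pos.ne') dvd_rfl) h2

theorem consec {q a b d : ℕ} (hq : q.Prime) (q2 : q ≠ 2) (h1 : d ∣ 9 * 2 ^ a * q ^ b) (h2 : d + 1 ∣ 9 * 2 ^ a * q ^ b)
    (h3 : d % 3 = 1) (d1 : d ≠ 1) : (d = q ∧ ∃ i, d + 1 = 2 ^ i) ∨ (d + 1 = q ∧ ∃ i, d = 2 ^ i) := by
  have k : ∀ e, ¬ 3 ∣ e → e ∣ 9 * 2 ^ a * q ^ b → ∃ i j, e = 2 ^ i * q ^ j := fun e e3 he => by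
    rw [mul_assoc] at he
    obtain ⟨u, v, hu, hv, rfl⟩ := (Nat.dvd_mul).1 (Nat.Coprime.dvd_of_dvd_mul_left
      (((Nat.Prime.coprime_iff_not_dvd Nat.prime_three).2 e3).symm.pow_right 2) he)
    obtain ⟨i, -, rfl⟩ := (Nat.dvd_prime_pow Nat.prime_two).1 hu
    obtain ⟨j, -, rfl⟩ := (Nat.dvd_prime_pow hq).1 hv
    exact ⟨i, j, rfl⟩
  obtain ⟨i, j, e1⟩ := k d (by omega) h1
  obtain ⟨m, l, e2⟩ := k (d + 1) (by omega) h2
  have qo : Odd q := hq.odd_of_ne_two q2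
  have q1 := hq.two_le
  have nq : ¬ (q ∣ d ∧ q ∣ d + 1) := fun ⟨x, y⟩ => by
    have := Nat.le_of_dvd one_pos ((Nat.dvd_add_right x).1 y); omega
  have nd : ¬ (q : ℤ) ∣ 2 := fun x => q2 ((Nat.prime_dvd_prime_iff_eq hq Nat.prime_two).1 (by exact_mod_cast x))
  rcases Nat.eq_zero_or_pos i with rfl | i0
  · have j0 : j ≠ 0 := by rintro rfl; simp at e1; omega
    obtain rfl : l = 0 := by
      by_contra l0; exact nq ⟨e1 ▸ (dvd_pow_self q j0).mul_left _, e2 ▸ (dvd_pow_self q l0).mul_left _⟩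
    simp only [pow_zero, mul_one, one_mul] at e1 e2
    refine .inl ⟨?_, m, e2⟩
    rcases Nat.even_or_odd j with ⟨c, rfl⟩ | hj
    · exfalso
      obtain ⟨r, hr⟩ : Odd (q ^ c) := qo.pow
      have : d = 4 * (r * r + r) + 1 := by rw [e1, pow_add, hr]; ring
      rcases m with _ | _ | m
      · omega
      · omega
      · rw [pow_add, pow_add] at e2; omega
    · have := geom_odd (x := -q) (k := m) (by exact_mod_cast (Int.odd_coe_nat q |>.2 qo).neg) hj (by
        rw [hj.neg_pow, ← neg_add', neg_dvd]; exact_mod_cast (e1 ▸ e2 : q ^ j + 1 = _).dvd) (by rwa [neg_dvd])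
      rw [hj.neg_pow, neg_inj] at this
      rw [e1]; exact_mod_cast this
  · have d2 : 2 ∣ d := e1 ▸ (dvd_pow_self 2 i0.ne').mul_right _
    obtain rfl : m = 0 := by
      by_contra m0; have : 2 ∣ d + 1 := e2 ▸ (dvd_pow_self 2 m0).mul_right _; omega
    have l0 : l ≠ 0 := by rintro rfl; simp at e2; omega
    obtain rfl : j = 0 := by
      by_contra j0; exact nq ⟨e1 ▸ (dvd_pow_self q j0).mul_left _, e2 ▸ (dvd_pow_self q l0).mul_left _⟩
    simp only [pow_zero, mul_one, one_mul] at e1 e2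
    refine .inr ⟨?_, i, e1⟩
    rcases Nat.even_or_odd l with ⟨c, rfl⟩ | hl
    · exfalso
      rw [pow_add] at e2
      have := Nat.mul_mod (q ^ c) (q ^ c) 3
      rcases (by omega : q ^ c % 3 = 0 ∨ q ^ c % 3 = 1 ∨ q ^ c % 3 = 2) with e | e | e <;> rw [e] at this <;> omega
    · have := geom_odd (x := q) (k := i) (Int.odd_coe_nat q |>.2 qo) hl (by
        rw [show (q : ℤ) ^ l - 1 = 2 ^ i by have : ((2 ^ i + 1 : ℕ) : ℤ) = (q ^ l : ℕ) := by rw [← e1, e2]
                                            push_cast at this; linarith]) nd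
      rw [e2]; exact_mod_cast this

end H6
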