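import Cfsg.Agent.H6.K3a
import Cfsg.Agent.H6.A8
import Cfsg.Agent.H10.PSL2Max
import Cfsg.Agent.S0492
import Cfsg.Agent.S3968
import Cfsg.Agent.S0997
import Cfsg.Agent.S1001
import Cfsg.Agent.S0196
import Cfsg.Agent.S1011
import Cfsg.Agent.S1020
import Cfsg.Agent.S0976
import Cfsg.Agent.S0944
import Mathlib.FieldTheory.Finite.GaloisField
/-! Simple groups of order `9·2^a·q^b` (`K3`): consecutive degrees (`K3.pair`), the cases `b = 1`, `q ≥ 7` (`K3.fin`) and
the automizer of order two on a Sylow `3`-subgroup (`K3.z2`). -/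
set_option autoImplicit false
open H5 H7 Cfsg Finset Subgroup
open scoped ComplexConjugate MatrixGroups
namespace H6

variable {G : Type*} [Group G] [Finite G]

theorem vanish_out {B : Set (IrrCharacter G)} {x : G} (h : mu B x x = Nat.card (centralizer ({x} : Set G)))
    {ψ : IrrCharacter G} (hψ : ψ ∉ B) : (ψ : G → ℂ) x = 0 := by
  classical
  have := Fintype.ofFinite G
  have e := column_orthogonality x x
  rw [if_pos (IsConj.refl x), ← h, H7.mu_eq, ← sub_eq_zero, ← sum_sub_distrib] at e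
  have e2 : ∑ χ : IrrCharacter G, (if χ ∈ B then 0 else Complex.normSq ((χ : G → ℂ) x)) = 0 := by
    apply Complex.ofReal_injective
    rw [Complex.ofReal_zero, ← e, Complex.ofReal_sum]
    exact sum_congr rfl fun χ _ => by split_ifs <;> simp [Complex.mul_conj]
  have := (sum_eq_zero_iff_of_nonneg fun χ _ => by split_ifs; exacts [le_rfl, Complex.normSq_nonneg _]).1 e2 ψ (mem_univ _)
  rwa [if_neg hψ, Complex.normSq_eq_zero] at this

theorem exists_two_central {a : ℕ} (h : 2 ^ a ∣ Nat.card G) (a0 : a ≠ 0) :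
    ∃ t : G, orderOf t = 2 ∧ 2 ^ a ∣ Nat.card (centralizer ({t} : Set G)) := by
  obtain ⟨S, hS⟩ := Sylow.exists_subgroup_card_pow_prime 2 h
  have : Nontrivial S := Finite.one_lt_card_iff_nontrivial.1 (hS ▸ Nat.one_lt_two_pow a0)
  have hp : IsPGroup 2 S := .of_card hS
  have := hp.center_nontrivial
  obtain ⟨k, k0, hk⟩ := (hp.to_subgroup (center S)).nontrivial_iff_card.1 this
  obtain ⟨t, ht⟩ := exists_prime_orderOf_dvd_card' (G := center S) 2 (hk ▸ dvd_pow_self 2 k0.ne')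
  refine ⟨t, by rw [orderOf_coe, orderOf_coe, ht], hS ▸ card_dvd_of_le fun s hs => ?_⟩
  exact mem_centralizer_singleton_iff.2 (congrArg Subtype.val (mem_center_iff.1 t.2 ⟨s, hs⟩))

variable [IsSimpleGroup G]

theorem faith {χ : IrrCharacter G} (h : χ ≠ irrOne G) {g : G} (e : (χ : G → ℂ) g = (χ : G → ℂ) 1) : g = 1 :=
  (χ.2.charKer_eq_bot_of_isSimpleGroup fun e => h (Subtype.ext e)).le (χ.2.isCharacter.mem_charKer.2 e)

theorem deg_ne_one (nc : ¬ IsMulCommutative G) {χ : IrrCharacter G} (h : χ ≠ irrOne G) : charDegree (χ : G → ℂ) ≠ 1 :=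
  fun e => nc ⟨⟨fun x y => by
    have e1 : (χ : G → ℂ) 1 = 1 := by rw [← H8.coe_deg, e, Nat.cast_one]
    obtain ⟨l, hl⟩ := χ.2.isCharacter.exists_hom_of_apply_one e1
    have := faith h (g := x * y * (y * x)⁻¹) (by
      simp only [hl]; rw [map_mul, map_inv, map_mul, map_mul, mul_comm (l x), mul_inv_cancel, map_one])
    exact mul_inv_eq_one.1 this⟩⟩

omit [Finite G] [IsSimpleGroup G] in
theorem deg_ne_zero (χ : IrrCharacter G) : charDegree (χ : G → ℂ) ≠ 0 := fun e =>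
  χ.2.apply_one_ne_zero (by rw [← H8.coe_deg, e, Nat.cast_zero])

variable (G) in
structure K3 (q a b : ℕ) : Prop where
  nc : ¬ IsMulCommutative G
  hq : q.Prime
  q2 : q ≠ 2
  q3 : q ≠ 3
  card : Nat.card G = 9 * 2 ^ a * q ^ b

variable (G) in
def L817 : Prop := (∃ (F : Type) (_ : Field F) (_ : Fintype F), Fintype.card F = 8 ∧ Nonempty (G ≃* PSL(2, F))) ∨
  Nonempty (G ≃* PSL(2, ZMod 17))

namespace K3
variable {q a b : ℕ} (h : K3 G q a b)
include h

omit [Finite G] in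
theorem ns : ¬ Group.IsSolvable G := fun e => h.nc ⟨⟨IsSimpleGroup.comm_iff_isSolvable.2 e⟩⟩

theorem cases : q = 5 ∨ q = 7 ∨ q = 13 ∨ q = 17 := by
  have a0 : a ≠ 0 := by
    rintro rfl; exact h.ns (burnside_paqb (a := 2) Nat.prime_three h.hq (by simpa using h.card))
  have b0 : b ≠ 0 := by
    rintro rfl; exact h.ns (burnside_paqb (a := 2) Nat.prime_three Nat.prime_two (by simpa using h.card))
  have e : (Nat.card G).primeFactors = {2, 3, q} := by
    rw [h.card, Nat.primeFactors_mul (by positivity) (pow_pos h.hq.pos _).ne', Nat.primeFactors_mul (by positivity) (by positivity),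
      Nat.primeFactors_prime_pow b0 h.hq, Nat.primeFactors_prime_pow a0 Nat.prime_two,
      show 9 = 3 ^ 2 from rfl, Nat.primeFactors_prime_pow two_ne_zero Nat.prime_three]
    ext; simp; tauto
  have := h.q2
  have := h.q3
  have m : q ∈ (Nat.card G).primeFactors := by simp [e]
  rcases Cfsg.Agent.S0492.result h.nc (by rw [e, card_eq_three]; exact ⟨2, 3, q, by omega, by omega, by omega, rfl⟩)
    with e | e | e | e <;> simp [e] at m <;> omega

theorem pair {χ η : IrrCharacter G} (h1 : χ ≠ irrOne G) (h2 : η ≠ irrOne G) {d : ℕ} (e1 : charDegree (χ : G → ℂ) = d)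
    (e2 : charDegree (η : G → ℂ) = d + 1) (h3 : d % 3 = 1) :
    b = 1 ∧ ((d = q ∧ ∃ i, d + 1 = 2 ^ i) ∨ (d + 1 = q ∧ ∃ i, d = 2 ^ i)) := by
  have k := consec h.hq h.q2 (h.card ▸ e1 ▸ χ.2.charDegree_dvd_card) (h.card ▸ e2 ▸ η.2.charDegree_dvd_card) h3
    (e1 ▸ deg_ne_one h.nc h1)
  have : ∀ ψ : IrrCharacter G, ψ ≠ irrOne G → charDegree (ψ : G → ℂ) = q → b = 1 := fun ψ h1 e => by
    have c : q.Coprime (9 * 2 ^ a) := Nat.Coprime.mul_right
      (((Nat.coprime_primes h.hq Nat.prime_three).2 h.q3).pow_right 2) (((Nat.coprime_primes h.hq Nat.prime_two).2 h.q2).pow_right a)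
    have d1 := ψ.2.charDegree_dvd_card
    rw [e, h.card] at d1
    rcases b with _ | _ | b
    · exact absurd (c.dvd_of_dvd_mul_left d1) (by simpa using h.hq.one_lt.ne')
    · rfl
    · refine absurd ?_ (Cfsg.Agent.S3968.result q h.hq ψ (by rw [← e]; exact (H8.coe_deg ψ).symm) (fun g => faith h1)
        (h.card ▸ (pow_dvd_pow q (by omega)).mul_left _))
      exact (IsSimpleGroup.eq_bot_or_eq_top_of_normal _ inferInstance).resolve_right fun e => h.nc ⟨⟨fun x y => (mem_center_iff.1 (e.ge (mem_top y)) x)⟩⟩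
  exact ⟨k.elim (fun k => this χ h1 (e1.trans k.1)) fun k => this η h2 (e2.trans k.1), k⟩

end K3

theorem K3.big {q a : ℕ} (h : K3 G q a 1) (h7 : 7 < q) : L817 G := by
  have c := h.card
  have : q = 13 ∨ q = 17 := by have := h.cases; omega
  rcases Cfsg.Agent.S0997.result (G := G) (fun _ => h.nc inferInstance) q 2 a 9 h.hq Nat.prime_two h.q2 (by rw [c]; ring) (by omega)
    with ⟨m, F, _, _, hF, -, ⟨e⟩⟩ | ⟨m, F, _, _, hF, hm, -, ⟨e⟩⟩ <;> have e1 := Nat.card_congr e.toEquiv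
  · rcases this with rfl | rfl
    · rw [H10.card_PSL2_of 1092 hF (by norm_num), c] at e1; omega
    · have : Fact (Nat.Prime 17) := ⟨h.hq⟩
      rw [H10.card_PSL2_of 2448 hF (by norm_num)] at e1
      exact .inr (Cfsg.Agent.S1020.result (F := ZMod 17) e1 (ZMod.card 17))
  · rcases this with rfl | rfl
    · have := Nat.prime_three.dvd_of_dvd_pow (by omega : 3 ∣ 2 ^ m); omega
    · rw [H10.card_PSL2_of 4080 (hF.trans (by omega : 2 ^ m = 16)) (by norm_num), c] at e1; omega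

omit [IsSimpleGroup G] in
theorem deg_mod {P : Subgroup G} {χ : IrrCharacter G} {ε : ℤ} (h : ∀ v ∈ P, v ≠ 1 → (χ : G → ℂ) v = ε) :
    (Nat.card P : ℤ) ∣ charDegree (χ : G → ℂ) - ε := by
  have := Fintype.ofFinite P
  exact dvd_of_const (χ.2.isCharacter.comp P.subtype).isGen (by simp [H8.coe_deg]) fun v hv => h v v.2 (by simpa using hv)

theorem ar7 {a e n : ℕ} (h1 : e ∣ 6) (h2 : e ≠ 1) (h3 : n % 7 = 1) (h4 : e * n = 9 * 2 ^ a) : e = 2 ∧ a % 3 = 0 := by
  have e7 : 2 ^ a % 7 = 2 ^ (a % 3) % 7 := by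
    conv_lhs => rw [← Nat.div_add_mod a 3, pow_add, pow_mul, Nat.mul_mod, Nat.pow_mod]
    simp
  have := Nat.le_of_dvd (by omega) h1
  rcases (by omega : a % 3 = 0 ∨ a % 3 = 1 ∨ a % 3 = 2) with e8 | e8 | e8 <;> rw [e8] at e7 <;> interval_cases e <;> omega

theorem K3.fa7 {a : ℕ} (h : K3 G 7 a 1) : ∃ (P : Subgroup G) (x : G), FA 7 P ∧ Nat.card (autN P) = 2 ∧
    Nat.card P = 7 ∧ x ∈ P ∧ x ≠ 1 ∧ centralizer {x} = P ∧ a % 3 = 0 := by
  have : Fact (Nat.Prime 7) := ⟨h.hq⟩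
  have c := h.card
  obtain ⟨P⟩ : Nonempty (Sylow 7 G) := inferInstance
  have cP : Nat.card P = 7 := by
    rw [P.card_eq_multiplicity, c, Nat.factorization_mul (by positivity) (by positivity), Finsupp.add_apply,
      Nat.factorization_eq_zero_of_not_dvd (fun e => by
        rcases (Nat.Prime.dvd_mul h.hq).1 e with e | e
        · omega
        · have := h.hq.dvd_of_dvd_pow e; omega), pow_one, h.hq.factorization_self]; rfl
  have hC : ∀ y ∈ (P : Subgroup G), y ≠ 1 → centralizer {y} = (P : Subgroup G) := fun y hy y1 => by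
    have o : orderOf y = 7 := ((Nat.dvd_prime h.hq).1 (cP ▸ orderOf_dvd_natCard _ hy)).resolve_left (by simpa using y1)
    rw [Cfsg.Agent.S1001.result 7 2 a h.hq (by rw [c]; ring) y o]
    exact eq_of_le_of_card_ge (by simpa using hy) (by rw [Nat.card_zpowers, o, cP])
  have : Nontrivial P := Finite.one_lt_card_iff_nontrivial.1 (by omega)
  obtain ⟨⟨x, hx⟩, x1⟩ := exists_ne (1 : P)
  have x1 : x ≠ 1 := fun e => x1 (Subtype.ext e)
  have ab : (P : Subgroup G) ≤ centralizer ((P : Subgroup G) : Set G) := fun y hy z hz => by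
    by_cases z1 : z = 1
    · simp [z1]
    · exact (mem_centralizer_singleton_iff.1 ((hC z hz z1).ge hy)).symm
  have eC : centralizer ((P : Subgroup G) : Set G) = P :=
    ((centralizer_le (Set.singleton_subset_iff.2 hx)).trans (hC x hx x1).le).antisymm ab
  have e1 := Cfsg.Agent.S0196.result _ hC
  have e2 := card_sylow_modEq_one 7 G
  have e3 := relIndex_mul_index (le_normalizer (H := (P : Subgroup G)))
  have e4 := (P : Subgroup G).index_mul_card
  rw [P.card_eq_index_normalizer] at e2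
  rw [cP] at e1 e4
  obtain ⟨e5, e6⟩ := ar7 (a := a) e1 (fun e => simple_norm_ne h.nc P (fun e => x1 (e.le hx)) (eC.symm ▸ relIndex_eq_one.1 e)) e2
    (e3.trans (by omega))
  exact ⟨P, x, ⟨sylIn_top P, ab, fun y hy y1 => inf_le_left.trans ((hC y hy y1).le.trans ab)⟩, by rw [card_autN, eC]; exact e5,
    cP, hx, x1, hC x hx x1, e6⟩

theorem K3.seven {a : ℕ} (h : K3 G 7 a 1) : L817 G := by
  classical
  have : Fact (Nat.Prime 7) := ⟨h.hq⟩
  have := Fintype.ofFinite G
  have c := h.card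
  obtain ⟨M, hM⟩ := exists_isPModular 7
  have : PM 7 M := ⟨hM⟩
  obtain ⟨P, x, hF, h2, cP, hx, x1, hC, a3⟩ := h.fa7
  obtain ⟨χ, Y, ε, δ, χ1, hε, hδ, ⟨η, hη⟩, Y1, hs, hv, hY⟩ := dih (M := M) hF h2 cP.ge
  have d1 := deg_mod hv
  have d2 := hY η hη 1 not_dvd_orderOf_one
  have d3 := deg_ne_one h.nc χ1
  have d4 := deg_ne_one h.nc (fun e => Y1 (e ▸ hη) : η ≠ irrOne G)
  have d5 := χ.2.charDegree_dvd_card
  have d6 := η.2.charDegree_dvd_card
  rw [← H8.coe_deg, ← H8.coe_deg] at d2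
  have d7 : δ * charDegree (η : G → ℂ) = 1 + ε * charDegree (χ : G → ℂ) := by exact_mod_cast d2
  have k : ∀ n, n ∣ Nat.card G → n % 2 = 1 → ¬ 7 ∣ n → n ≠ 1 → n = 3 ∨ n = 9 := fun n h1 h2 h3 h4 => by
    have := Nat.Coprime.dvd_of_dvd_mul_right ((Nat.coprime_two_right.2 (Nat.odd_iff.2 h2)).pow_right a)
      (Nat.Coprime.dvd_of_dvd_mul_right (((Nat.Prime.coprime_iff_not_dvd h.hq).2 h3).symm.pow_right 1) (c ▸ h1))
    have := Nat.le_of_dvd (by omega) this
    interval_cases n <;> omega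
  have k1 := k _ d5
  have k2 := k _ d6
  rw [cP] at d1
  obtain ⟨rfl, rfl, e8⟩ : ε = 1 ∧ δ = 1 ∧ charDegree (χ : G → ℂ) = 8 := by
    rcases hε with rfl | rfl <;> rcases hδ with rfl | rfl <;> omega
  have e8' : (χ : G → ℂ) 1 = 8 := by rw [← H8.coe_deg, e8]; rfl
  have a0 : a ≠ 0 := by rintro rfl; rw [e8, c] at d5; omega
  obtain ⟨t, ht, hc⟩ := exists_two_central (c ▸ (dvd_mul_left _ 9).mul_right _ : 2 ^ a ∣ Nat.card G) a0
  obtain ⟨s, hs1, -⟩ := Cfsg.Agent.S0944.result χ t ht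
  have y1 : ∀ η ∈ Y, (η : G → ℂ) 1 = 9 := fun η hη => by
    have := hY η hη 1 not_dvd_orderOf_one; rw [e8'] at this; push_cast at this; linear_combination this
  have y2 : ∀ η ∈ Y, (η : G → ℂ) t = 1 + s := fun η hη => by
    have := hY η hη t (by omega); rw [hs1] at this; push_cast at this; linear_combination this
  have sm : ∀ c : ℂ, ∑ᶠ η ∈ Y, (η : G → ℂ) x * c = (∑ᶠ η ∈ Y, (η : G → ℂ) x) * c := fun c => by
    rw [finsum_mem_irr, finsum_mem_irr, sum_mul]; simp
  have xo : pp 7 x = x := pp_of_isPE (isPE_of_mem hF.syl.isPGroup hx)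
  have y3 : ∑ᶠ η ∈ Y, (η : G → ℂ) x = -1 := by
    have := mu_eq_zero (p := 7) (isSat_of_isPBlock (isPBlock_principalBlock (M := M))) (g := x) (h := 1) (by simp [xo, pp_one, x1])
    rw [mu, hs, finsum_mem_congr rfl (g := fun η : IrrCharacter G => (η : G → ℂ) x * 9) (fun η hη => by rw [y1 η hη, map_ofNat]), sm, hv x hx x1,
      e8', map_ofNat] at this
    simp at this
    linear_combination this / 9
  have t1 := tc_eq x t t
  obtain ⟨N, t2⟩ : ∃ N : ℕ, tc x t t = N * Nat.card (centralizer {t}) * Nat.card (centralizer {t}) :=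
    ⟨_, tc_count (ι := MonoidHom.id G) (fun _ _ e => e) x t t (fun _ _ _ => ⟨_, rfl⟩) _ fun _ => Iff.rfl⟩
  have t3 : ∑ ψ : IrrCharacter G, (ψ : G → ℂ) x * (ψ : G → ℂ) t * (ψ : G → ℂ) t / (ψ : G → ℂ) 1 = (8 - s) ^ 2 / 72 := by
    have m := (hF.mu_eq (M := M) hx x1 x).trans (if_pos (xo.symm ▸ IsConj.refl x))
    rw [← hC] at m
    have := hs fun ψ => (ψ : G → ℂ) x * (ψ : G → ℂ) t * (ψ : G → ℂ) t / (ψ : G → ℂ) 1
    rw [finsum_mem_irr, finsum_mem_congr rfl (g := fun η : IrrCharacter G => (η : G → ℂ) x * ((1 + s) ^ 2 / 9)) (fun η hη => by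
      rw [y1 η hη, y2 η hη]; ring), sm, y3, hv x hx x1, hs1, e8'] at this
    rw [sum_congr rfl fun ψ _ => ?_, this]
    · simp; ring
    · split_ifs with e
      · rfl
      · simp [vanish_out m e]
  obtain ⟨m, hm⟩ := hc
  rw [t2, t3, c, hm] at t1
  have t4 : (72 * N * m ^ 2 * 2 ^ a : ℤ) = 63 * (8 - s) ^ 2 := by
    apply mul_left_cancel₀ (a := (2 : ℤ) ^ a) (by positivity)
    apply Int.cast_injective (α := ℂ); push_cast at t1 ⊢; linear_combination 72 * t1
  have s8 : s ≠ 8 := fun e => by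
    have := faith χ1 (g := t) (by rw [hs1, e8', e]; rfl); simp [this] at ht
  have s9 : |s| ≤ 8 := by
    have := χ.2.isCharacter.norm_le t
    rw [hs1, e8', Complex.norm_intCast] at this
    exact_mod_cast this.trans (by simp : _ ≤ (8 : ℝ))
  have t5 : 0 < (N * m ^ 2 : ℤ) := by
    refine lt_of_le_of_ne (by positivity) fun e => s8 ?_
    rw [mul_assoc 72, ← e] at t4
    have : (8 - s) ^ 2 = 0 := by omega
    have := pow_eq_zero_iff two_ne_zero |>.1 this; omega
  have t6 : (2 : ℤ) ^ a < 2 ^ 8 := by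
    have := abs_le.1 s9
    have : (8 - s) ^ 2 ≤ 16 ^ 2 := pow_le_pow_left₀ (by omega) (by omega) 2
    have : (0 : ℤ) < 2 ^ a := by positivity
    nlinarith
  have := (pow_lt_pow_iff_right₀ (by norm_num)).1 t6
  rcases (by omega : a = 3 ∨ a = 6) with rfl | rfl
  · have : Fact (Nat.Prime 2) := ⟨Nat.prime_two⟩
    have := Fintype.ofFinite (GaloisField 2 3)
    have e : Fintype.card (GaloisField 2 3) = 8 := by rw [← Nat.card_eq_fintype_card, GaloisField.card 2 3 (by omega)]; rfl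
    exact .inl ⟨_, _, _, e, Cfsg.Agent.S1011.result c e⟩
  · exact absurd c Cfsg.Agent.S0976.result

theorem K3.fin {q a : ℕ} (h : K3 G q a 1) (h5 : q ≠ 5) : L817 G := by
  rcases h.cases with rfl | rfl | rfl | rfl
  exacts [absurd rfl h5, h.seven, h.big (by omega), h.big (by omega)]

theorem K3.z2 {q a b : ℕ} (h : K3 G q a b) {R : Subgroup G} (hF : FA 3 R) (h2 : Nat.card (autN R) = 2) (cR : Nat.card R = 9) :
    L817 G := by
  have : Fact (Nat.Prime 3) := ⟨Nat.prime_three⟩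
  obtain ⟨M, hM⟩ := exists_isPModular 3
  have : PM 3 M := ⟨hM⟩
  obtain ⟨χ, Y, ε, δ, χ1, hε, hδ, ⟨η, hη⟩, Y1, -, hv, hY⟩ := dih (M := M) hF h2 (by omega)
  have d1 := deg_mod hv
  have d2 := hY η hη 1 not_dvd_orderOf_one
  have η1 : η ≠ irrOne G := fun e => Y1 (e ▸ hη)
  have d3 := deg_ne_zero η
  have d4 := deg_ne_zero χ
  rw [← H8.coe_deg, ← H8.coe_deg] at d2
  have d7 : δ * charDegree (η : G → ℂ) = 1 + ε * charDegree (χ : G → ℂ) := by exact_mod_cast d2
  rw [cR] at d1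
  rcases hε with rfl | rfl
  · obtain ⟨rfl, e⟩ := h.pair χ1 η1 rfl (by rcases hδ with rfl | rfl <;> omega) (by omega)
    exact h.fin (by omega)
  · obtain ⟨rfl, e⟩ := h.pair η1 χ1 rfl (by rcases hδ with rfl | rfl <;> omega) (by rcases hδ with rfl | rfl <;> omega)
    exact h.fin (by rcases hδ with rfl | rfl <;> omega)

end H6
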