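import Cfsg.Agent.H6.K3b
import Cfsg.Agent.H7.Ab1
/-! A norm three column of the principal `3`-block when the Sylow `3`-subgroup is `E₉` with automizer a four-group
(`V4.col`), and `K3.v4`. -/
set_option autoImplicit false
open H5 H7 Cfsg Finset Subgroup
open scoped ComplexConjugate
namespace H6

variable {G : Type*} [Group G] [Finite G]

theorem sum_inner_mu {K : Type*} [Group K] [Fintype K] (φ : K → G) (A : Set (IrrCharacter G)) (α : K → ℂ) (h : G) :
    ∑ᶠ χ ∈ A, classInner (fun k => (χ : G → ℂ) (φ k)) α * conj ((χ : G → ℂ) h) =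
      (Nat.card K : ℂ)⁻¹ * ∑ k, conj (α k) * mu A (φ k) h := by
  classical
  simp only [finsum_mem_irr, H7.mu_eq, classInner, mul_sum, sum_mul]
  rw [sum_comm]
  refine sum_congr rfl fun χ _ => ?_
  split_ifs
  · exact sum_congr rfl fun _ _ => by ring
  · simp

theorem sum_sq_mu {K : Type*} [Group K] [Fintype K] (φ : K → G) (A : Set (IrrCharacter G)) (α : K → ℂ) :
    ∑ᶠ χ ∈ A, classInner (fun k => (χ : G → ℂ) (φ k)) α * conj (classInner (fun k => (χ : G → ℂ) (φ k)) α) =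
      (Nat.card K : ℂ)⁻¹ * ∑ h, α h * ((Nat.card K : ℂ)⁻¹ * ∑ k, conj (α k) * mu A (φ k) (φ h)) := by
  classical
  simp only [← sum_inner_mu]
  simp only [finsum_mem_irr, mul_sum]
  rw [sum_comm]
  refine sum_congr rfl fun χ _ => ?_
  split_ifs
  · conv_lhs => rw [classInner_conj_symm]; enter [2]; rw [classInner]
    simp only [mul_sum]
    exact sum_congr rfl fun _ _ => by ring
  · simp

theorem res_ne_zero {K : Type*} [Group K] [Fintype G] [Fintype K] (f : K →* G) {φ : G → ℂ} (hφ : IsCharacter G φ)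
    (h : classInner φ (fun _ => 1) ≠ 0) : ∃ n : ℕ, n ≠ 0 ∧ ∑ k, φ (f k) = Nat.card K * n := by
  classical
  obtain ⟨m, h1, h2⟩ := hφ.exists_nat
  choose k hk using fun χ : IrrCharacter G => (χ.2.isCharacter.comp f).exists_classInner_nat (irrOne K).2.isCharacter
  have c : (Nat.card K : ℂ) ≠ 0 := Nat.cast_ne_zero.2 Nat.card_pos.ne'
  have hk' : ∀ χ : IrrCharacter G, ∑ x, (χ : G → ℂ) (f x) = Nat.card K * k χ := fun χ => by
    rw [← hk χ, classInner]; simp
  refine ⟨∑ χ, m χ * k χ, fun e => ?_, ?_⟩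
  · have e1 := hk' (irrOne G)
    have := sum_eq_zero_iff.1 e _ (mem_univ (irrOne G))
    rcases mul_eq_zero.1 this with e | e
    · exact h ((h1 (irrOne G)).trans (by rw [e, Nat.cast_zero]))
    · simp [e] at e1
  · rw [h2]
    simp only [Finset.sum_apply, Pi.smul_apply, smul_eq_mul]
    rw [sum_comm]
    simp only [← mul_sum, hk']
    push_cast
    rw [mul_sum]
    exact sum_congr rfl fun _ _ => by ring

theorem three_vec {I : Type*} (B : Finset I) {o : I} (ho : o ∈ B) (n : I → ℤ) (d : I → ℕ) (n1 : n o = 1) (d1 : d o = 1)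
    (h1 : ∑ i ∈ B, n i ^ 2 ≤ 3) (h2 : ∑ i ∈ B, n i * d i = 0) (h3 : ∀ i, d i ≠ 0) (h4 : ∀ i ≠ o, d i ≠ 1) :
    ∃ i ∈ B, ∃ j ∈ B, i ≠ o ∧ j ≠ o ∧ n i = 1 ∧ d j = d i + 1 := by
  classical
  rw [← add_sum_erase _ _ ho, n1, ← sum_filter_of_ne (p := fun i => n i ≠ 0) (fun _ _ e => by rintro e'; simp [e'] at e)] at h1 h2
  set T := (B.erase o).filter fun i => n i ≠ 0
  have m : ∀ i ∈ T, i ∈ B ∧ i ≠ o ∧ 1 ≤ n i ^ 2 := fun i hi => by
    simp only [T, mem_filter, mem_erase] at hi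
    exact ⟨hi.1.2, hi.1.1, (one_le_sq_iff_one_le_abs _).2 (Int.one_le_abs hi.2)⟩
  have := card_nsmul_le_sum T _ 1 fun i hi => (m i hi).2.2
  simp only [nsmul_eq_mul, mul_one] at this
  have s : ∀ x : ℤ, 1 ≤ x ^ 2 → x ^ 2 ≤ 2 → x = 1 ∨ x = -1 := fun x a b => by
    have := le_one_of_sq_le (a := x) (by omega)
    rcases (by omega : x = 1 ∨ x = -1 ∨ x = 0) with e | e | e <;> simp_all
  rcases (by omega : T.card = 0 ∨ T.card = 1 ∨ T.card = 2) with e | e | e
  · simp [card_eq_zero.1 e, d1] at h2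
  · obtain ⟨i, e⟩ := card_eq_one.1 e
    obtain ⟨-, i1, i2⟩ := m i (by simp [e])
    rw [e, sum_singleton] at h1 h2
    have := h4 i i1
    rcases s _ i2 (by omega) with e | e <;> rw [e] at h2 <;> omega
  · obtain ⟨i, j, ij, e⟩ := card_eq_two.1 e
    obtain ⟨i0, i1, i2⟩ := m i (by simp [e])
    obtain ⟨j0, j1, j2⟩ := m j (by simp [e])
    rw [e, sum_pair ij] at h1 h2
    have := h3 i
    have := h3 j
    rcases s _ i2 (by omega) with e | e <;> rcases s _ j2 (by omega) with e' | e' <;> rw [e, e'] at h2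
    · omega
    · exact ⟨i, i0, j, j0, i1, j1, e, by omega⟩
    · exact ⟨j, j0, i, i0, j1, i1, e', by omega⟩
    · omega

theorem val3 {u : G} (h3 : u ^ 3 = 1) (u1 : u ≠ 1) (h : IsConj u u⁻¹) (χ : IrrCharacter G) :
    ∃ n : ℤ, (χ : G → ℂ) u = n ∧ (3 : ℤ) ∣ charDegree (χ : G → ℂ) - n := by
  have o : orderOf u = 3 := orderOf_eq_prime h3 u1
  have k : ∀ k : ℕ, u ^ k ≠ 1 → (χ : G → ℂ) (u ^ k) = (χ : G → ℂ) u := fun k hk => by
    rw [← pow_mod_orderOf, o] at hk ⊢
    rcases (by omega : k % 3 = 0 ∨ k % 3 = 1 ∨ k % 3 = 2) with e | e | e <;> rw [e] at hk ⊢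
    · simp at hk
    · rw [pow_one]
    · obtain ⟨c, hc⟩ := isConj_iff.1 h
      rw [show u ^ 2 = u⁻¹ from eq_inv_of_mul_eq_one_left (by rw [← pow_succ, h3]), ← hc, χ.2.isClassFunction]
  obtain ⟨n, hn⟩ := χ.2.isCharacter.exists_int_of_forall_pow (g := u) fun j hj => k j fun e => by
    have := orderOf_dvd_of_pow_eq_one e
    rw [o] at hj this
    have := Nat.dvd_gcd this (dvd_refl 3); rw [hj] at this; omega
  refine ⟨n, hn, ?_⟩
  have := deg_mod (P := zpowers u) (χ := χ) (ε := n) fun v hv v1 => by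
    obtain ⟨j, rfl⟩ := (mem_powers_iff_mem_zpowers.2 hv); rw [← hn]; exact k j v1
  rwa [Nat.card_zpowers, o] at this

variable {M : Ideal AlgInt} {p : ℕ} [Fact p.Prime] [PM p M] {R : Subgroup G}

theorem ne_zero_of_as (h : AS p R) {u : G} (hu : u ∈ R) {χ : IrrCharacter G} (hχ : χ ∈ principalBlock M G) :
    (χ : G → ℂ) u ≠ 0 := fun e => by
  have := (sameBlock_iff_red (irrOne G).2 χ.2).1 hχ u
  rw [centralChar, centralChar, e, irrOne_apply, irrOne_apply] at this
  simp only [mul_one, div_one, red_natCast, mul_zero, zero_div, red_zero, natCast_F_eq_zero_iff (p := p)] at this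
  exact h.syl.not_dvd (relIndex_top_right R ▸ this.trans (index_dvd_of_le (h.le_c1 hu)))

theorem mu_of_as (h : AS p R) {w : G} (hw : w ∈ R) (hf : ∀ n ∈ normalizer (R : Set G), n * w = w * n → n ∈ centralizer (R : Set G))
    {g g' : G} (e : IsConj (pp p g) w) (e' : IsConj (pp p g') w) : mu (principalBlock M G) g g' = Nat.card R := by
  have s := h.syl.of_le (h.le_c1 hw) le_top
  have n := pnil_of_sylIn s fun n hn => hf n hn.2 (mem_centralizer_singleton_iff.1 hn.1)
  rw [s.card, ← mu_principal_of_pnil (M := M) (isPE_of_mem h.syl.isPGroup hw) n]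
  exact finsum_mem_congr rfl fun χ hχ => by rw [apply_section n hχ e, apply_section n hχ e']

theorem exists_lam (h : AS p R) {y : G} (hy : y ∈ R) (y1 : y ≠ 1) (hc : ∀ k : ℕ, ∀ g, g⁻¹ * y ^ k * g ∈ R → g⁻¹ * y ^ k * g = y ^ k) :
    ∃ l : G →* ℂˣ, l y ≠ 1 ∧ ∀ g, ¬ p ∣ orderOf g → l g = 1 := by
  classical
  have := Fintype.ofFinite R
  have hp : p.Prime := Fact.out
  have nd : ¬ p ∣ R.index := relIndex_top_right R ▸ h.syl.not_dvd
  obtain ⟨j, hj⟩ := isPE_of_mem h.syl.isPGroup hy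
  have y2 : (⟨y, hy⟩ : R) ^ (R.index * R.index) ≠ 1 := fun e => by
    have := orderOf_dvd_of_pow_eq_one e
    rw [orderOf_mk, hj] at this
    rcases j with _ | j
    · exact y1 (orderOf_eq_one_iff.1 hj)
    · exact nd ((hp.dvd_mul.1 ((dvd_pow_self p (by omega)).trans this)).elim id id)
  obtain ⟨ϕ, hϕ⟩ : ∃ ϕ : R →* ℂˣ, ϕ (⟨y, hy⟩ ^ (R.index * R.index)) ≠ 1 := by
    by_contra! e
    have := sum_hom_apply (fun a b : R => Subtype.ext (h.ab b.2 a a.2)) y2
    simp only [e] at this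
    simp at this
  refine ⟨(powMonoidHom R.index).comp (MonoidHom.transfer ϕ), fun e => hϕ ?_, fun g hg => ?_⟩
  · rw [MonoidHom.comp_apply, MonoidHom.transfer_eq_pow ϕ y hc, powMonoidHom_apply, ← map_pow] at e
    rw [← e, pow_mul]; rfl
  · rw [MonoidHom.comp_apply, powMonoidHom_apply, ← map_pow, orderOf_dvd_iff_pow_eq_one.1, map_one]
    have := orderOf_dvd_natCard g
    rw [← R.card_mul_index, h.syl.card] at this
    exact (((Nat.Prime.coprime_iff_not_dvd hp).2 hg).symm.pow_right _).dvd_of_dvd_mul_left this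

structure V4 (R : Subgroup G) (y z a b : G) : Prop where
  as : AS 3 R
  card : Nat.card R = 9
  hy : y ∈ R
  hz : z ∈ R
  y3 : y ^ 3 = 1
  z3 : z ^ 3 = 1
  y1 : y ≠ 1
  z1 : z ≠ 1
  yz : y * z ≠ 1
  zy : z ≠ y
  gen : ∀ r ∈ R, ∃ i j : Fin 3, r = y ^ (i : ℕ) * z ^ (j : ℕ)
  act : ∀ n ∈ normalizer (R : Set G), (n * y * n⁻¹ = y ∨ n * y * n⁻¹ = y⁻¹) ∧ (n * z * n⁻¹ = z ∨ n * z * n⁻¹ = z⁻¹)
  ay : a * y * a⁻¹ = y⁻¹
  az : a * z * a⁻¹ = z
  hb : b * y * b⁻¹ = y
  bz : b * z * b⁻¹ = z⁻¹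

omit [Finite G] in
theorem ne_inv3 {u : G} (h : u ^ 3 = 1) (u1 : u ≠ 1) : u⁻¹ ≠ u := fun e => u1 <| by
  rw [pow_succ, pow_two] at h; nth_rw 1 [← e] at h; simpa using h

namespace V4
variable {y z a b : G} (h : V4 R y z a b)
include h

omit [Finite G] in
theorem comm : Commute y z := h.as.ab h.hz y h.hy

theorem nconj : ¬ IsConj y (y * z) := fun e => by
  have : Fact (Nat.Prime 3) := ⟨Nat.prime_three⟩
  obtain ⟨n, hn, e⟩ := (h.as.isConj_iff' h.hy (mul_mem h.hy h.hz)).1 e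
  rcases (h.act n hn).1 with e' | e' <;> rw [e'] at e
  · exact h.z1 (by simpa using e)
  · refine h.zy ?_
    calc z = y⁻¹ * (y * z) * y ^ 3 := by rw [h.y3]; group
      _ = y := by rw [← e]; group

omit [Finite G] in
theorem free {n : G} (hn : n ∈ normalizer (R : Set G)) (e : n * (y * z) = y * z * n) : n ∈ centralizer (R : Set G) := by
  have e1 : n * y * n⁻¹ * (n * z * n⁻¹) = y * z := by rw [conj_mul, e]; group
  rcases h.act n hn with ⟨e2 | e2, e3 | e3⟩ <;> rw [e2, e3] at e1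
  · intro r hr
    obtain ⟨i, j, rfl⟩ := h.gen r hr
    exact ((Commute.pow_left (mul_inv_eq_iff_eq_mul.1 e2).symm _).mul_left (Commute.pow_left (mul_inv_eq_iff_eq_mul.1 e3).symm _)).eq
  · exact absurd (mul_left_cancel e1) (ne_inv3 h.z3 h.z1)
  · exact absurd (mul_right_cancel e1) (ne_inv3 h.y3 h.y1)
  · refine absurd ?_ (ne_inv3 (by rw [h.comm.mul_pow, h.y3, h.z3, one_mul]) h.yz)
    rw [← e1, mul_inv_rev, inv_inv, inv_inv, ← h.comm.eq, e1]

theorem col [IsSimpleGroup G] (nc : ¬ IsMulCommutative G) [PM 3 M] [Fintype (centralizer ({y} : Set G))] :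
    ∃ χ ∈ principalBlock M G, ∃ η ∈ principalBlock M G, χ ≠ irrOne G ∧ η ≠ irrOne G ∧
      charDegree (η : G → ℂ) = charDegree (χ : G → ℂ) + 1 ∧
      classInner (fun g : centralizer ({y} : Set G) => (χ : G → ℂ) g) (fun _ => 1) ≠ 0 := by
  classical
  have : Fact (Nat.Prime 3) := ⟨Nat.prime_three⟩
  let C := centralizer ({y} : Set G)
  have le : R ≤ C := h.as.le_c1 h.hy
  have s' := h.as.sub le
  let y' : C := selfC y
  let z' : C := ⟨z, le h.hz⟩
  let b' : C := ⟨b, mem_centralizer_singleton_iff.2 (mul_inv_eq_iff_eq_mul.1 h.hb)⟩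
  have cy : ∀ g : C, g * y' = y' * g := mul_selfC y
  obtain ⟨l, l1, l2⟩ := exists_lam s' (y := y') h.hy (fun e => h.y1 (congrArg Subtype.val e)) fun k g _ => by
    rw [mul_assoc, ← (Commute.pow_right (cy g) k).eq]; simp
  have rep : ∀ g : C, ∃ i j : Fin 3, IsConj (pp 3 g) (y' ^ (i : ℕ) * z' ^ (j : ℕ)) := fun g => by
    obtain ⟨x, -, hx⟩ := s'.syl.exists_cj_le (isPE_pp (p := 3) g).isPGroup_zpowers le_top
    obtain ⟨i, j, e⟩ := h.gen _ (cj_le_iff'.1 hx _ (mem_zpowers _))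
    exact ⟨i, j, isConj_iff.2 ⟨x, Subtype.ext e⟩⟩
  have val : ∀ m : C →* ℂˣ, (∀ g, ¬ 3 ∣ orderOf g → m g = 1) → ∀ g u, IsConj (pp 3 g) u → m g = m u := fun m hm g u e => by
    rw [← pp_mul_pr (p := 3) g, map_mul, hm _ (not_dvd_orderOf_pr g), mul_one, isConj_iff_eq.1 (m.map_isConj e)]
  have y3 : y' ^ 3 = 1 := Subtype.ext h.y3
  have z3 : z' ^ 3 = 1 := Subtype.ext h.z3
  have bz : b' * z' * b'⁻¹ = z'⁻¹ := Subtype.ext h.bz
  have lz : l z' = 1 := by
    by_contra e
    exact ne_inv3 (by rw [← map_pow, z3, map_one]) e (by rw [← map_inv, ← bz]; simp)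
  have ω3 : l y' ^ 3 = 1 := by rw [← map_pow, y3, map_one]
  have lv : ∀ g, ∃ i j : Fin 3, IsConj (pp 3 g) (y' ^ (i : ℕ) * z' ^ (j : ℕ)) ∧ l g = l y' ^ (i : ℕ) := fun g => by
    obtain ⟨i, j, e⟩ := rep g
    exact ⟨i, j, e, by rw [val l l2 g _ e]; simp [lz]⟩
  have ω2 : l y' ^ 2 ≠ l y' := fun e => l1 (by rwa [pow_two, mul_eq_left] at e)
  have sec : ∀ g, l g = l y' → pp 3 g = y' ∨ IsConj (pp 3 g) (y' * z') := fun g e => by
    obtain ⟨i, j, e1, e2⟩ := lv g
    rw [e] at e2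
    fin_cases i
    · exact absurd (by simpa using e2) l1
    · fin_cases j
      · obtain ⟨c, hc⟩ := isConj_iff.1 e1.symm
        left; rw [← hc]; simp [cy c]
      · exact .inr (by simpa using e1)
      · refine .inr (e1.trans (isConj_iff.2 ⟨b', ?_⟩))
        simp only [pow_one]
        rw [← conj_mul, ← conj_pow, bz, cy b', mul_inv_cancel_right, inv_pow, inv_eq_of_mul_eq_one_right (by rw [← pow_succ, z3])]
    · exact absurd e2.symm ω2
  have hs : IsSat M (principalBlock M G) := isSat_of_isPBlock isPBlock_principalBlock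
  have hs' : IsSat M (principalBlock M C) := isSat_of_isPBlock isPBlock_principalBlock
  have cv : ∀ {g u : C}, IsConj (pp 3 g) u → IsConj (pp 3 (g : G)) u := fun e => by rw [pp_coe]; exact C.subtype.map_isConj e
  have K1 : ∀ g g', l g = l y' → l g' = l y' → mu (principalBlock M G) (g : G) g' = mu (principalBlock M C) g g' := fun g g' e e' => by
    have L := locSet_centralizer (p := 3) (isPE_of_mem h.as.syl.isPGroup h.hy)
    rcases sec g e with e | e <;> rcases sec g' e' with e' | e'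
    · exact mu_eq_mu_indSet (p := 3) L.inj hs (z := y') (by simp [y', selfC]) e e' L.indSet_principal.symm
        (by rw [L.indSet_compl hs, L.indSet_principal])
    · have : ¬ IsConj (pp 3 (g : G)) (pp 3 (g' : G)) := fun k => h.nconj (((cv (u := y') (e ▸ IsConj.refl _)).symm.trans k).trans (cv e'))
      rw [mu_eq_zero hs this, mu_eq_zero hs' fun k => this (pp_coe (p := 3) g' ▸ cv k)]
    · have : ¬ IsConj (pp 3 (g : G)) (pp 3 (g' : G)) := fun k => h.nconj (((cv (u := y') (e' ▸ IsConj.refl _)).symm.trans k.symm).trans (cv e))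
      rw [mu_eq_zero hs this, mu_eq_zero hs' fun k => this (pp_coe (p := 3) g' ▸ cv k)]
    · rw [mu_of_as h.as (mul_mem h.hy h.hz) (fun n => h.free) (cv e) (cv e'), mu_of_as s' (w := y' * z') (mul_mem h.hy h.hz)
        (fun n hn e r hr => Subtype.ext (h.free ((map_nN_sub le).le ⟨n, hn, rfl⟩).2 (congrArg Subtype.val e) r hr)) e e',
        Nat.card_congr (subgroupOfEquivOfLe le).toEquiv]
  set ω : ℂ := (l y' : ℂ)
  have w3 : ω ^ 3 = 1 := by simp [ω, ← Units.val_pow_eq_pow_val, ω3]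
  have w1 : ω ≠ 1 := fun e => l1 (Units.ext e)
  have ws : ω ^ 2 + ω + 1 = 0 := mul_left_cancel₀ (sub_ne_zero.2 w1) (by linear_combination w3)
  have wc : conj ω = ω ^ 2 := by
    rw [conj_hom, map_inv, inv_eq_of_mul_eq_one_left (a := l y' ^ 2) (by rw [← pow_succ, ω3])]; simp [ω]
  let α : C → ℂ := (fun g => ((1 : C →* ℂˣ) g : ℂ)) + ω ^ 2 • (fun g => (l g : ℂ)) + ω • fun g => ((l ^ 2) g : ℂ)
  have α0 : ∀ g, l g ≠ l y' → α g = 0 := fun g e => by
    obtain ⟨i, -, -, e2⟩ := lv g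
    fin_cases i <;> simp only [α, Pi.add_apply, Pi.smul_apply, MonoidHom.pow_apply, e2] <;> simp
    · exact (by linear_combination ws)
    · simp at e2; exact absurd e2 e
    · exact (by linear_combination ws + (ω + ω ^ 2) * w3)
  have l12 : (1 : C →* ℂˣ) ≠ l ∧ 1 ≠ l ^ 2 ∧ l ≠ l ^ 2 := ⟨fun e => l1 (by rw [← e]; rfl), fun e => l1 (by
    have : 1 = l y' ^ 2 := DFunLike.congr_fun e y'
    exact mul_left_cancel (a := l y' ^ 2) (by rw [← pow_succ, mul_one, ω3]; exact this)),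
    fun e => ω2 (DFunLike.congr_fun e y').symm⟩
  have αα : classInner α α = 3 := by
    simp only [α, classInner_add_left, classInner_add_right, classInner_smul_left, classInner_smul_right, inner_hom, l12, l12.1.symm,
      l12.2.1.symm, l12.2.2.symm, if_true, if_false, map_pow, wc]
    linear_combination (ω ^ 3 + 2) * w3
  have an : a ∈ normalizer (C : Set G) := mem_normalizer_fintype fun g hg => mem_centralizer_singleton_iff.2 (by
    have e : y = a * y⁻¹ * a⁻¹ := by rw [← conj_inv, h.ay, inv_inv]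
    rw [e, conj_mul, conj_mul, (Commute.inv_right (mem_centralizer_singleton_iff.1 hg)).eq])
  let φ : MulAut C := C.normalizerMonoidHom ⟨a, an⟩
  have lφ : ∀ g, l (φ g) = (l ^ 2) g := fun g => by
    obtain ⟨i, j, e1, e2⟩ := lv g
    have e3 : φ y' = y' ^ 2 := (Subtype.ext h.ay : _ = y'⁻¹).trans (inv_eq_of_mul_eq_one_left (by rw [← pow_succ, y3]))
    have e4 : φ z' = z' := Subtype.ext h.az
    have := val (l.comp φ.toMonoidHom) (fun g hg => l2 _ (not_dvd_orderOf_map φ.toMonoidHom hg)) g _ e1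
    simp only [MonoidHom.comp_apply, MulEquiv.coe_toMonoidHom, map_mul, map_pow, e3, e4, lz] at this
    rw [this, MonoidHom.pow_apply, e2, ← pow_mul, ← pow_mul, mul_comm 2]; simp
  have int : ∀ χ : IrrCharacter G, ∃ n : ℤ, classInner (fun g : C => (χ : G → ℂ) g) α = n ∧
      (n = 1 → classInner (fun g : C => (χ : G → ℂ) g) (fun _ => 1) ≠ 0) := fun χ => by
    obtain ⟨m, hm⟩ := (χ.2.isCharacter.comp C.subtype).exists_classInner_nat (homIrr (1 : C →* ℂˣ)).2.isCharacter
    obtain ⟨k, hk⟩ := (χ.2.isCharacter.comp C.subtype).exists_classInner_nat (homIrr (l ^ 2)).2.isCharacter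
    have hm : classInner (fun g : C => (χ : G → ℂ) g) (fun g => ((1 : C →* ℂˣ) g : ℂ)) = m := hm
    have hk : classInner (fun g : C => (χ : G → ℂ) g) (fun g => ((l ^ 2) g : ℂ)) = k := hk
    have hk' : classInner (fun g : C => (χ : G → ℂ) g) (fun g => (l g : ℂ)) = k := by
      rw [← hk, classInner, classInner, ← φ.toEquiv.sum_comp]
      congr 1
      exact sum_congr rfl fun g _ => by rw [MulEquiv.toEquiv_eq_coe, EquivLike.coe_coe, lφ]; congr 1; exact χ.2.isClassFunction _ _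
    refine ⟨m - k, ?_, fun e e' => ?_⟩
    · simp only [α, classInner_add_right, classInner_smul_right, hm, hk, hk', map_pow, wc]
      push_cast; linear_combination k * ws + k * ω * w3
    · have : m = 0 := by exact_mod_cast hm.symm.trans e'
      omega
  choose n hn hn' using int
  have αc : IsClassFunction C α := fun g x => by simp [α]
  have s1 : ∑ χ ∈ univ.filter (· ∈ principalBlock M G), n χ ^ 2 ≤ 3 := by
    have e1 := sum_sq_mu (fun g : C => (g : G)) (principalBlock M G) α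
    have e2 := sum_sq_mu (fun g : C => g) (principalBlock M C) α
    have e3 := αc.classInner_eq_sum α
    rw [sum_congr rfl fun g' _ => ?_, ← e2, finsum_mem_irr, finsum_mem_irr] at e1
    swap
    · by_cases e' : l g' = l y'
      · congr 2
        refine sum_congr rfl fun g _ => ?_
        by_cases e : l g = l y'
        · rw [K1 g g' e e']
        · simp [α0 g e]
      · simp [α0 g' e']
    have e4 : ∑ χ ∈ univ.filter (· ∈ principalBlock M G), (n χ : ℝ) ^ 2 =
        ∑ ψ ∈ univ.filter (· ∈ principalBlock M C), Complex.normSq (classInner α (ψ : C → ℂ)) := by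
      apply Complex.ofReal_injective
      simp only [hn, ← sum_filter] at e1
      push_cast
      refine Eq.trans (sum_congr rfl fun _ _ => by simp [sq]) (e1.trans (sum_congr rfl fun _ _ => ?_))
      rw [← classInner_conj_symm, Complex.conj_conj, mul_comm, Complex.mul_conj]
    have e5 : ∑ ψ : IrrCharacter C, Complex.normSq (classInner α (ψ : C → ℂ)) = 3 := by
      apply Complex.ofReal_injective
      push_cast
      rw [← αα, e3]; simp [Complex.mul_conj]
    have := sum_le_sum_of_subset_of_nonneg (f := fun ψ : IrrCharacter C => Complex.normSq (classInner α (ψ : C → ℂ)))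
      (filter_subset (· ∈ principalBlock M C) univ) fun _ _ _ => Complex.normSq_nonneg _
    rw [← e4, e5] at this
    exact_mod_cast this
  have s2 : ∑ χ ∈ univ.filter (· ∈ principalBlock M G), n χ * charDegree (χ : G → ℂ) = 0 := by
    have e1 := sum_inner_mu (fun g : C => (g : G)) (principalBlock M G) α 1
    rw [sum_eq_zero fun g _ => ?_, mul_zero, finsum_mem_irr, ← sum_filter] at e1
    · apply Int.cast_injective (α := ℂ)
      push_cast
      rw [← e1]
      exact sum_congr rfl fun χ _ => by rw [hn, χ.2.isCharacter.conj_apply_one, H8.coe_deg]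
    · by_cases e : l g = l y'
      · rw [mu_eq_zero hs, mul_zero]
        rw [pp_one, isConj_one_left, pp_eq_one_iff, orderOf_coe]
        exact fun k => l1 (e ▸ l2 g k)
      · simp [α0 g e]
  have n1 : n (irrOne G) = 1 := by
    have := hn (irrOne G)
    change classInner (fun g => ((1 : C →* ℂˣ) g : ℂ)) α = _ at this
    simp only [α, classInner_add_right, classInner_smul_right, inner_hom, l12, if_true, if_false] at this
    simp only [mul_zero, add_zero] at this
    exact_mod_cast this.symm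
  obtain ⟨χ, h1, η, h2, h3, h4, h5, h6⟩ := three_vec _ (o := irrOne G) (by simpa using irrOne_mem_principalBlock) n
    (fun χ => charDegree (χ : G → ℂ)) n1 (charDegree_eq_of_apply_one (by simp)) s1 s2 deg_ne_zero fun _ => deg_ne_one nc
  exact ⟨χ, (mem_filter.1 h1).2, η, (mem_filter.1 h2).2, h3, h4, h6, hn' χ h5⟩

end V4

theorem K3.v4 [IsSimpleGroup G] {q a b : ℕ} (k : K3 G q a b) {y z c d : G} (h : V4 R y z c d) : L817 G := by
  classical
  have : Fact (Nat.Prime 3) := ⟨Nat.prime_three⟩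
  obtain ⟨M, hM⟩ := exists_isPModular 3
  have : PM 3 M := ⟨hM⟩
  have := Fintype.ofFinite (centralizer ({y} : Set G))
  have := Fintype.ofFinite R
  obtain ⟨χ, h1, η, h2, χ1, η1, e, h3⟩ := h.col (M := M) k.nc
  have y2 : y ^ 2 = c * y * c⁻¹ := (eq_inv_of_mul_eq_one_left (by rw [← pow_succ, h.y3])).trans h.ay.symm
  have z2 : z ^ 2 = d * z * d⁻¹ := (eq_inv_of_mul_eq_one_left (by rw [← pow_succ, h.z3])).trans h.bz.symm
  have e1 : y ^ 2 * z = c * (y * z) * c⁻¹ := by rw [← conj_mul, h.az, y2]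
  have e2 : y * z ^ 2 = d * (y * z) * d⁻¹ := by rw [← conj_mul, h.hb, z2]
  have e3 : y ^ 2 * z ^ 2 = c * (d * (y * z) * d⁻¹) * c⁻¹ := by rw [← e2, ← conj_mul, ← conj_pow, h.az, y2]
  have w3 : (y * z) ^ 3 = 1 := by rw [h.comm.mul_pow, h.y3, h.z3, one_mul]
  have wc : IsConj (y * z) (y * z)⁻¹ := isConj_iff.2 ⟨c * d, by
    rw [← eq_inv_of_mul_eq_one_left (a := (y * z) ^ 2) (b := y * z) (by rw [← pow_succ, w3]), h.comm.mul_pow, e3]; group⟩
  have wm := mul_mem h.hy h.hz
  have nd : ∀ ψ ∈ principalBlock M G, ψ ≠ irrOne G → ¬ 3 ∣ charDegree (ψ : G → ℂ) := fun ψ hψ ψ1 e => by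
    obtain ⟨n, hn, e'⟩ := val3 w3 h.yz wc ψ
    have n0 : n ≠ 0 := by rintro rfl; exact ne_zero_of_as h.as wm hψ (by simpa using hn)
    have pw : IsConj (pp 3 (y * z)) (y * z) := by rw [pp_of_isPE (isPE_of_mem h.as.syl.isPGroup wm)]
    have m := mu_of_as (M := M) h.as wm (fun n => h.free) pw pw
    rw [H7.mu_eq, h.card, ← sum_filter] at m
    have m2 : ∑ χ ∈ univ.filter (· ∈ principalBlock M G), Complex.normSq ((χ : G → ℂ) (y * z)) = 9 := by
      apply Complex.ofReal_injective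
      push_cast at m ⊢
      rw [← m]; simp [Complex.mul_conj]
    have := sum_le_sum_of_subset_of_nonneg (f := fun χ : IrrCharacter G => Complex.normSq ((χ : G → ℂ) (y * z)))
      (s := {ψ, irrOne G}) (t := univ.filter (· ∈ principalBlock M G)) (by
        simp [insert_subset_iff, hψ, irrOne_mem_principalBlock]) fun _ _ _ => Complex.normSq_nonneg _
    rw [m2, sum_pair ψ1, hn] at this
    simp only [Complex.normSq_intCast, irrOne_apply, map_one] at this
    have : n * n + 1 ≤ 9 := by exact_mod_cast this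
    obtain ⟨m, rfl⟩ : 3 ∣ n := by omega
    have := (one_le_sq_iff_one_le_abs m).2 (Int.one_le_abs (by omega))
    nlinarith
  have n1 := nd χ h1 χ1
  have n2 := nd η h2 η1
  obtain ⟨rfl, e4⟩ := k.pair χ1 η1 rfl e (by omega)
  refine k.fin ?_
  rintro rfl
  have d4 : charDegree (χ : G → ℂ) = 4 := by omega
  obtain ⟨n, n0, hn⟩ := res_ne_zero (inclusion (h.as.le_c1 h.hy)) (χ.2.isCharacter.comp (centralizer {y}).subtype) h3
  have bij : Function.Bijective fun x : Fin 3 × Fin 3 =>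
      (⟨y ^ (x.1 : ℕ) * z ^ (x.2 : ℕ), mul_mem (pow_mem h.hy _) (pow_mem h.hz _)⟩ : R) :=
    (Nat.bijective_iff_surjective_and_card _).2 ⟨fun r => by
      obtain ⟨i, j, e⟩ := h.gen r r.2; exact ⟨(i, j), Subtype.ext e.symm⟩, by rw [h.card]; simp⟩
  rw [← bij.sum_comp, h.card, Fintype.sum_prod_type] at hn
  have v : ∀ u, u ^ 3 = 1 → u ≠ 1 → IsConj u u⁻¹ → ∃ n : ℤ, (χ : G → ℂ) u = n ∧ n ≤ 1 := fun u u3 u1 e => by
    obtain ⟨n, hn, e'⟩ := val3 u3 u1 e χ
    have := χ.2.isCharacter.norm_le u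
    rw [hn, χ.2.isCharacter.norm_apply_one, d4, Complex.norm_intCast] at this
    have : |n| ≤ 4 := by exact_mod_cast this
    have : n ≠ 4 := fun e => u1 (faith χ1 (by rw [hn, ← H8.coe_deg, d4, e]; rfl))
    exact ⟨n, hn, by have := le_abs_self n; omega⟩
  obtain ⟨Y, hY, _⟩ := v y h.y3 h.y1 (isConj_iff.2 ⟨c, h.ay⟩)
  obtain ⟨Z, hZ, _⟩ := v z h.z3 h.z1 (isConj_iff.2 ⟨d, h.bz⟩)
  obtain ⟨W, hW, _⟩ := v _ w3 h.yz wc
  have cf := χ.2.isClassFunction
  have f1 : (χ : G → ℂ) (y ^ 2) = Y := by rw [y2, cf, hY]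
  have f2 : (χ : G → ℂ) (z ^ 2) = Z := by rw [z2, cf, hZ]
  have f3 : (χ : G → ℂ) (y ^ 2 * z) = W := by rw [e1, cf, hW]
  have f4 : (χ : G → ℂ) (y * z ^ 2) = W := by rw [e2, cf, hW]
  have f5 : (χ : G → ℂ) (y ^ 2 * z ^ 2) = W := by rw [e3, cf, cf, hW]
  have f6 : (χ : G → ℂ) 1 = 4 := by rw [← H8.coe_deg, d4]; rfl
  have : (4 + 2 * Y + 2 * Z + 4 * W : ℂ) = 9 * n := by
    simp only [Fin.sum_univ_three, coe_subtype, coe_inclusion, Fin.val_zero, Fin.val_one, Fin.val_two, pow_zero, pow_one, one_mul,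
      mul_one, f1, f2, f3, f4, f5, f6, hY, hZ, hW] at hn
    push_cast at hn; linear_combination hn
  norm_cast at this
  omega

end H6
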