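import Cfsg.Agent.H6.K3c
/-! Simple groups of order `9·2^a·q^b`: a cyclic Sylow `3`-subgroup (`K3.cyc`) or three classes of `3`-elements
(`K3.three`) give `L₂(8)` or `L₂(17)`. -/
set_option autoImplicit false
open H5 H7 Cfsg Finset Subgroup
namespace H6

variable {G : Type*} [Group G] [Finite G] [IsSimpleGroup G] {q a b : ℕ} {R : Subgroup G}

theorem K3.exists_as (h : K3 G q a b) (R : Sylow 3 G) : AS 3 (R : Subgroup G) ∧ Nat.card R = 9 := by
  have : Fact (Nat.Prime 3) := ⟨Nat.prime_three⟩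
  have c : Nat.card R = 9 := by
    rw [R.card_eq_multiplicity, h.card, mul_assoc, Nat.factorization_mul (by positivity) (mul_pos (by positivity) (pow_pos h.hq.pos _)).ne',
      Finsupp.add_apply, Nat.factorization_eq_zero_of_not_dvd (n := 2 ^ a * _) (fun e => by
        rcases (Nat.Prime.dvd_mul Nat.prime_three).1 e with e | e
        · have := Nat.prime_three.dvd_of_dvd_pow e; omega
        · exact h.q3 ((Nat.prime_dvd_prime_iff_eq Nat.prime_three h.hq).1 (Nat.prime_three.dvd_of_dvd_pow e)).symm),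
      show 9 = 3 ^ 2 from rfl, Nat.prime_three.factorization_pow]; simp
  exact ⟨as_sylow R (IsPGroup.isMulCommutative_of_card_eq_prime_sq (p := 3) c), c⟩

theorem nofix {p : ℕ} [Fact p.Prime] (nc : ¬ IsMulCommutative G) (h : AS p R) {r : G} (hr : r ∈ R) (r1 : r ≠ 1) :
    ∃ n ∈ normalizer (R : Set G), n * r * n⁻¹ ≠ r := by
  by_contra! e
  obtain ⟨l, l1, -⟩ := exists_lam h hr r1 fun k g hg => by
    obtain ⟨n, hn, e'⟩ := (h.isConj_iff' (pow_mem hr k) hg).1 (isConj_iff.2 ⟨g⁻¹, by simp⟩)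
    rw [← e', ← conj_pow, e n hn]
  rcases IsSimpleGroup.eq_bot_or_eq_top_of_normal l.ker inferInstance with e | e
  · exact nc ⟨⟨fun x y => (MonoidHom.ker_eq_bot_iff l).1 e (by simp [mul_comm])⟩⟩
  · exact l1 (e.ge (mem_top r))

theorem K3.pm (h : K3 G q a b) (hR : AS 3 R) (c : Nat.card R = 9) (hn : ∀ n ∈ normalizer (R : Set G),
    (∀ r ∈ R, n * r * n⁻¹ = r) ∨ ∀ r ∈ R, n * r * n⁻¹ = r⁻¹) : L817 G := by
  have : Fact (Nat.Prime 3) := ⟨Nat.prime_three⟩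
  have k : ∀ r ∈ R, r⁻¹ = r → r = 1 := fun r hr e => by
    have h1 : r ^ 9 = 1 := orderOf_dvd_iff_pow_eq_one.1 (c ▸ orderOf_dvd_natCard _ hr)
    have h2 : r ^ 2 = 1 := by rw [pow_two]; nth_rw 1 [← e]; simp
    rwa [show 9 = 2 * 4 + 1 from rfl, pow_succ, pow_mul, h2, one_pow, one_mul] at h1
  have : Nontrivial R := Finite.one_lt_card_iff_nontrivial.1 (by omega)
  obtain ⟨⟨r, hr⟩, r1⟩ := exists_ne (1 : R)
  have r1 : r ≠ 1 := fun e => r1 (Subtype.ext e)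
  obtain ⟨m, hm, e⟩ := nofix h.nc hR hr r1
  have hm' := (hn m hm).resolve_left fun e' => e (e' r hr)
  refine h.z2 ⟨hR.syl, hR.ab, fun y hy y1 n ⟨h1, h2⟩ => mem_cC'.2 ((hn n h2).resolve_right fun e => y1 (k y hy
    ((e y hy).symm.trans (mem_c1'.1 h1))))⟩ ?_ c
  rw [card_autN, relIndex_eq_two_iff]
  refine ⟨m, hm, fun n h2 => ?_⟩
  rcases hn n h2 with e | e
  · refine .inr ⟨mem_cC'.2 e, fun e' => r1 (k r hr ?_)⟩
    exact (e _ (inv_mem hr)).symm.trans (by rw [← hm' r hr]; exact Eq.trans (by group) (mem_cC'.1 e' r hr))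
  · refine .inl ⟨mem_cC'.2 fun s hs => ?_, fun e' => r1 (k r hr ((e r hr).symm.trans (mem_cC'.1 e' r hr)))⟩
    exact Eq.trans (by rw [← hm' s hs]; group) ((e _ (inv_mem hs)).trans (inv_inv s))

theorem K3.cyc (h : K3 G q a b) (hR : AS 3 R) (c : Nat.card R = 9) {g : G} (hg : g ∈ R) (g3 : g ^ 3 ≠ 1) : L817 G := by
  have : Fact (Nat.Prime 3) := ⟨Nat.prime_three⟩
  have o : orderOf g = 9 := orderOf_eq_prime_pow (p := 3) (n := 1) g3 (orderOf_dvd_iff_pow_eq_one.1 ((orderOf_dvd_natCard _ hg).trans c.dvd))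
  have e : zpowers g = R := eq_of_le_of_card_ge (by simpa using hg) (by rw [Nat.card_zpowers, o, c])
  refine h.pm hR c fun n hn => ?_
  obtain ⟨k, hk⟩ : ∃ k : ℕ, g ^ k = n * g * n⁻¹ := mem_powers_iff_mem_zpowers.2 (e.ge (conj_mem_nN hn hg))
  have k1 : ∀ m, n ^ m * g * (n ^ m)⁻¹ = g ^ k ^ m := fun m => by
    induction m with
    | zero => simp
    | succ m ih => rw [pow_succ k, mul_comm, pow_mul, hk, conj_pow, ← ih, pow_succ']; group
  have k2 : k ^ ei R % 9 = 1 % 9 := by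
    have := (k1 _).symm.trans (mem_cC'.1 (hR.pow_mem hn) g hg)
    nth_rw 2 [← pow_one g] at this
    rwa [pow_eq_pow_iff_modEq, o] at this
  have k3 := hR.not_dvd
  have k4 : ∀ k < 9, ∀ r < 6, (k ^ 6 % 9 = 1 ∨ k % 3 = 0) ∧ (k ^ r % 9 = 1 → r % 3 ≠ 0 → k = 1 ∨ k = 8) := by decide
  obtain ⟨k5, k6⟩ := k4 (k % 9) (by omega) (ei R % 6) (by omega)
  have k7 : k % 9 = 1 ∨ k % 9 = 8 := by
    rcases k5 with k5 | k5
    · refine k6 ?_ (by omega)
      rw [← Nat.div_add_mod (ei R) 6, Nat.pow_mod, pow_add, pow_mul, Nat.mul_mod, Nat.pow_mod, k5] at k2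
      simpa using k2
    · have : 3 ∣ k ^ ei R := (by omega : 3 ∣ k).trans (dvd_pow_self k (ei_ne_zero R))
      omega
  rw [← pow_mod_orderOf, o] at hk
  subst e
  rcases k7 with e | e <;> rw [e] at hk
  · left; rintro _ ⟨j, rfl⟩; simp only [← conj_zpow, ← hk, pow_one]
  · right; rintro _ ⟨j, rfl⟩
    simp only [← conj_zpow, ← hk, ← inv_zpow]
    rw [eq_inv_of_mul_eq_one_left (a := g ^ 8) (b := g) (by rw [← pow_succ]; exact orderOf_dvd_iff_pow_eq_one.1 o.dvd)]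

def orb (R : Subgroup G) (r : G) : Set G := {y | ∃ h ∈ normalizer (R : Set G), h * r * h⁻¹ = y}

theorem K3.two (h : K3 G q a b) (hR : AS 3 R) (c : Nat.card R = 9) (h3 : ∀ r ∈ R, r ^ 3 = 1) {y z : G} (hy : y ∈ R) (hz : z ∈ R)
    (y1 : y ≠ 1) (z1 : z ≠ 1) (yz : ¬ IsConj y z) (cy : (orb R y).ncard = 2) (cz : (orb R z).ncard = 2) : L817 G := by
  have : Fact (Nat.Prime 3) := ⟨Nat.prime_three⟩
  have k : ∀ y ∈ R, y ≠ 1 → (orb R y).ncard = 2 → ∀ n ∈ normalizer (R : Set G), n * y * n⁻¹ = y ∨ n * y * n⁻¹ = y⁻¹ := by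
    intro y hy y1 cy
    obtain ⟨u, v, uv, e⟩ := Set.ncard_eq_two.1 cy
    have m : ∀ n ∈ normalizer (R : Set G), ∀ x ∈ orb R y, n * x * n⁻¹ = u ∨ n * x * n⁻¹ = v := fun n hn x ⟨k, hk, e'⟩ =>
      e.le ⟨n * k, mul_mem hn hk, by rw [← e']; group⟩
    have mR : ∀ x ∈ orb R y, x ∈ R := fun x ⟨k, hk, e'⟩ => e' ▸ conj_mem_nN hk hy
    have hu : u ∈ orb R y := e.ge (.inl rfl)
    have hv : v ∈ orb R y := e.ge (.inr rfl)
    have cm : u * v = v * u := hR.ab (mR v hv) u (mR u hu)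
    have e1 : u * v = 1 := by
      by_contra e1
      obtain ⟨n, hn, e2⟩ := nofix h.nc hR (mul_mem (mR u hu) (mR v hv)) e1
      rw [← conj_mul] at e2
      rcases m n hn u hu with e3 | e3 <;> rcases m n hn v hv with e4 | e4
      · exact uv (by simpa using e3.trans e4.symm)
      · exact e2 (by rw [e3, e4])
      · exact e2 (by rw [e3, e4, cm])
      · exact uv (by simpa using e3.trans e4.symm)
    have hy' : y ∈ orb R y := ⟨1, one_mem _, by simp⟩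
    intro n hn
    rcases e.le hy' with rfl | rfl
    · rw [← eq_inv_of_mul_eq_one_right e1]; exact m n hn _ hy'
    · rw [← eq_inv_of_mul_eq_one_left e1]; exact (m n hn _ hy').symm
  obtain ⟨m, hm, my⟩ := nofix h.nc hR hy y1
  obtain ⟨m', hm', mz⟩ := nofix h.nc hR hz z1
  replace my := (k y hy y1 cy m hm).resolve_left my
  replace mz := (k z hz z1 cz m' hm').resolve_left mz
  have cm : Commute y z := hR.ab hz y hy
  have zy : z ≠ y := by rintro rfl; exact yz (IsConj.refl _)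
  have yz1 : y * z ≠ 1 := fun e => yz (isConj_iff.2 ⟨m, my.trans (eq_inv_of_mul_eq_one_right e).symm⟩)
  have md : ∀ r ∈ R, ∀ i : ℕ, r ^ i = r ^ (i % 3) := fun r hr i => by
    conv_lhs => rw [← Nat.div_add_mod i 3, pow_add, pow_mul, h3 r hr, one_pow, one_mul]
  have gen : ∀ r ∈ R, ∃ i j : Fin 3, r = y ^ (i : ℕ) * z ^ (j : ℕ) := by
    let K : Subgroup G :=
      { carrier := {r | ∃ i j : ℕ, r = y ^ i * z ^ j}
        mul_mem' := by
          rintro _ _ ⟨i, j, rfl⟩ ⟨i', j', rfl⟩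
          exact ⟨i + i', j + j', by rw [pow_add, pow_add, (cm.pow_pow i' j).mul_mul_mul_comm]⟩
        one_mem' := ⟨0, 0, by simp⟩
        inv_mem' := by
          rintro _ ⟨i, j, rfl⟩
          refine ⟨i * 2, j * 2, inv_eq_of_mul_eq_one_right ?_⟩
          rw [← (cm.pow_pow (i * 2) j).mul_mul_mul_comm, ← pow_add, ← pow_add, md y hy, md z hz, show (i + i * 2) % 3 = 0 by omega,
            show (j + j * 2) % 3 = 0 by omega]; simp }
    have le : K ≤ R := by rintro _ ⟨i, j, rfl⟩; exact mul_mem (pow_mem hy _) (pow_mem hz _)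
    have l2 : zpowers y ≤ K := zpowers_le.2 ⟨1, 0, by simp⟩
    have c1 : Nat.card (zpowers y) = 3 := by rw [Nat.card_zpowers, orderOf_eq_prime (h3 y hy) y1]
    have c2 : Nat.card K ≠ 3 := fun e => by
      obtain ⟨i, hi⟩ := mem_powers_iff_mem_zpowers.2 ((eq_of_le_of_card_ge l2 (by omega)).ge (⟨0, 1, by simp⟩ : z ∈ K))
      simp only [md y hy i] at hi
      rcases (by omega : i % 3 = 0 ∨ i % 3 = 1 ∨ i % 3 = 2) with e | e | e <;> rw [e] at hi
      · exact z1 (by simpa using hi.symm)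
      · exact zy (by simpa using hi.symm)
      · exact yz1 (by rw [← hi, ← pow_succ', h3 y hy])
    have c3 := card_dvd_of_le le
    have c4 := card_dvd_of_le l2
    rw [c] at c3
    have := Nat.le_of_dvd (by omega) c3
    intro r hr
    obtain ⟨i, j, rfl⟩ := (eq_of_le_of_card_ge le (by
      rw [c1] at c4; rw [c]; generalize Nat.card K = n at *; interval_cases n <;> omega)).ge hr
    exact ⟨⟨i % 3, by omega⟩, ⟨j % 3, by omega⟩, by rw [md y hy, md z hz]⟩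
  have V : ∀ c' d, c' * y * c'⁻¹ = y⁻¹ → c' * z * c'⁻¹ = z → d * y * d⁻¹ = y → d * z * d⁻¹ = z⁻¹ → L817 G := fun c' d e1 e2 e3 e4 =>
    h.v4 ⟨hR, c, hy, hz, h3 y hy, h3 z hz, y1, z1, yz1, zy, gen, fun n hn => ⟨k y hy y1 cy n hn, k z hz z1 cz n hn⟩, e1, e2, e3, e4⟩
  have cc : ∀ m n x : G, m * n * x * (m * n)⁻¹ = m * (n * x * n⁻¹) * m⁻¹ := fun _ _ _ => by group
  by_cases e : ∃ n ∈ normalizer (R : Set G), n * y * n⁻¹ = y ∧ n * z * n⁻¹ = z⁻¹
  · obtain ⟨n, hn, e1, e2⟩ := e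
    rcases k z hz z1 cz m hm with e3 | e3
    · exact V m n my e3 e1 e2
    · exact V (m * n) n (by rw [cc, e1, my]) (by rw [cc, e2, ← conj_inv, e3, inv_inv]) e1 e2
  by_cases e' : ∃ n ∈ normalizer (R : Set G), n * y * n⁻¹ = y⁻¹ ∧ n * z * n⁻¹ = z
  · obtain ⟨n, hn, e1, e2⟩ := e'
    rcases k y hy y1 cy m' hm' with e3 | e3
    · exact V n m' e1 e2 e3 mz
    · exact V n (m' * n) e1 e2 (by rw [cc, e1, ← conj_inv, e3, inv_inv]) (by rw [cc, e2, mz])
  refine h.pm hR c fun n hn => ?_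
  rcases k y hy y1 cy n hn with e1 | e1 <;> rcases k z hz z1 cz n hn with e2 | e2
  · left; intro r hr; obtain ⟨i, j, rfl⟩ := gen r hr; rw [← conj_mul, ← conj_pow, ← conj_pow, e1, e2]
  · exact absurd ⟨n, hn, e1, e2⟩ e
  · exact absurd ⟨n, hn, e1, e2⟩ e'
  · right; intro r hr; obtain ⟨i, j, rfl⟩ := gen r hr
    rw [← conj_mul, ← conj_pow, ← conj_pow, e1, e2, (cm.pow_pow _ _).eq, mul_inv_rev, inv_pow, inv_pow]

theorem K3.three (h : K3 G q a b) (hR : AS 3 R) (c : Nat.card R = 9) {x y z : G} (hx : x ∈ R) (hy : y ∈ R) (hz : z ∈ R)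
    (x1 : x ≠ 1) (y1 : y ≠ 1) (z1 : z ≠ 1) (xy : ¬ IsConj x y) (xz : ¬ IsConj x z) (yz : ¬ IsConj y z) : L817 G := by
  have : Fact (Nat.Prime 3) := ⟨Nat.prime_three⟩
  by_cases h3 : ∀ r ∈ R, r ^ 3 = 1
  swap
  · push Not at h3
    obtain ⟨g, hg, g3⟩ := h3
    exact h.cyc hR c hg g3
  have k : ∀ r ∈ R, r ≠ 1 → 2 ≤ (orb R r).ncard ∧ (orb R r).ncard ≠ 3 ∧ orb R r ⊆ (R : Set G) \ {1} := fun r hr r1 => by
    have e := es_mul hr
    rw [← ncard_cls] at e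
    obtain ⟨n, hn, e'⟩ := nofix h.nc hR hr r1
    refine ⟨(Set.one_lt_ncard (Set.toFinite _)).2 ⟨_, ⟨n, hn, rfl⟩, r, ⟨1, one_mem _, by simp⟩, e'⟩,
      fun e3 => hR.not_dvd (e ▸ Dvd.intro_left _ (congrArg _ e3.symm)), ?_⟩
    rintro _ ⟨n, hn, rfl⟩
    exact ⟨conj_mem_nN hn hr, by simpa using r1⟩
  have d : ∀ u v, ¬ IsConj u v → Disjoint (orb R u) (orb R v) := fun u v e => Set.disjoint_left.2 fun _ ⟨m, _, e1⟩ ⟨n, _, e2⟩ =>
    e ((isConj_iff.2 ⟨m, e1⟩).trans (isConj_iff.2 ⟨n, e2⟩).symm)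
  obtain ⟨x2, x3, x4⟩ := k x hx x1
  obtain ⟨y2, y3, y4⟩ := k y hy y1
  obtain ⟨z2, z3, z4⟩ := k z hz z1
  have e := Set.ncard_le_ncard (Set.union_subset (Set.union_subset x4 y4) z4) (Set.toFinite _)
  have e' := Set.ncard_sdiff_singleton_add_one (one_mem R : (1 : G) ∈ (R : Set G))
  rw [Set.ncard_union_eq (Set.disjoint_union_left.2 ⟨d _ _ xz, d _ _ yz⟩), Set.ncard_union_eq (d _ _ xy)] at e
  rw [← Nat.card_coe_set_eq (R : Set G), SetLike.coe_sort_coe, c] at e'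
  rcases (by omega : ((orb R x).ncard = 2 ∧ (orb R y).ncard = 2) ∨ ((orb R x).ncard = 2 ∧ (orb R z).ncard = 2) ∨
    ((orb R y).ncard = 2 ∧ (orb R z).ncard = 2)) with e | e | e
  exacts [h.two hR c h3 hx hy x1 y1 xy e.1 e.2, h.two hR c h3 hx hz x1 z1 xz e.1 e.2, h.two hR c h3 hy hz y1 z1 yz e.1 e.2]

end H6
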