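import Cfsg.Agent.H7.Ab1
import Cfsg.Agent.H3.PNilpotent
import Cfsg.Agent.S3331
/-! Groups in which elements of order divisible by `3` have order `3` (`C3`): `2`-locals (`C3.ft`), the configuration
`SA T V y` of a Sylow `2`-subgroup of `V.A₅`, and `A5L`. -/
set_option autoImplicit false
open H7 Cfsg Subgroup Equiv
namespace H6

variable {G : Type*} [Group G]

variable (G) in
def C3 : Prop := ∀ g : G, 3 ∣ orderOf g → g ^ 3 = 1

theorem C3.cube (h : C3 G) {Q : Subgroup G} {r u : G} (hr : ∀ v ∈ Q, r * v * r⁻¹ ∈ Q) (hu : u ∈ Q)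
    (h3 : ∀ n : ℕ, r ^ n ∈ Q → 3 ∣ n) : (u * r) ^ 3 = 1 := by
  have k : ∀ n : ℕ, (u * r) ^ n * (r ^ n)⁻¹ ∈ Q := fun n => by
    induction n with
    | zero => simp
    | succ n ih => convert mul_mem hu (hr _ ih) using 1; rw [pow_succ', pow_succ']; group
  refine h _ (h3 _ ?_)
  simpa using k (orderOf (u * r))

theorem C3.eq_one (h : C3 G) {y c : G} (y3 : y ^ 3 = 1) (y1 : y ≠ 1) (hc : Commute y c) (c3 : ¬ 3 ∣ orderOf c) : c = 1 := by
  have : Fact (Nat.Prime 3) := ⟨Nat.prime_three⟩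
  have co : (orderOf y).Coprime (orderOf c) := by
    rw [orderOf_eq_prime y3 y1]; exact (Nat.Prime.coprime_iff_not_dvd Nat.prime_three).2 c3
  have := h (y * c) (by rw [hc.orderOf_mul_eq_mul_orderOf_of_coprime co, orderOf_eq_prime y3 y1]; exact dvd_mul_right _ _)
  rw [hc.mul_pow, y3, one_mul] at this
  by_contra c1
  exact c3 (orderOf_eq_prime this c1).symm.dvd

theorem C3.sub (h : C3 G) (L : Subgroup G) : C3 L := fun g hg => Subtype.ext (h g (by rwa [orderOf_coe]))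

theorem id3 {u y : G} (h : (u * y) ^ 3 = 1) (y3 : y ^ 3 = 1) : u * (y * u * y⁻¹) * (y * (y * u * y⁻¹) * y⁻¹) = 1 := by
  calc _ = (u * y) ^ 3 * (y ^ 3)⁻¹ := by simp only [pow_succ]; group
    _ = 1 := by rw [h, y3]; simp

theorem three_dvd_of_mem {Q : Subgroup G} (hQ : IsPGroup 2 Q) {r : G} (r3 : r ^ 3 = 1) (r1 : r ≠ 1) (n : ℕ) (h : r ^ n ∈ Q) : 3 ∣ n := by
  have : Fact (Nat.Prime 3) := ⟨Nat.prime_three⟩
  obtain ⟨k, hk⟩ := hQ ⟨_, h⟩
  have := orderOf_dvd_of_pow_eq_one (x := r) (n := n * 2 ^ k) (by rw [pow_mul]; exact congrArg Subtype.val hk)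
  rw [orderOf_eq_prime r3 r1] at this
  exact ((Nat.Prime.dvd_mul Nat.prime_three).1 this).resolve_right fun e => by
    have := Nat.prime_three.dvd_of_dvd_pow e; omega

theorem cg3 {A : Type*} [CommGroup A] {w b c d e f g : A} (h2 : w * b * c = 1) (h3 : w * d * e = 1) (h4 : w * f * g = 1)
    (h5 : b * d * g = 1) (h6 : c * f * e = 1) : w ^ 3 = 1 := by
  calc _ = w * b * c * (w * d * e) * (w * f * g) * (b * d * g)⁻¹ * (c * f * e)⁻¹ := by
        apply Additive.ofMul.injective; simp only [ofMul_mul, ofMul_inv, ofMul_pow]; abel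
    _ = 1 := by simp [*]

open scoped IsMulCommutative in
theorem C3.not9 [Finite G] (h : C3 G) {Q : Subgroup G} (hQ : IsPGroup 2 Q) (Q1 : Q ≠ ⊥) :
    ¬ 9 ∣ Nat.card (normalizer (Q : Set G)) := fun e => by
  have : Fact (Nat.Prime 3) := ⟨Nat.prime_three⟩
  obtain ⟨R, hR⟩ := Sylow.exists_subgroup_card_pow_prime 3 (n := 2) e
  have cR := IsPGroup.isMulCommutative_of_card_eq_prime_sq hR
  have r3 : ∀ r : R, r ^ 3 = 1 := fun r => by
    by_cases r1 : r = 1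
    · simp [r1]
    refine ((h.sub _).sub R) r ?_
    obtain ⟨k, -, hk⟩ := (Nat.dvd_prime_pow Nat.prime_three).1 (hR ▸ orderOf_dvd_natCard r)
    rcases k with _ | k
    · exact absurd (orderOf_eq_one_iff.1 hk) r1
    · rw [hk]; exact dvd_pow_self 3 (by omega)
  have : Nontrivial R := Finite.one_lt_card_iff_nontrivial.1 (by omega)
  obtain ⟨y, y1⟩ := exists_ne (1 : R)
  obtain ⟨z, hz⟩ : ∃ z, z ∉ zpowers y := by
    by_contra! e
    have := Nat.card_zpowers y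
    rw [(eq_top_iff.2 fun z _ => e z : zpowers y = ⊤), card_top, hR, orderOf_eq_prime (r3 y) y1] at this; omega
  have : Nontrivial Q := (nontrivial_iff_ne_bot Q).2 Q1
  have := hQ.center_nontrivial
  obtain ⟨w, w1⟩ := exists_ne (1 : center Q)
  let a : R →* MulAut (center Q) := ((MulAut.characteristic (center Q)).comp Q.normalizerMonoidHom).comp R.subtype
  have k : ∀ r : R, r ≠ 1 → ∀ u, u * a r u * a (r * r) u = 1 := fun r r1 u => by
    have r3' : (r : G) ^ 3 = 1 := congrArg (fun x : R => (x : G)) (r3 r)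
    have := id3 (h.cube (Q := Q) (fun v hv => conj_mem_nN r.1.2 hv) u.1.2
      (three_dvd_of_mem hQ r3' fun e => r1 (Subtype.ext (Subtype.ext e)))) r3'
    rw [map_mul]
    exact Subtype.ext (Subtype.ext this)
  have z1 : z ≠ 1 := by rintro rfl; exact hz (one_mem _)
  have yz : y * z ≠ 1 := fun e => hz (eq_inv_of_mul_eq_one_right e ▸ inv_mem (mem_zpowers y))
  have zz : z * (z * z) = 1 := by simpa [pow_succ, mul_assoc] using r3 z
  have yz2 : y * (z * z) ≠ 1 := fun e => hz (by rw [← mul_right_cancel (e.trans zz.symm)]; exact mem_zpowers y)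
  have h2 := k z z1 w
  have h3 := k _ yz w
  have h4 := k _ yz2 w
  have h5 := k y y1 (a z w)
  have h6 := k y y1 (a (z * z) w)
  rw [show y * z * (y * z) = y * y * (z * z) by simp only [mul_comm, mul_left_comm]] at h3
  rw [show y * (z * z) * (y * (z * z)) = y * y * z * (z * (z * z)) by simp only [mul_comm, mul_left_comm], zz, mul_one] at h4
  simp only [← MulAut.mul_apply, ← map_mul] at h5 h6
  have := cg3 h2 h3 h4 h5 h6
  obtain ⟨n, hn⟩ := (hQ.to_subgroup _) w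
  have := Nat.dvd_gcd (orderOf_dvd_of_pow_eq_one this) (orderOf_dvd_of_pow_eq_one hn)
  rw [Nat.Coprime.gcd_eq_one (Nat.Coprime.pow_right _ (by norm_num))] at this
  exact w1 (orderOf_eq_one_iff.1 (Nat.dvd_one.1 this))

structure A5L (L : Subgroup G) (π : L →* Perm (Fin 5)) : Prop where
  range : π.range = alternatingGroup (Fin 5)
  comm : ∀ a b : L, π a = 1 → π b = 1 → a * b = b * a
  sq : ∀ a : L, π a = 1 → a * a = 1

theorem C3.ft [Finite G] (h : C3 G) {Q : Subgroup G} (hQ : IsPGroup 2 Q) (Q1 : Q ≠ ⊥) (h3 : 3 ∣ Nat.card (normalizer (Q : Set G))) :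
    (∃ K : Subgroup (normalizer (Q : Set G)), K.Normal ∧ Group.IsNilpotent K ∧ K.index ∣ 6 ∧ Group.IsSolvable (normalizer (Q : Set G))) ∨
      ∃ π, A5L (normalizer (Q : Set G)) π ∧ ∀ a : normalizer (Q : Set G), (a : G) ∈ Q → π a = 1 := by
  have : Fact (Nat.Prime 3) := ⟨Nat.prime_three⟩
  obtain ⟨y, hy⟩ := exists_prime_orderOf_dvd_card' 3 h3
  have y3 : y ^ 3 = 1 := hy ▸ pow_orderOf_eq_one y
  have y1 : y ≠ 1 := by rintro rfl; simp at hy
  have c3 : Nat.card (zpowers y) = 3 := by rw [Nat.card_zpowers, hy]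
  have le : zpowers y ≤ centralizer (zpowers y : Set _) := le_centralizer _
  have hp : IsPGroup 3 (centralizer (zpowers y : Set (normalizer (Q : Set G)))) := fun c => by
    obtain ⟨k, hk⟩ := (isPE_pp (p := 3) c).exists_pow
    have := (h.sub _).eq_one y3 y1 (c := (pr 3 c).1) ((pr 3 c).2 y (mem_zpowers y)) (by
      rw [orderOf_coe]; exact not_dvd_orderOf_pr c)
    exact ⟨k, by rw [← pp_mul_pr (p := 3) c, show pr 3 c = 1 from Subtype.ext this, mul_one, hk]⟩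
  obtain ⟨k, hk⟩ := IsPGroup.iff_card.1 hp
  have k1 : k < 2 := by
    by_contra! e
    exact h.not9 hQ Q1 (((pow_dvd_pow 3 e).trans hk.symm.dvd).trans (card_subgroup_dvd_card _))
  have nQ : IsPGroup 2 (Q.subgroupOf (normalizer (Q : Set G))) := hQ.comap_subtype
  have n1 : Q.subgroupOf (normalizer (Q : Set G)) ≠ ⊥ := fun e => Q1 (by rwa [subgroupOf_eq_bot, disjoint_iff, inf_eq_left.2 le_normalizer] at e)
  rcases Cfsg.Agent.S3331.result _ c3 (eq_of_le_of_card_ge le (by rw [hk, c3]; interval_cases k <;> omega)).symm with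
    ⟨K, _, h1, -, h2⟩ | ⟨K, _, h1, h2, ⟨e⟩⟩ | ⟨⟨e⟩⟩
  · have d : Nat.card (_ ⧸ K) ∣ 6 := h2.elim (fun e => by rw [e]; norm_num) fun ⟨e⟩ => by
      rw [Nat.card_congr e.toEquiv, Nat.card_perm]; simp [Nat.factorial]
    refine .inl ⟨K, ‹_›, h1, d, ?_⟩
    have := H5.burnside_paqb_dvd (a := 1) (b := 1) Nat.prime_two Nat.prime_three d
    exact Group.isSolvable_of_ker_le_range K.subtype (QuotientGroup.mk' K) (by simp)
  · let π := ((alternatingGroup (Fin 5)).subtype.comp e.toMonoidHom).comp (QuotientGroup.mk' K)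
    have hπ : ∀ a, π a = 1 ↔ a ∈ K := fun a => by simp [π]
    refine .inr ⟨π, ⟨?_, fun a b ha hb => congrArg Subtype.val (h1.is_comm.comm ⟨a, (hπ a).1 ha⟩ ⟨b, (hπ b).1 hb⟩),
      fun a ha => by rw [← pow_two, h2 a ((hπ a).1 ha)]⟩, fun a ha => (hπ a).2 ?_⟩
    · rw [MonoidHom.range_comp, MonoidHom.range_eq_top.2 (QuotientGroup.mk'_surjective K), ← MonoidHom.range_eq_map,
        MonoidHom.range_comp, MonoidHom.range_eq_top.2 e.surjective, ← MonoidHom.range_eq_map, range_subtype]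
    · let f := e.toMonoidHom.comp (QuotientGroup.mk' K)
      have hf : Function.Surjective f := e.surjective.comp (QuotientGroup.mk'_surjective K)
      rcases (Normal.map (inferInstance : (Q.subgroupOf (normalizer (Q : Set G))).Normal) f hf).eq_bot_or_eq_top with e' | e'
      · simpa [f] using e'.le (mem_map_of_mem f (mem_subgroupOf.2 ha))
      · obtain ⟨n, hn⟩ := IsPGroup.iff_card.1 (e' ▸ nQ.map f)
        rw [card_top, nat_card_alternatingGroup] at hn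
        have := Nat.prime_three.dvd_of_dvd_pow (hn ▸ (by simp [Nat.factorial] : 3 ∣ _) : 3 ∣ 2 ^ n); omega
  · have : Fact (Nat.Prime 7) := ⟨by norm_num⟩
    have : IsSimpleGroup (Matrix.ProjectiveSpecialLinearGroup (Fin 2) (ZMod 7)) :=
      Matrix.ProjectiveSpecialLinearGroup.rank_two_simple (by simp)
    have := e.isSimpleGroup
    rcases (inferInstance : (Q.subgroupOf (normalizer (Q : Set G))).Normal).eq_bot_or_eq_top with e' | e'
    · exact absurd e' n1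
    · obtain ⟨n, hn⟩ := IsPGroup.iff_card.1 (e' ▸ nQ)
      rw [card_top] at hn
      have := Nat.prime_three.dvd_of_dvd_pow (hn ▸ h3); omega

structure SA (T V : Subgroup G) (y : G) : Prop where
  le : V ≤ T
  comm : ∀ a ∈ V, ∀ b ∈ V, a * b = b * a
  sq : ∀ a ∈ V, a * a = 1
  nV : ∀ t ∈ T, ∀ v ∈ V, t * v * t⁻¹ ∈ V
  yV : ∀ v ∈ V, y * v * y⁻¹ ∈ V
  yT : ∀ t ∈ T, y * t * y⁻¹ ∈ T
  c1 : ∀ t ∈ T, (t * y) ^ 3 = 1
  c2 : ∀ t ∈ T, (t * y⁻¹) ^ 3 = 1
  sqT : ∀ t ∈ T, t * t ∈ V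
  gen : ∀ t ∈ T, t ∉ V → ∀ x ∈ T, ∃ v ∈ V, x = v ∨ x = v * t ∨ x = v * (y * t * y⁻¹) ∨ x = v * (t * (y * t * y⁻¹))

namespace SA
variable {T V : Subgroup G} {y t v x : G} (h : SA T V y)
include h

theorem y3 : y ^ 3 = 1 := by simpa using h.c1 1 (one_mem _)

theorem cy (ht : t ∈ T) : t * (y * t * y⁻¹) = y * t * y⁻¹ * t := by
  have e1 := id3 (h.c1 t ht) h.y3
  have e2 := id3 (h.c2 t ht) (by rw [inv_pow, h.y3, inv_one])
  have e3 : y⁻¹ * (y⁻¹ * t * y⁻¹⁻¹) * y⁻¹⁻¹ = y * t * y⁻¹ := by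
    calc _ = (y ^ 3)⁻¹ * (y * t * y⁻¹) * y ^ 3 := by simp [pow_succ, mul_assoc]
      _ = _ := by rw [h.y3]; simp
  have e4 : y⁻¹ * t * y⁻¹⁻¹ = y * (y * t * y⁻¹) * y⁻¹ := by
    calc _ = (y ^ 3)⁻¹ * (y * (y * t * y⁻¹) * y⁻¹) * y ^ 3 := by simp only [pow_succ]; group
      _ = _ := by rw [h.y3]; simp
  rw [e3, e4] at e2
  generalize y * (y * t * y⁻¹) * y⁻¹ = c at *
  generalize y * t * y⁻¹ = b at *
  rw [mul_assoc] at e1 e2
  have : Commute b t⁻¹ := by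
    rw [Commute, SemiconjBy]
    nth_rw 1 [← eq_inv_of_mul_eq_one_right e2]
    rw [← eq_inv_of_mul_eq_one_right e1, mul_assoc]
  simpa using this.inv_right.eq.symm

theorem idI (ht : t ∈ T) (hv : v ∈ V) :
    (y * t * y⁻¹)⁻¹ * v * (y * t * y⁻¹) * (y * v * y⁻¹) = t⁻¹ * (y * v * y⁻¹) * t * v := by
  have e1 := h.cy (mul_mem ht (h.le hv))
  have e2 := h.cy ht
  rw [← conj_mul] at e1
  generalize y * v * y⁻¹ = w at *
  generalize y * t * y⁻¹ = s at *
  calc _ = (t * s)⁻¹ * (t * v * (s * w)) := by group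
    _ = (s * t)⁻¹ * (s * w * (t * v)) := by rw [e1, e2]
    _ = _ := by group

theorem l1 (ht : t ∈ T) (hv : v ∈ V) (c : Commute t v) : Commute (y * t * y⁻¹) v := by
  have v1 := h.yV v hv
  have v2 := h.yV _ v1
  have e1 := h.idI ht v1
  have e2 := h.idI ht hv
  have e3 := id3 (h.c1 v (h.le hv)) h.y3
  have c1 : Commute (y * t * y⁻¹) (y * v * y⁻¹) := by rw [Commute, SemiconjBy, conj_mul, conj_mul, c.eq]
  generalize y * (y * v * y⁻¹) * y⁻¹ = w2 at *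
  generalize y * v * y⁻¹ = w at *
  generalize y * t * y⁻¹ = s at *
  have c2 : Commute t w2 := by
    rw [mul_assoc s⁻¹, ← c1.eq, inv_mul_cancel_left, h.comm w v1 w2 v2, mul_left_inj] at e1
    rw [Commute, SemiconjBy]; nth_rw 1 [e1]; group
  have c3 : Commute t w := by
    rw [show w = v⁻¹ * w2⁻¹ by rw [← eq_inv_of_mul_eq_one_left e3]; group]; exact c.inv_right.mul_right c2.inv_right
  rw [mul_assoc t⁻¹ w, ← c3.eq, inv_mul_cancel_left, h.comm w v1 v hv, mul_left_inj] at e2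
  rw [Commute, SemiconjBy]; nth_rw 1 [← e2]; group

theorem mem_Z (ht : t ∈ T) (tV : t ∉ V) (hv : v ∈ V) (c : Commute t v) : v ∈ centralizer (T : Set G) := fun x hx => by
  have c' := h.l1 ht hv c
  obtain ⟨w, hw, e | e | e | e⟩ := h.gen t ht tV x hx <;> have cw : Commute w v := h.comm w hw v hv <;> rw [e]
  exacts [cw.eq, (cw.mul_left c).eq, (cw.mul_left c').eq, (cw.mul_left (c.mul_left c')).eq]

theorem l2 (ht : t ∈ T) (hv : v ∈ V) : t * v * t⁻¹ * v⁻¹ ∈ V ⊓ centralizer (T : Set G) := by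
  have m := h.nV t ht v hv
  by_cases tV : t ∈ V
  · rw [h.comm t tV v hv]; simp
  refine mem_inf.2 ⟨mul_mem m (inv_mem hv), h.mem_Z ht tV (mul_mem m (inv_mem hv)) ?_⟩
  rw [inv_eq_of_mul_eq_one_right (h.sq v hv), h.comm _ m v hv, Commute, SemiconjBy]
  calc _ = t * v * t⁻¹ * ((t * t) * v * (t * t)⁻¹) * t := by group
    _ = _ := by rw [h.comm _ (h.sqT t ht) v hv, mul_inv_cancel_right, h.comm _ m v hv]

theorem l3 (ht : t ∈ T) (hx : x ∈ T) : t * x * t⁻¹ * x⁻¹ ∈ centralizer (T : Set G) := by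
  by_cases tV : t ∈ V
  · rw [show t * x * t⁻¹ * x⁻¹ = (x * t * x⁻¹ * t⁻¹)⁻¹ by group]; exact inv_mem (mem_inf.1 (h.l2 hx tV)).2
  have c : Commute t (y * t * y⁻¹) := h.cy ht
  obtain ⟨w, hw, e⟩ := h.gen t ht tV x hx
  have k : ∀ u, Commute t u → t * (w * u) * t⁻¹ * (w * u)⁻¹ = t * w * t⁻¹ * w⁻¹ := fun u c => by
    rw [mul_assoc t, mul_assoc w, ← c.inv_left.eq]; group
  have m := (mem_inf.1 (h.l2 ht hw)).2
  rcases e with e | e | e | e <;> rw [e]
  exacts [m, by rwa [k _ (Commute.refl t)], by rwa [k _ c], by rwa [k _ ((Commute.refl t).mul_right c)]]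

theorem yZ [Finite G] (hv : v ∈ centralizer (T : Set G)) : y * v * y⁻¹ ∈ centralizer (T : Set G) := fun x hx => by
  have := hv _ ((mem_normalizer_iff''.1 (mem_normalizer_fintype h.yT) x).1 hx)
  calc _ = y * (y⁻¹ * x * y * v) * y⁻¹ := by group
    _ = _ := by rw [this]; group

theorem l4 [Finite G] (ht : t ∈ T) (hx : x ∈ T) (c : Commute t x) : Commute t (y * x * y⁻¹) := by
  by_cases tV : t ∈ V
  · by_cases xV : x ∈ V
    · exact h.comm t tV _ (h.yV x xV)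
    · exact (h.mem_Z hx xV tV c.symm _ (h.yT x hx)).symm
  have c1 : Commute t (y * t * y⁻¹) := h.cy ht
  have c2 : Commute t (y * (y * t * y⁻¹) * y⁻¹) := by
    rw [eq_inv_of_mul_eq_one_right (id3 (h.c1 t ht) h.y3)]; exact ((Commute.refl t).mul_right c1).inv_right
  obtain ⟨w, hw, e⟩ := h.gen t ht tV x hx
  have k : ∀ u, x = w * u → Commute t u → Commute t (y * u * y⁻¹) → Commute t (y * x * y⁻¹) := fun u e c3 c4 => by
    have : Commute t w := by rw [show w = x * u⁻¹ by simp [e]]; exact c.mul_right c3.inv_right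
    rw [e, ← conj_mul]
    exact Commute.mul_right (h.yZ (h.mem_Z ht tV hw this) t ht) c4
  rcases e with e | e | e | e
  exacts [k 1 (by simpa using e) (by simp) (by simp), k _ e (.refl t) c1, k _ e c1 c2,
    k _ e ((Commute.refl t).mul_right c1) (by rw [← conj_mul]; exact c1.mul_right c2)]

end SA

def yA : Perm (Fin 5) := ⟨![1, 2, 0, 3, 4], ![2, 0, 1, 3, 4], by decide, by decide⟩
def sA : Perm (Fin 5) := ⟨![1, 0, 3, 2, 4], ![1, 0, 3, 2, 4], by decide, by decide⟩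

def vA : Subgroup (Perm (Fin 5)) where
  carrier := {g | g = 1 ∨ g = sA ∨ g = yA * sA * yA⁻¹ ∨ g = sA * (yA * sA * yA⁻¹)}
  mul_mem' := by rintro _ _ (rfl | rfl | rfl | rfl) (rfl | rfl | rfl | rfl) <;> simp only [Set.mem_ofPred_eq] <;> decide +kernel
  one_mem' := .inl rfl
  inv_mem' := by rintro _ (rfl | rfl | rfl | rfl) <;> simp only [Set.mem_ofPred_eq] <;> decide +kernel

theorem mem_vA {g : Perm (Fin 5)} : g ∈ vA ↔ g = 1 ∨ g = sA ∨ g = yA * sA * yA⁻¹ ∨ g = sA * (yA * sA * yA⁻¹) := Iff.rfl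

instance instDecvA : DecidablePred (· ∈ vA) := fun _ => decidable_of_iff _ mem_vA.symm

theorem a5a : ∀ f : Perm (Fin 5), Perm.sign f = 1 → f ^ 2 = 1 ∨ f ^ 3 = 1 ∨ ∃ g : Perm (Fin 5), Perm.sign g = 1 ∧
    sA * (g * f * g⁻¹) * sA⁻¹ * (g * f * g⁻¹) = 1 ∧ ∃ i : Fin 5, orderOf ((g * f * g⁻¹) ^ (i : ℕ) * (yA * sA * yA⁻¹)) = 3 := by
  have : Fact (Nat.Prime 3) := ⟨Nat.prime_three⟩
  simp only [orderOf_eq_prime_iff]
  decide +kernel

theorem a5b : ∀ t ∈ vA, Perm.sign t = 1 ∧ yA * t * yA⁻¹ ∈ vA ∧ orderOf (t * yA) = 3 ∧ orderOf (t * yA⁻¹) = 3 ∧ t * t = 1 ∧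
    (t ≠ 1 → ∀ x ∈ vA, x = 1 ∨ x = t ∨ x = yA * t * yA⁻¹ ∨ x = t * (yA * t * yA⁻¹)) := by
  have : Fact (Nat.Prime 3) := ⟨Nat.prime_three⟩
  simp only [orderOf_eq_prime_iff, mem_vA, forall_eq_or_imp, forall_eq]
  refine ⟨⟨?_, ?_, ?_, ?_, ?_, ?_⟩, ⟨?_, ?_, ?_, ?_, ?_, ?_⟩, ⟨?_, ?_, ?_, ?_, ?_, ?_⟩, ?_, ?_, ?_, ?_, ?_, ?_⟩ <;> decide +kernel

theorem a5c : Perm.sign yA = 1 ∧ sA ≠ 1 ∧ Nat.card vA = 4 ∧ ∃ g : Perm (Fin 5), Perm.sign g = 1 ∧ orderOf (sA * (g * sA * g⁻¹)) = 3 := by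
  have : Fact (Nat.Prime 3) := ⟨Nat.prime_three⟩
  simp only [orderOf_eq_prime_iff, Nat.card_eq_fintype_card]
  decide +kernel

namespace A5L
variable {L : Subgroup G} {π : L →* Perm (Fin 5)} (h : A5L L π)
include h

theorem surj {g : Perm (Fin 5)} (hg : Perm.sign g = 1) : ∃ x, π x = g := h.range.ge hg

theorem sign (x : L) : Perm.sign (π x) = 1 := h.range.le ⟨x, rfl⟩

theorem sa (c : C3 G) {y : L} (hy : π y = yA) : SA ((vA.comap π).map L.subtype) (π.ker.map L.subtype) y := by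
  have o : ∀ x : L, orderOf (π x) = 3 → (x : G) ^ 3 = 1 := fun x e => c _ (by rw [orderOf_coe, ← e]; exact orderOf_map_dvd π x)
  refine ⟨map_mono (ker_le_comap π vA), ?_, ?_, ?_, ?_, ?_, ?_, ?_, ?_, ?_⟩
  · rintro _ ⟨a, ha, rfl⟩ _ ⟨b, hb, rfl⟩; exact congrArg Subtype.val (h.comm a b ha hb)
  · rintro _ ⟨a, ha, rfl⟩; exact congrArg Subtype.val (h.sq a ha)
  · rintro _ ⟨a, -, rfl⟩ _ ⟨b, hb, rfl⟩; exact ⟨_, π.normal_ker.conj_mem b hb a, rfl⟩
  · rintro _ ⟨b, hb, rfl⟩; exact ⟨_, π.normal_ker.conj_mem b hb y, rfl⟩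
  · rintro _ ⟨a, ha, rfl⟩; exact ⟨y * a * y⁻¹, by simpa [hy] using (a5b _ ha).2.1, rfl⟩
  · rintro _ ⟨a, ha, rfl⟩; exact o (a * y) (by simpa [hy] using (a5b _ ha).2.2.1)
  · rintro _ ⟨a, ha, rfl⟩; exact o (a * y⁻¹) (by simpa [hy] using (a5b _ ha).2.2.2.1)
  · rintro _ ⟨a, ha, rfl⟩; exact ⟨a * a, by simpa using (a5b _ ha).2.2.2.2.1, rfl⟩
  · rintro _ ⟨a, ha, rfl⟩ a1 _ ⟨x, hx, rfl⟩
    have k : ∀ u : L, π x = π u → ∃ v ∈ π.ker.map L.subtype, (x : G) = v * u := fun u e =>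
      ⟨_, ⟨x * u⁻¹, by simp [e], rfl⟩, by simp⟩
    rcases (a5b _ ha).2.2.2.2.2 (fun e => a1 ⟨a, e, rfl⟩) _ hx with e | e | e | e
    · exact ⟨x, ⟨x, e, rfl⟩, .inl rfl⟩
    · obtain ⟨v, hv, e⟩ := k a e; exact ⟨v, hv, .inr (.inl e)⟩
    · obtain ⟨v, hv, e⟩ := k (y * a * y⁻¹) (by simpa [hy] using e); exact ⟨v, hv, .inr (.inr (.inl e))⟩
    · obtain ⟨v, hv, e⟩ := k (a * (y * a * y⁻¹)) (by simpa [hy] using e); exact ⟨v, hv, .inr (.inr (.inr e))⟩

theorem fix3 (c : C3 G) {r w : L} (hr : orderOf (π r) = 3) (hw : π w = 1) (e : Commute r w) : w = 1 :=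
  (c.sub L).eq_one (c.sub L r (hr ▸ orderOf_map_dvd π r)) (by rintro rfl; simp at hr) e fun e' => by
    have := Nat.le_of_dvd two_pos (e'.trans (orderOf_dvd_of_pow_eq_one (n := 2) (by rw [pow_two, h.sq w hw]))); omega

theorem fpf (c : C3 G) {f t : L} (ht : π t = 1) (t1 : t ≠ 1) (e : Commute f t) (f2 : ¬ 2 ∣ orderOf f) (f3 : ¬ 3 ∣ orderOf f) :
    f = 1 := by
  have k : ∀ p : ℕ, p.Prime → ¬ p ∣ orderOf f → π f ^ p = 1 → f = 1 := fun p hp h1 h2 => by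
    have e1 : π f = 1 := orderOf_eq_one_iff.1 (((Nat.dvd_prime hp).1 (orderOf_dvd_of_pow_eq_one h2)).resolve_right fun e =>
      h1 (e ▸ orderOf_map_dvd π f))
    exact orderOf_eq_one_iff.1 (((Nat.dvd_prime Nat.prime_two).1 (orderOf_dvd_of_pow_eq_one (by
      rw [pow_two, h.sq f e1]))).resolve_right fun e => f2 e.symm.dvd)
  rcases a5a _ (h.sign f) with e1 | e1 | ⟨g, hg, e1, i, e2⟩
  · exact k 2 Nat.prime_two f2 e1
  · exact k 3 Nat.prime_three f3 e1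
  obtain ⟨x, rfl⟩ := h.surj hg
  obtain ⟨y, hy⟩ := h.surj a5c.1
  obtain ⟨s, hs⟩ := h.surj (a5b sA (.inr (.inl rfl))).1
  have S := h.sa c hy
  have key : ∀ w : L, π w = 1 → Commute (x * f * x⁻¹) w → Commute s w → w = 1 := fun w hw c1 c2 => by
    have c3' := S.l1 (t := (s : G)) (v := (w : G)) (mem_map_of_mem L.subtype (x := s) (by simp [hs, mem_vA]))
      (mem_map_of_mem L.subtype (x := w) hw) (congrArg Subtype.val c2.eq)
    have c3 : Commute (y * s * y⁻¹) w := Subtype.ext c3'.eq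
    exact h.fix3 c (r := (x * f * x⁻¹) ^ (i : ℕ) * (y * s * y⁻¹)) (by simpa [hs, hy] using e2) hw ((c1.pow_left _).mul_left c3)
  have e3 : Commute (x * f * x⁻¹) (x * t * x⁻¹) := by rw [Commute, SemiconjBy, conj_mul, conj_mul, e.eq]
  have e4 : π (x * t * x⁻¹) = 1 := by simp [ht]
  have e5 : x * t * x⁻¹ ≠ 1 := by simpa using t1
  have e1 : π (s * (x * f * x⁻¹) * s⁻¹ * (x * f * x⁻¹)) = 1 := by simpa [hs] using e1
  generalize x * t * x⁻¹ = w at *
  generalize x * f * x⁻¹ = f' at *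
  have e6 : π (s * w * s⁻¹) = 1 := by simp [e4]
  have e7 : Commute f' (s * w * s⁻¹) := by
    have c1 : Commute (s * f' * s⁻¹) (s * w * s⁻¹) := by rw [Commute, SemiconjBy, conj_mul, conj_mul, e3.eq]
    rw [show f' = (s * f' * s⁻¹)⁻¹ * (s * f' * s⁻¹ * f') by group]
    exact c1.inv_left.mul_left (h.comm _ _ e1 e6)
  have e8 : Commute (s * s) w := h.comm _ _ (by simpa [hs] using (a5b sA (.inr (.inl rfl))).2.2.2.2.1) e4
  have := key (w * (s * w * s⁻¹)) (by simp [e4]) (e3.mul_right e7) (by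
    rw [Commute, SemiconjBy]
    calc _ = s * w * s⁻¹ * (s * s * w) * s⁻¹ := by group
      _ = s * w * s⁻¹ * w * s := by rw [e8.eq]; group
      _ = _ := by rw [h.comm _ _ e4 e6])
  refine absurd (key w e4 e3 ?_) e5
  rw [Commute, SemiconjBy, ← mul_inv_eq_iff_eq_mul, eq_inv_of_mul_eq_one_right this, inv_eq_of_mul_eq_one_right (h.sq w e4)]

end A5L

end H6
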