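import Cfsg.Agent.H6.K3e
import Cfsg.Agent.H4.S4
import Cfsg.Agent.H17.Cores
import Cfsg.Agent.H1.Fitting
import Cfsg.Agent.H3.HallTransfer
import Cfsg.Agent.H29.Basic
import Cfsg.Agent.H2.Syl
/-! Normal `2`-complements in involution centralizers of `C3` groups: `C3.lemA` (class two Sylow subgroup normalized by an
element of order `3`), `lemC` (Sylow subgroup of order `128` with two conjugate `E₁₆`). -/
set_option autoImplicit false
open H7 Cfsg Subgroup Equiv
namespace H6

variable {G : Type*} [Group G]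

theorem C3.nd3 [Finite G] (c : C3 G) {t : G} (t2 : orderOf t = 2) : ¬ 3 ∣ Nat.card (centralizer ({t} : Set G)) := fun h => by
  obtain ⟨y, hy, y3⟩ := H29.exists_orderOf_eq_mem Nat.prime_three h
  have := c.eq_one (y3 ▸ pow_orderOf_eq_one y) (by rintro rfl; simp at y3) (H9.mem_centralizer_singleton_iff_commute.1 hy) (by omega)
  simp [this] at t2

def cE (g t : G) : centralizer ({t} : Set G) ≃* centralizer ({g * t * g⁻¹} : Set G) :=
  ((MulAut.conj g).subgroupMap _).trans (MulEquiv.subgroupCongr (by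
    ext x
    refine H9.mem_map_conj.trans ?_
    rw [mem_centralizer_singleton_iff, mem_centralizer_singleton_iff]
    constructor <;> intro h
    · calc _ = g * (g⁻¹ * x * g * t) * g⁻¹ := by group
        _ = _ := by rw [h]; group
    · calc _ = g⁻¹ * (x * (g * t * g⁻¹)) * g := by group
        _ = _ := by rw [h]; group))

theorem C3.lemA [Finite G] (c : C3 G) {t y : G} (t2 : orderOf t = 2) {H : Subgroup G} (hH : centralizer {t} = H) [Group.IsSolvable H]
    (S : Sylow 2 H) (hcl : Subgroup.lowerCentralSeries (S : Subgroup H) 2 = ⊥)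
    (hy : y ∈ normalizer ((S : Subgroup H).map H.subtype : Set G)) (y3 : orderOf y = 3) : HasNormalPComplement 2 H := by
  have n3 : ¬ 3 ∣ Nat.card H := hH ▸ c.nd3 t2
  have mH : ∀ x, x ∈ H ↔ x * t = t * x := fun x => hH ▸ mem_centralizer_singleton_iff
  have e := H4.thompson_sup_of_class_two H4.pSol_top_of_solvable.isPConstrained (fun ⟨K, R, _, ⟨e⟩⟩ => n3 (by
    have : Nat.card (Perm (Fin 4)) = 24 := by rw [Nat.card_perm]; simp [Nat.factorial]
    exact ((by norm_num : 3 ∣ 24).trans ((Nat.card_congr e.toEquiv).trans this).symm.dvd).trans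
      ((card_quotient_dvd_card _).trans (card_subgroup_dvd_card K)))) S hcl
  have tH : t ∈ H := (mH t).2 rfl
  have t2' : (⟨t, tH⟩ : H) ^ 2 = 1 := Subtype.ext (t2 ▸ pow_orderOf_eq_one t)
  have tc : ∀ x : H, x * ⟨t, tH⟩ = ⟨t, tH⟩ * x := fun x => Subtype.ext ((mH x).1 x.2)
  have tS : (⟨t, tH⟩ : H) ∈ (S : Subgroup H) := by
    obtain ⟨g, hg⟩ := H9.exists_conj_mem_sylow_two (by rw [← pow_two, t2']) S
    rwa [tc, mul_inv_cancel_right] at hg
  have tJ := H4.mem_thompsonOf_of_centralizes tS (fun x _ => tc x) t2'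
  have t1 : t ≠ 1 := by rintro rfl; simp at t2
  have e2 := H4.map_thompsonOf (e := 2) H.subtype_injective (S : Subgroup H)
  have hy' := H4.normalizer_le_normalizer_thompsonOf 2 _ hy
  rw [← e2] at hy'
  have hJ : IsPGroup 2 (thompsonSubgroupOf 2 (S : Subgroup H)) := S.isPGroup'.to_le (H4.thompsonOf_le _ _)
  generalize thompsonSubgroupOf 2 (S : Subgroup H) = J at *
  have nn : ∀ x ∈ normalizer (J : Set H), (x : G) ∈ normalizer (J.map H.subtype : Set G) := fun x hx =>
    le_normalizer_map H.subtype (mem_map_of_mem _ hx)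
  have o3 : ∀ x : H, ¬ 3 ∣ orderOf x := fun x h => n3 (h.trans (orderOf_dvd_natCard x))
  have k : HasNormalPComplement 2 (normalizer (J : Set H)) := by
    refine H3.hasNormalPComplement_subgroup_iff.2 fun a ha b hb a2 b2 => ?_
    rcases c.ft (hJ.map H.subtype) (fun e => t1 (mem_bot.1 (e ▸ mem_map_of_mem H.subtype tJ)))
      (y3 ▸ orderOf_dvd_natCard _ hy') with ⟨K, _, h1, h2, -⟩ | ⟨π, h1, h2⟩
    · have m : ∀ x : H, ∀ hx : x ∈ normalizer (J : Set H), (orderOf x).Coprime 2 → (⟨x, nn x hx⟩ : normalizer (J.map H.subtype : Set G)) ∈ K := fun x hx x2 => by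
        refine (zpowers_le.2 (K.pow_index_mem _) :) (mem_zpowers_pow_iff.2 (Nat.Coprime.coprime_dvd_left h2 ?_))
        rw [← orderOf_coe, orderOf_coe x]
        exact Nat.Coprime.mul_left (m := 2) (n := 3) x2.symm ((Nat.Prime.coprime_iff_not_dvd Nat.prime_three).2 (o3 x))
      have := H3.hasNormalPComplement_subgroup_iff.1 (H3.hasNormalPComplement_of_isNilpotent (G := K) (p := 2)) _ (m a ha a2) _ (m b hb b2)
        (by rwa [← orderOf_coe, orderOf_coe a]) (by rwa [← orderOf_coe, orderOf_coe b])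
      rw [← orderOf_coe] at this ⊢; exact this
    · have m : ∀ x : H, x ∈ normalizer (J : Set H) → (orderOf x).Coprime 2 → x = 1 := fun x hx x2 => by
        have := h1.fpf c (f := ⟨x, nn x hx⟩) (t := ⟨t, le_normalizer (mem_map_of_mem H.subtype tJ)⟩)
          (h2 _ (mem_map_of_mem H.subtype tJ)) (fun e => t1 (congrArg Subtype.val e))
          (Subtype.ext ((mH x).1 x.2))
          (by rw [← orderOf_coe, orderOf_coe x]; exact (Nat.Prime.coprime_iff_not_dvd Nat.prime_two).1 x2.symm)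
          (by rw [← orderOf_coe, orderOf_coe x]; exact o3 x)
        exact Subtype.ext (congrArg Subtype.val this :)
      simp [m a ha a2, m b hb b2]
  refine H3.hasNormalPComplement_of_quotient (pPrimeCore 2 H)
    ((Nat.Prime.coprime_iff_not_dvd Nat.prime_two).1 (H1.coprime_card_pPrimeCore 2 H).symm)
    (H3.hasNormalPComplement_of_surjective ((QuotientGroup.mk' _).comp (normalizer (J : Set H)).subtype) ?_ k)
  have := congrArg (map (QuotientGroup.mk' (pPrimeCore 2 H))) e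
  rw [Subgroup.map_sup, (map_eq_bot_iff (pPrimeCore 2 H)).2 (QuotientGroup.ker_mk' _).ge, sup_bot_eq,
    map_top_of_surjective _ (QuotientGroup.mk'_surjective _)] at this
  rwa [← MonoidHom.range_eq_top, MonoidHom.range_comp, range_subtype]

theorem o20 [Finite G] (h : Nat.card G = 20) {W : Subgroup G} (cW : Nat.card W = 4) (sq : ∀ w ∈ W, w * w = 1) :
    ∃ w : G, w ≠ 1 ∧ w * w = 1 ∧ w ∈ center G := by
  have : Fact (Nat.Prime 5) := ⟨by norm_num⟩
  obtain ⟨P⟩ : Nonempty (Sylow 5 G) := inferInstance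
  have cP : Nat.card P = 5 := by
    rw [P.card_eq_multiplicity, h, Nat.factorization_def _ (by norm_num), show padicValNat 5 20 = 1 by decide +kernel]; rfl
  have i4 : (P : Subgroup G).index = 4 := by have := (P : Subgroup G).card_mul_index; rw [cP, h] at this; omega
  have n1 : Nat.card (Sylow 5 G) = 1 := by
    have h1 := P.card_dvd_index
    have h2 := card_sylow_modEq_one 5 G
    rw [i4] at h1
    have := Nat.le_of_dvd (by norm_num) h1
    unfold Nat.ModEq at h2; omega
  have : Subsingleton (Sylow 5 G) := (Nat.card_eq_one_iff_unique.1 n1).1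
  have : (P : Subgroup G).Normal := P.normal_of_subsingleton
  have : IsCyclic P := isCyclic_of_prime_card cP
  have cy : IsCyclic (MulAut P) := by
    have e := IsCyclic.mulAutMulEquiv P
    rw [cP] at e
    exact isCyclic_of_injective e.toMonoidHom e.injective
  have w2 : ∀ w : W, w * w = 1 := fun w => Subtype.ext (sq w w.2)
  have : ¬ Function.Injective ((MulAut.conjNormal (H := (P : Subgroup G))).comp W.subtype) := fun e => by
    obtain ⟨g, hg⟩ := (isCyclic_of_injective _ e).exists_generator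
    have := orderOf_dvd_of_pow_eq_one (x := g) (n := 2) (by rw [pow_two, w2])
    rw [orderOf_eq_card_of_forall_mem_zpowers hg, cW] at this; omega
  rw [injective_iff_map_eq_one] at this
  push Not at this
  obtain ⟨w, h1, w1⟩ := this
  refine ⟨w, fun e => w1 (Subtype.ext e), sq w w.2, ?_⟩
  have l1 : (P : Subgroup G) ≤ centralizer {(w : G)} := fun x hx => mem_centralizer_singleton_iff.2 (by
    have := congrArg (fun φ : MulAut P => (φ ⟨x, hx⟩ : G)) h1
    simp only [MonoidHom.comp_apply, MulAut.conjNormal_apply, coe_subtype, MulAut.one_apply] at this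
    rw [← mul_inv_eq_iff_eq_mul.1 this])
  have l2 : W ≤ centralizer {(w : G)} := fun x hx => mem_centralizer_singleton_iff.2 (by
    rw [← inv_eq_of_mul_eq_one_right (sq _ (mul_mem hx w.2)), mul_inv_rev, inv_eq_of_mul_eq_one_right (sq x hx),
      inv_eq_of_mul_eq_one_right (sq w w.2)])
  have : centralizer {(w : G)} = ⊤ := eq_top_of_le_card _ (Nat.le_of_dvd Nat.card_pos (h ▸
    (by norm_num : Nat.Coprime 5 4).mul_dvd_of_dvd_of_dvd (cP ▸ card_dvd_of_le l1) (cW ▸ card_dvd_of_le l2)))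
  exact mem_center_iff.2 fun g => mem_centralizer_singleton_iff.1 (this.ge (mem_top g))

theorem idx5 [Finite G] {A : Subgroup G} {f : G} (hA : Nat.card A ∣ 128) (hf : f ∈ normalizer (A : Set G)) (f5 : orderOf f = 5) :
    A ≤ centralizer {f} ∨ Nat.card A = 16 * Nat.card (A ⊓ centralizer {f} : Subgroup G) := by
  have : Fact (Nat.Prime 5) := ⟨by norm_num⟩
  have h := H3.card_modEq_card_inf_centralizer (IsPGroup.of_card (p := 5) (n := 1) (by rw [Nat.card_zpowers, f5]; rfl)) (zpowers_le.2 hf)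
  rw [zpowers_eq_closure, centralizer_closure] at h
  by_cases e : A ⊓ centralizer {f} = A
  · exact .inl (inf_eq_left.1 e)
  have l := H2.card_lt_of_lt (lt_of_le_of_ne inf_le_left e)
  have d := card_dvd_of_le (inf_le_left : A ⊓ centralizer {f} ≤ A)
  obtain ⟨i, hi, e1⟩ := (Nat.dvd_prime_pow Nat.prime_two (m := 7)).1 hA
  obtain ⟨j, hj, e2⟩ := (Nat.dvd_prime_pow Nat.prime_two).1 (e1 ▸ d)
  rw [e1, e2] at h l ⊢
  right; unfold Nat.ModEq at h
  interval_cases i <;> interval_cases j <;> simp_all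

theorem swap5 [Finite G] {A B : Subgroup G} {f : G} (f5 : orderOf f = 5) (e : Nat.card A = Nat.card B)
    (hA : (∀ a ∈ A, f * a * f⁻¹ ∈ A) ∨ ∀ a ∈ A, f * a * f⁻¹ ∈ B) (hB : (∀ a ∈ B, f * a * f⁻¹ ∈ B) ∨ ∀ a ∈ B, f * a * f⁻¹ ∈ A) :
    f ∈ normalizer (A : Set G) := by
  rcases hA with hA | hA
  · exact H9.mem_normalizer_of_conj_mem hA
  rcases hB with hB | hB
  · have nB := H9.mem_normalizer_of_conj_mem hB
    rwa [eq_of_le_of_card_ge (fun a ha => (mem_normalizer_iff.1 nB a).2 (hA a ha) : A ≤ B) e.ge]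
  · have : f * f ∈ normalizer (A : Set G) := H9.mem_normalizer_of_conj_mem fun a ha => by
      simpa [mul_assoc] using hB _ (hA a ha)
    have := pow_mem this 3
    rwa [← pow_two, ← pow_mul, show 2 * 3 = orderOf f + 1 by omega, pow_succ, pow_orderOf_eq_one, one_mul] at this

theorem lemC [Finite G] {D S U V : Subgroup G} [nD : D.Normal] {s z : G} {b : ℕ} (hX : Nat.card G ∣ 128 * 5 ^ b)
    (hc : centralizer (D : Set G) ≤ D) (pD : IsPGroup 2 D) (qD : pCore 2 (G ⧸ D) = ⊥) (cS : Nat.card S = 128) (VS : V ≤ S) (cV : Nat.card V = 16)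
    (sq : ∀ v ∈ V, v * v = 1) (hU : ∀ x, s * x * s⁻¹ ∈ U ↔ x ∈ V) (sqU : ∀ v ∈ U, v * v = 1) (cI : Nat.card (U ⊓ V : Subgroup G) ≤ 4)
    (zV : z ∈ V) (zU : z ∈ U) (z1 : z ≠ 1) (zc : z ∈ center G)
    (hW : ∀ W ≤ S, (∀ w ∈ W, w * w = 1) → 8 ≤ Nat.card W → W ≤ U ∨ W ≤ V) : IsPGroup 2 G := by
  have : Fact (Nat.Prime 5) := ⟨by norm_num⟩
  have pS : IsPGroup 2 S := .of_card (n := 7) cS
  have DS : D ≤ S := by
    obtain ⟨k, hk⟩ := IsPGroup.iff_card.1 (pD.to_sup_of_normal_left pS)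
    have := Nat.Coprime.dvd_of_dvd_mul_right (hk ▸ Nat.Coprime.pow _ _ (by norm_num)) ((card_subgroup_dvd_card (D ⊔ S)).trans hX)
    exact le_sup_left.trans (eq_of_le_of_card_ge le_sup_right (cS ▸ Nat.le_of_dvd (by norm_num) this)).ge
  have dS : ∀ A ≤ D, Nat.card A ∣ 128 := fun A hA => cS ▸ card_dvd_of_le (hA.trans DS)
  have zD : z ∈ D := hc fun x _ => mem_center_iff.1 zc x
  have z2 : ∀ A : Subgroup G, ∀ f : G, z ∈ A → 2 ≤ Nat.card (A ⊓ centralizer {f} : Subgroup G) := fun A f h =>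
    (one_lt_card_iff_ne_bot _).2 fun e => z1 (mem_bot.1 (e ▸ mem_inf.2 ⟨h, mem_centralizer_singleton_iff.2 (mem_center_iff.1 zc f).symm⟩))
  have k1 : ∀ f : G, orderOf f = 5 → Nat.card D = 16 * Nat.card (D ⊓ centralizer {f} : Subgroup G) := fun f f5 =>
    (idx5 (dS D le_rfl) (le_normalizer_of_normal (mem_top f)) f5).resolve_left fun e => by
      have := (orderOf_dvd_natCard D (hc fun x hx => mem_centralizer_singleton_iff.1 (e hx))).trans (dS D le_rfl)
      rw [f5] at this; omega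
  obtain ⟨m, hm⟩ := cS ▸ card_subgroup_dvd_card S
  obtain ⟨j, -, rfl⟩ := (Nat.dvd_prime_pow (by norm_num : Nat.Prime 5)).1 (Nat.dvd_of_mul_dvd_mul_left (by norm_num) (hm ▸ hX))
  rcases j with _ | j
  · exact .of_card (n := 7) hm
  obtain ⟨f, f5⟩ := exists_prime_orderOf_dvd_card' (G := G) 5 (hm ▸ Dvd.dvd.mul_left (dvd_pow_self 5 (by omega)) _)
  have e1 : Nat.card (D ⊓ U : Subgroup G) = Nat.card (D ⊓ V : Subgroup G) := by
    rw [← H9.card_map_conj (D ⊓ V) s]; congr; ext x
    rw [H9.mem_map_conj, mem_inf, mem_inf, ← hU, nD.mem_comm_iff (a := s⁻¹ * x)]; simp [mul_assoc]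
  have l1 := Nat.le_of_dvd (by norm_num) (dS D le_rfl)
  have l2 := k1 f f5
  have l3 := z2 D f zD
  exfalso
  by_cases h8 : 8 ≤ Nat.card (D ⊓ V : Subgroup G)
  · have k : ∀ A ≤ D, (∀ v ∈ A, v * v = 1) → 8 ≤ Nat.card A → (∀ a ∈ A, f * a * f⁻¹ ∈ D ⊓ U) ∨ ∀ a ∈ A, f * a * f⁻¹ ∈ D ⊓ V :=
      fun A hA h1 h2 => by
        have m : ∀ a ∈ A, f * a * f⁻¹ ∈ D := fun a ha => nD.conj_mem a (hA ha) f
        refine (hW (A.map (MulAut.conj f).toMonoidHom) ?_ ?_ (by rwa [H9.card_map_conj])).imp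
          (fun e a ha => mem_inf.2 ⟨m a ha, e (mem_map_of_mem _ ha)⟩) fun e a ha => mem_inf.2 ⟨m a ha, e (mem_map_of_mem _ ha)⟩
        · rintro _ ⟨a, ha, rfl⟩; exact DS (m a ha)
        · rintro _ ⟨a, ha, rfl⟩; rw [← map_mul, h1 a ha, map_one]
    have h1 := k (D ⊓ U) inf_le_left (fun v hv => sqU v hv.2) (by omega)
    have h2 := k (D ⊓ V) inf_le_left (fun v hv => sq v hv.2) h8
    have l4 : Nat.card (D ⊓ V : Subgroup G) ≤ 16 := cV ▸ card_le_of_le inf_le_right
    have k2 : ∀ A ≤ D, z ∈ A → Nat.card A = Nat.card (D ⊓ V : Subgroup G) → f ∈ normalizer (A : Set G) → A = D ⊓ centralizer {f} :=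
      fun A hA zA cA nA => eq_of_le_of_card_ge (le_inf hA ((idx5 (dS A hA) nA f5).resolve_right fun e => by
        have := z2 A f zA; omega)) (by omega)
    have e2 := (k2 _ inf_le_left ⟨zD, zU⟩ e1 (swap5 f5 e1 h1 h2.symm)).trans
      (k2 _ inf_le_left ⟨zD, zV⟩ rfl (swap5 f5 e1.symm h2.symm h1)).symm
    have := card_le_of_le (le_inf (e2.ge.trans inf_le_right) inf_le_right : D ⊓ V ≤ U ⊓ V)
    omega
  have l4 : Nat.card (D ⊓ V : Subgroup G) ≤ 4 := by
    obtain ⟨i, hi, e⟩ := (Nat.dvd_prime_pow Nat.prime_two (m := 7)).1 (dS _ (inf_le_left : D ⊓ V ≤ D))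
    rw [e] at h8 ⊢; interval_cases i <;> omega
  have l5 := H2.card_sup_mul_card_inf (N := D) (H := V) le_normalizer_of_normal
  have l6 := card_le_of_le (sup_le DS VS)
  have cD : Nat.card D = 32 := by nlinarith
  have cI' : Nat.card (D ⊓ V : Subgroup G) = 4 := by nlinarith
  have cz : Nat.card (zpowers z) = 2 := by rw [Nat.card_zpowers, orderOf_eq_prime (by rw [pow_two, sq z zV]) z1]
  obtain ⟨P, cP⟩ := Sylow.exists_subgroup_card_pow_prime (G := G) 5 (n := j + 1) (hm ▸ dvd_mul_left _ _)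
  let _ : MulAction G G := MulAction.compHom G (MulAut.conj (G := G))
  have zc' : ∀ g : G, ∀ x ∈ zpowers z, g * x * g⁻¹ = x := fun g x hx => by
    rw [mem_center_iff.1 (zpowers_le.2 zc hx) g, mul_inv_cancel_right]
  have dv := H29.card_dvd_of_free P ((D : Set G) \ zpowers z) (fun g _ x hx => ⟨nD.conj_mem x hx.1 g, fun e => hx.2 (by
    have : g * x * g⁻¹ ∈ zpowers z := e
    have e' := zc' g⁻¹ _ this
    rw [show x = g * x * g⁻¹ by rw [← e']; group]; exact this)⟩) fun g hg x hx e => by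
    by_contra g1
    obtain ⟨u, hu, u5⟩ := H29.exists_orderOf_eq_mem (H := zpowers g) (by norm_num : Nat.Prime 5) (by
      obtain ⟨i, -, hi⟩ := (Nat.dvd_prime_pow (by norm_num : Nat.Prime 5)).1 (cP ▸ orderOf_dvd_natCard P hg)
      rw [Nat.card_zpowers, hi]; exact dvd_pow_self 5 fun e => g1 (orderOf_eq_one_iff.1 (by simpa [e] using hi)))
    have := k1 u u5
    have e2 : zpowers z = D ⊓ centralizer {u} := eq_of_le_of_card_ge (zpowers_le.2
      ⟨zD, mem_centralizer_singleton_iff.2 (mem_center_iff.1 zc u).symm⟩) (by omega)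
    obtain ⟨n, rfl⟩ := hu
    exact hx.2 (e2.ge ⟨hx.1, mem_centralizer_singleton_iff.2 (Commute.zpow_left (mul_inv_eq_iff_eq_mul.1 e) n).eq.symm⟩)
  rw [Nat.card_coe_set_eq, Set.ncard_sdiff (by simpa using zD), ← Nat.card_coe_set_eq, ← Nat.card_coe_set_eq, cP,
    show Nat.card (D : Set G) = 32 from cD, show Nat.card (zpowers z : Set G) = 2 from cz] at dv
  rcases j with _ | j
  · obtain ⟨w, w1, w2, wc⟩ := o20 (G := G ⧸ D) (by have := card_eq_card_quotient_mul_card_subgroup D; rw [cD, hm] at this; omega)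
      (W := V.map (QuotientGroup.mk' D)) (by have := H2.card_inf_mul_relIndex D V; rw [H2.card_map_mk']; nlinarith) (by
        rintro _ ⟨v, hv, rfl⟩; rw [← map_mul, sq v hv, map_one])
    have : (zpowers w).Normal := ⟨fun x hx g => by rwa [mem_center_iff.1 (zpowers_le.2 wc hx) g, mul_inv_cancel_right]⟩
    have : zpowers w ≤ pCore 2 (G ⧸ D) := le_sSup ⟨this, H9.isPGroup_zpowers_of_mul_self w2⟩
    exact w1 (mem_bot.1 (qD ▸ this (mem_zpowers w)))
  · have := (pow_dvd_pow 5 (by omega : 2 ≤ j + 1 + 1)).trans dv; omega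

end H6
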