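import Cfsg.Agent.H6.K3f
/-! `C3` groups with a non-solvable `2`-local `2⁴ᵏ.A₅`: the configuration `SB` (`T` not Sylow), and `C3.two`: in a simple `C3`
group of order `9·2ᵃ·qᵇ` all `2`-locals are solvable or all involution centralizers are `2`-nilpotent. -/
set_option autoImplicit false
open H7 Cfsg Subgroup Equiv
namespace H6

variable {G : Type*} [Group G]

abbrev cjv (s : G) (V : Subgroup G) : Subgroup G := V.map (MulAut.conj s).toMonoidHom

theorem comm_of_sq {W : Subgroup G} (h : ∀ w ∈ W, w * w = 1) {a b : G} (ha : a ∈ W) (hb : b ∈ W) : a * b = b * a := by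
  rw [← inv_eq_of_mul_eq_one_right (h _ (mul_mem ha hb)), mul_inv_rev, inv_eq_of_mul_eq_one_right (h a ha),
    inv_eq_of_mul_eq_one_right (h b hb)]

theorem sq_cjv {W : Subgroup G} (h : ∀ w ∈ W, w * w = 1) (r : G) : ∀ w ∈ cjv r W, w * w = 1 := by
  rintro _ ⟨a, ha, rfl⟩; rw [← map_mul, h a ha, map_one]

structure SB (P T V : Subgroup G) (y s : G) : Prop extends SA T V y where
  pP : IsPGroup 2 P
  TP : T ≤ P
  cT : Nat.card T = 4 * Nat.card V
  nP : ∀ r ∈ P, r ∈ normalizer (V : Set G) → r ∈ T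
  cZ : Nat.card (V ⊓ centralizer (T : Set G) : Subgroup G) ^ 2 ≤ Nat.card V
  c16 : 16 ≤ Nat.card V
  sP : s ∈ P
  sT : s ∉ T
  sN : s ∈ normalizer (T : Set G)
  y1 : y ≠ 1

namespace SB
variable [Finite G] {P T V W : Subgroup G} {y s r t : G} (h : SB P T V y s)
include h

theorem UT : cjv s V ≤ T := by rintro _ ⟨v, hv, rfl⟩; exact conj_mem_nN h.sN (h.le hv)

theorem nUV : ¬ cjv s V ≤ V := fun e => h.sT (h.nP s h.sP (H9.mem_normalizer_of_conj_mem fun _ hv => e (mem_map_of_mem _ hv)))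

theorem cards : Nat.card V = 16 ∧ V ⊓ cjv s V = V ⊓ centralizer (T : Set G) ∧ Nat.card (V ⊓ cjv s V : Subgroup G) = 4 := by
  obtain ⟨u, hu, uV⟩ := SetLike.not_le_iff_exists.1 h.nUV
  have l : V ⊓ cjv s V ≤ V ⊓ centralizer (T : Set G) := fun x hx =>
    ⟨hx.1, h.mem_Z (h.UT hu) uV hx.1 (comm_of_sq (sq_cjv h.sq s) hu hx.2)⟩
  have e1 := H2.card_sup_mul_card_inf (N := V) (H := cjv s V) fun x hx => H9.mem_normalizer_of_conj_mem (h.nV x (h.UT hx))
  have e2 := card_le_of_le (sup_le h.le h.UT)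
  have e3 := card_le_of_le l
  have := h.cZ
  have := h.c16
  rw [H9.card_map_conj] at e1
  rw [h.cT] at e2
  have e4 : Nat.card V ≤ 4 * Nat.card (V ⊓ cjv s V : Subgroup G) := by nlinarith
  have e5 : Nat.card (V ⊓ centralizer (T : Set G) : Subgroup G) ≤ 4 := by nlinarith
  exact ⟨by omega, eq_of_le_of_card_ge l (by omega), by omega⟩

theorem dec (ht : t ∈ T) : ∃ v ∈ V, ∃ u ∈ cjv s V, v * u = t :=
  (H2.coe_eq_mul_of_card_le h.le h.UT (by rw [H9.card_map_conj, h.cT, h.cards.2.2, h.cards.1])).le ht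

theorem inv (ht : t ∈ T) (t2 : t * t = 1) : t ∈ cjv s V ∨ t ∈ V := by
  obtain ⟨v, hv, u, hu, rfl⟩ := h.dec ht
  by_cases uV : u ∈ V
  · exact .inr (mul_mem hv uV)
  have c : Commute u v := by
    rw [Commute, SemiconjBy, ← inv_eq_of_mul_eq_one_right t2, mul_inv_rev, inv_eq_of_mul_eq_one_right (h.sq v hv),
      inv_eq_of_mul_eq_one_right (sq_cjv h.sq s u hu)]
  exact .inl (mul_mem (h.cards.2.1.ge ⟨hv, h.mem_Z (h.UT hu) uV hv c⟩).2 hu)

theorem el (hW : W ≤ T) (sq : ∀ w ∈ W, w * w = 1) : W ≤ cjv s V ∨ W ≤ V := by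
  by_contra! e
  obtain ⟨a, ha, aU⟩ := SetLike.not_le_iff_exists.1 e.1
  obtain ⟨b, hb, bV⟩ := SetLike.not_le_iff_exists.1 e.2
  rcases h.inv (hW (mul_mem ha hb)) (sq _ (mul_mem ha hb)) with e | e
  · exact aU ((mul_mem_cancel_right ((h.inv (hW hb) (sq b hb)).resolve_right bV)).1 e)
  · exact bV ((mul_mem_cancel_left ((h.inv (hW ha) (sq a ha)).resolve_left aU)).1 e)

theorem sw (hr : r ∈ normalizer (T : Set G)) (rV : r ∉ normalizer (V : Set G)) :
    (∀ v ∈ V, r * v * r⁻¹ ∈ cjv s V) ∧ ∀ u ∈ cjv s V, r * u * r⁻¹ ∈ V := by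
  have k : ∀ A ≤ T, (∀ w ∈ A, w * w = 1) → (∀ a ∈ A, r * a * r⁻¹ ∈ cjv s V) ∨ ∀ a ∈ A, r * a * r⁻¹ ∈ V := fun A hA sq =>
    (h.el (W := cjv r A) (by rintro _ ⟨a, ha, rfl⟩; exact conj_mem_nN hr (hA ha)) (sq_cjv sq r)).imp
      (fun e a ha => e (mem_map_of_mem _ ha)) fun e a ha => e (mem_map_of_mem _ ha)
  have h1 := (k V h.le h.sq).resolve_right fun e => rV (H9.mem_normalizer_of_conj_mem e)
  refine ⟨h1, (k _ h.UT (sq_cjv h.sq s)).resolve_left fun e => h.nUV (eq_of_le_of_card_ge (fun v hv =>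
    (mem_normalizer_iff.1 (H9.mem_normalizer_of_conj_mem e) v).2 (h1 v hv) : V ≤ cjv s V) (H9.card_map_conj V s).le).ge⟩

theorem mul_n {r' : G} (hr : r ∈ normalizer (T : Set G)) (rV : r ∉ normalizer (V : Set G)) (hr' : r' ∈ normalizer (T : Set G))
    (rV' : r' ∉ normalizer (V : Set G)) : r * r' ∈ normalizer (V : Set G) :=
  H9.mem_normalizer_of_conj_mem fun v hv => by simpa [mul_assoc] using (h.sw hr rV).2 _ ((h.sw hr' rV').1 v hv)

theorem nc (c : C3 G) (hr : r ∈ normalizer (T : Set G)) (rV : r ∉ normalizer (V : Set G)) :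
    r ∉ centralizer (V ⊓ centralizer (T : Set G) : Subgroup G) := fun e => by
  have : Fact (Nat.Prime 3) := ⟨Nat.prime_three⟩
  have yZ : y ∈ normalizer (V ⊓ centralizer (T : Set G) : Subgroup G) :=
    H9.mem_normalizer_of_conj_mem fun x hx => ⟨h.yV x hx.1, h.yZ hx.2⟩
  obtain ⟨z, hz, z1⟩ := (bot_or_exists_ne_one (V ⊓ centralizer (T : Set G))).resolve_left fun e => by
    have := h.cards.2.2
    rw [h.cards.2.1, e, card_bot] at this; omega
  have e3 := c.cube (Q := centralizer (V ⊓ centralizer (T : Set G) : Subgroup G)) (r := y) (fun v hv x hx => by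
    have := hv _ (H9.conj_mem_of_mem_normalizer' yZ hx)
    calc _ = y * (y⁻¹ * x * y * v) * y⁻¹ := by group
      _ = _ := by rw [this]; group) e fun n hn => by
    rw [← orderOf_eq_prime h.y3 h.y1, orderOf_dvd_iff_pow_eq_one]
    by_contra e
    refine z1 (c.eq_one (by rw [← pow_mul, mul_comm, pow_mul, h.y3, one_pow]) e (hn z hz).symm fun e => ?_)
    have := Nat.le_of_dvd two_pos (e.trans (orderOf_dvd_of_pow_eq_one (n := 2) (by rw [pow_two, h.sq z hz.1]))); omega
  have g1 := mul_mem hr (H9.mem_normalizer_of_conj_mem h.yT)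
  have g2 : r * y ∉ normalizer (V : Set G) := fun e => rV ((mul_mem_cancel_right (H9.mem_normalizer_of_conj_mem h.yV)).1 e)
  rw [pow_succ, pow_two] at e3
  exact g2 (eq_inv_of_mul_eq_one_right e3 ▸ inv_mem (h.mul_n g1 g2 g1 g2))

theorem rel2 : T.relIndex (P ⊓ normalizer (T : Set G)) = 2 :=
  relIndex_eq_two_iff.2 ⟨s, ⟨h.sP, h.sN⟩, fun b hb => by
    by_cases bT : b ∈ T
    · exact .inr ⟨bT, fun e => h.sT ((mul_mem_cancel_left bT).1 e)⟩
    · exact .inl ⟨h.nP _ (mul_mem hb.1 h.sP) (h.mul_n hb.2 (fun e => bT (h.nP b hb.1 e)) h.sN fun e => h.sT (h.nP s h.sP e)), bT⟩⟩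

theorem big (c : C3 G) (hW : W ≤ P ⊓ normalizer (T : Set G)) (sq : ∀ w ∈ W, w * w = 1) (h8 : 8 ≤ Nat.card W) : W ≤ T := by
  by_contra e
  obtain ⟨w, hw, wT⟩ := SetLike.not_le_iff_exists.1 e
  have wV : w ∉ normalizer (V : Set G) := fun e => wT (h.nP w (hW hw).1 e)
  have l1 := relIndex_le_of_le_right (H := T) hW (by rw [h.rel2]; omega)
  have l2 := H2.card_inf_mul_relIndex T W
  rw [h.rel2] at l1
  have f : ∀ x ∈ T ⊓ W, w * x * w⁻¹ = x := fun x hx => by rw [comm_of_sq sq hw hx.2, mul_inv_cancel_right]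
  have l : T ⊓ W ≤ V ⊓ cjv s V := fun x hx => by
    rcases h.inv hx.1 (sq x hx.2) with e | e
    · exact ⟨f x hx ▸ (h.sw (hW hw).2 wV).2 x e, e⟩
    · exact ⟨e, f x hx ▸ (h.sw (hW hw).2 wV).1 x e⟩
  have e := eq_of_le_of_card_ge l (by rw [h.cards.2.2]; nlinarith)
  exact h.nc c (hW hw).2 wV fun x hx => comm_of_sq sq (e.ge (h.cards.2.1.ge hx)).2 hw

theorem le_n (c : C3 G) : P ≤ normalizer (T : Set G) := by
  by_contra e
  obtain ⟨r, rP, r1, r2⟩ := H9.exists_mem_normalizer_of_lt h.pP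
    (lt_of_le_of_ne inf_le_left fun e' => e (inf_eq_left.1 e') : P ⊓ normalizer (T : Set G) < P)
  have k : ∀ A ≤ T, (∀ w ∈ A, w * w = 1) → Nat.card A = 16 → ∀ a ∈ A, r * a * r⁻¹ ∈ T := fun A hA sq cA a ha =>
    h.big c (W := cjv r A) (by rintro _ ⟨a, ha, rfl⟩; exact conj_mem_nN r2 ⟨h.TP (hA ha), le_normalizer (hA ha)⟩) (sq_cjv sq r)
      (by rw [H9.card_map_conj]; omega) (mem_map_of_mem _ ha)
  refine r1 ⟨rP, H9.mem_normalizer_of_conj_mem fun t ht => ?_⟩
  obtain ⟨v, hv, u, hu, rfl⟩ := h.dec ht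
  rw [← conj_mul]
  exact mul_mem (k V h.le h.sq h.cards.1 v hv) (k _ h.UT (sq_cjv h.sq s) ((H9.card_map_conj V s).trans h.cards.1) u hu)

theorem pnil (c : C3 G) {a b : ℕ} (hG : Nat.card G = 9 * 2 ^ a * 5 ^ b) (hP : ¬ 2 ∣ P.index) {z : G} (zP : z ∈ P) (z2 : orderOf z = 2)
    (zc : ∀ x ∈ P, x * z = z * x) : z ∈ V ∧ HasNormalPComplement 2 (centralizer ({z} : Set G)) := by
  have n := h.le_n c
  have cP : Nat.card P = 128 := by
    have := H2.card_mul_relIndex h.TP
    have e := h.rel2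
    rw [inf_eq_left.2 n] at e
    rw [e, h.cT, h.cards.1] at this; omega
  have zz : z * z = 1 := by rw [← pow_two, ← z2, pow_orderOf_eq_one]
  have zs : s⁻¹ * z * s = z := by rw [mul_assoc, ← zc s h.sP, inv_mul_cancel_left]
  have zUV : z ∈ cjv s V ↔ z ∈ V := by rw [H9.mem_map_conj, zs]
  have zV : z ∈ V := (h.inv (h.nP z zP (H9.mem_normalizer_of_conj_mem fun v hv => by
    rwa [← zc v (h.TP (h.le hv)), mul_inv_cancel_right])) zz).elim zUV.1 id
  refine ⟨zV, ?_⟩
  have n3 := c.nd3 z2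
  have mH : ∀ x, x ∈ centralizer ({z} : Set G) ↔ x * z = z * x := fun x => mem_centralizer_singleton_iff
  generalize centralizer ({z} : Set G) = H at *
  have PH : P ≤ H := fun x hx => (mH x).2 (zc x hx)
  have dH : Nat.card H ∣ 128 * 5 ^ b := by
    rw [← H2.card_mul_relIndex PH, cP]
    refine Nat.mul_dvd_mul_left _ (Nat.Coprime.dvd_of_dvd_mul_left (m := 3 ^ 2 * 2 ^ a) (Nat.Coprime.mul_right
      (Nat.Coprime.pow_right _ ((Nat.Prime.coprime_iff_not_dvd Nat.prime_three).2 fun e => n3 (e.trans (relIndex_dvd_card P H))).symm)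
      (Nat.Coprime.pow_right _ ((Nat.Prime.coprime_iff_not_dvd Nat.prime_two).2 fun e => hP (e.trans
        (relIndex_dvd_index_of_le PH))).symm)) ?_)
    exact (relIndex_dvd_card P H).trans ((card_subgroup_dvd_card H).trans hG.dvd)
  have := H5.burnside_paqb_dvd (a := 7) Nat.prime_two (by norm_num : Nat.Prime 5) dH
  have oO := (Nat.Prime.coprime_iff_not_dvd Nat.prime_two).1 (H1.coprime_card_pPrimeCore 2 H).symm
  refine H3.hasNormalPComplement_of_quotient (pPrimeCore 2 H) oO (H3.hasNormalPComplement_of_isPGroup ?_)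
  let ι := (QuotientGroup.mk' (pPrimeCore 2 H)).comp (inclusion PH)
  have hι : Function.Injective ι := (injective_iff_map_eq_one ι).2 fun x hx => by
    obtain ⟨k, hk⟩ := (IsPGroup.iff_orderOf.1 h.pP) x
    have := H3.coprime_orderOf_of_mem_of_not_dvd_card oO ((QuotientGroup.eq_one_iff _).1 hx)
    rw [orderOf_injective _ (inclusion_injective PH), hk] at this
    exact orderOf_eq_one_iff.1 (hk ▸ Nat.Coprime.eq_one_of_dvd (Nat.Coprime.pow_right k this) dvd_rfl)
  have cd : ∀ A ≤ P, Nat.card ((A.subgroupOf P).map ι) = Nat.card A := fun A hA => by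
    rw [card_map_of_injective hι, H2.card_subgroupOf hA]
  have sq : ∀ A : Subgroup G, (∀ v ∈ A, v * v = 1) → ∀ v ∈ (A.subgroupOf P).map ι, v * v = 1 := by
    rintro A hA _ ⟨a, ha, rfl⟩; rw [← map_mul, show a * a = 1 from Subtype.ext (hA a ha), map_one]
  refine lemC (S := ι.range) (U := ((cjv s V).subgroupOf P).map ι) (V := (V.subgroupOf P).map ι) (s := ι ⟨s, h.sP⟩) (z := ι ⟨z, zP⟩)
    ((card_quotient_dvd_card _).trans dH) (H1.centralizer_pCore_le 2 (H17.pPrimeCore_quotient H 2)) (H17.pCore_isPGroup _ 2)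
    (H17.pCore_quotient _ 2) (by rw [MonoidHom.range_eq_map, card_map_of_injective hι, card_top, cP]) (map_le_range _ _)
    ((cd V (h.le.trans h.TP)).trans h.cards.1) (sq V h.sq) (fun x => ⟨?_, ?_⟩) (sq _ (sq_cjv h.sq s)) ?_ (mem_map_of_mem _ zV)
    (mem_map_of_mem _ (zUV.2 zV)) (fun e => ?_) (mem_center_iff.2 fun x => ?_) fun W hW sW c8 => ?_
  · rintro ⟨u, hu, e⟩
    exact ⟨⟨s, h.sP⟩⁻¹ * u * ⟨s, h.sP⟩, H9.mem_map_conj.1 hu, by rw [map_mul, map_mul, e, map_inv]; group⟩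
  · rintro ⟨v, hv, rfl⟩
    exact ⟨⟨s, h.sP⟩ * v * ⟨s, h.sP⟩⁻¹, (H9.conj_mem_map_conj (H := V)).2 hv, by rw [map_mul, map_mul, map_inv]⟩
  · rw [← Subgroup.map_inf _ _ _ hι, subgroupOf, subgroupOf, ← comap_inf, inf_comm]
    exact ((cd _ (inf_le_left.trans (h.le.trans h.TP))).trans h.cards.2.2).le
  · have := congrArg Subtype.val ((injective_iff_map_eq_one ι).1 hι _ e)
    simp_all
  · obtain ⟨x, rfl⟩ := QuotientGroup.mk'_surjective _ x
    exact (map_mul _ _ _).symm.trans ((congrArg _ (Subtype.ext ((mH x).1 x.2))).trans (map_mul _ _ _))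
  · have e := map_comap_eq_self hW
    have s1 : ∀ w ∈ (W.comap ι).map P.subtype, w * w = 1 := by
      rintro _ ⟨w, hw, rfl⟩; exact congrArg Subtype.val (hι ((map_mul ι w w).trans ((sW _ hw).trans (map_one ι).symm)))
    refine (h.el (h.big c (le_inf (map_subtype_le _) ((map_subtype_le _).trans n)) s1 ?_) s1).imp (fun l => ?_) fun l => ?_
    · rwa [card_map_of_injective P.subtype_injective, ← card_map_of_injective hι, e]
    all_goals exact e ▸ map_mono (map_le_iff_le_comap.1 l)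

theorem all [IsSimpleGroup G] (c : C3 G) {a b : ℕ} (hG : Nat.card G = 9 * 2 ^ a * 5 ^ b) (hP : ¬ 2 ∣ P.index)
    (tr : ∀ v ∈ V, v ≠ 1 → ∀ w ∈ V, w ≠ 1 → ∃ g, g * v * g⁻¹ = w) (t2 : orderOf t = 2) :
    HasNormalPComplement 2 (centralizer ({t} : Set G)) := by
  obtain ⟨z, zP, z2, zc⟩ := H29.exists_central_orderOf Nat.prime_two h.pP fun e => h.sT (mem_bot.1 (e ▸ h.sP) ▸ one_mem T)
  obtain ⟨zV, k⟩ := h.pnil c hG hP zP z2 zc
  have tt : t * t = 1 := by rw [← pow_two, ← t2, pow_orderOf_eq_one]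
  have k1 : ∀ g, g * t * g⁻¹ ∈ V → HasNormalPComplement 2 (centralizer ({t} : Set G)) := fun g hg => by
    obtain ⟨g', e⟩ := tr _ hg (by simp; rintro rfl; simp at t2) z zV (by rintro rfl; simp at z2)
    subst e
    exact H3.hasNormalPComplement_of_equiv ((cE g t).trans (cE g' _)).symm k
  have k2 : ∀ g, g * t * g⁻¹ ∈ T → HasNormalPComplement 2 (centralizer ({t} : Set G)) := fun g hg => by
    rcases h.inv hg (by rw [conj_mul, tt]; simp) with e | e
    · exact k1 (s⁻¹ * g) (by simpa [mul_assoc] using H9.mem_map_conj.1 e)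
    · exact k1 g e
  obtain ⟨g, hg⟩ := H9.exists_conj_mem_sylow_two tt (h.pP.toSylow hP)
  by_contra e
  obtain ⟨M, hM, i2, -⟩ := H3.thompson_transfer hP (inf_eq_left.2 (h.le_n c) ▸ h.rel2) (u := g * t * g⁻¹)
    (by rw [pow_two, conj_mul, tt]; simp) hg fun g' e' => e (k2 (g' * g) (by simpa [mul_assoc] using e'))
  rcases hM.eq_bot_or_eq_top with rfl | rfl
  · have := card_le_card_group V
    rw [index_bot] at i2
    rw [i2, h.cards.1] at this; omega
  · simp at i2

end SB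

theorem SA.all [Finite G] {T V : Subgroup G} {y t : G} (h : SA T V y) (c : C3 G) (y1 : y ≠ 1) (pT : IsPGroup 2 T) (hT : ¬ 2 ∣ T.index)
    (hs : ∀ t : G, orderOf t = 2 → Group.IsSolvable (centralizer ({t} : Set G))) (t2 : orderOf t = 2) :
    HasNormalPComplement 2 (centralizer ({t} : Set G)) := by
  have : Fact (Nat.Prime 3) := ⟨Nat.prime_three⟩
  obtain ⟨S⟩ : Nonempty (Sylow 2 (centralizer ({t} : Set G))) := inferInstance
  obtain ⟨g, hg⟩ := H9.exists_conj_le_sylow (S.isPGroup'.map (centralizer ({t} : Set G)).subtype) (pT.toSylow hT)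
  have tT : g * t * g⁻¹ ∈ T := by
    obtain ⟨x, hx⟩ := H9.exists_conj_mem_sylow_two (x := ⟨t, mem_centralizer_singleton_iff.2 rfl⟩)
      (Subtype.ext (by rw [← pow_two]; exact t2 ▸ pow_orderOf_eq_one t)) S
    have := hg _ (mem_map_of_mem _ hx)
    simpa [mem_centralizer_singleton_iff.1 x.2] using this
  have t2' : orderOf (g * t * g⁻¹) = 2 := (MulAut.conj g).orderOf_eq t ▸ t2
  have e : (S.mapSurjective (f := (cE g t).toMonoidHom) (cE g t).surjective).toSubgroup = T.subgroupOf _ :=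
    ((S.mapSurjective (f := (cE g t).toMonoidHom) (cE g t).surjective).is_maximal' pT.comap_subtype (by rintro _ ⟨x, hx, rfl⟩; exact hg _ (mem_map_of_mem _ hx))).symm
  have := hs _ t2'
  refine H3.hasNormalPComplement_of_equiv (cE g t).symm (c.lemA t2' rfl (S.mapSurjective (f := (cE g t).toMonoidHom) (cE g t).surjective) ?_ ?_ (orderOf_eq_prime h.y3 y1))
  · rw [e]
    refine commutator_eq_bot_iff_le_centralizer.2 (commutator_le.2 fun a ha b hb x hx => Subtype.ext (h.l3 ha hb x hx))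
  · rw [e, subgroupOf_map_subtype]
    exact H9.mem_normalizer_of_conj_mem fun x hx => ⟨h.yT x hx.1, mem_centralizer_singleton_iff.2
      (h.l4 tT hx.1 (mem_centralizer_singleton_iff.1 hx.2).symm).eq.symm⟩

theorem C3.two [Finite G] [IsSimpleGroup G] (c : C3 G) {q a b : ℕ} (hq : q.Prime) (hG : Nat.card G = 9 * 2 ^ a * q ^ b) :
    (∀ Q : Subgroup G, IsPGroup 2 Q → Q ≠ ⊥ → Group.IsSolvable (normalizer (Q : Set G))) ∨
      ∀ t : G, orderOf t = 2 → HasNormalPComplement 2 (centralizer ({t} : Set G)) := by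
  have sol : ∀ H : Subgroup G, ¬ 3 ∣ Nat.card H → Group.IsSolvable H := fun H h =>
    H5.burnside_paqb_dvd (a := a) (b := b) Nat.prime_two hq (Nat.Coprime.dvd_of_dvd_mul_left (m := 3 ^ 2)
      (Nat.Coprime.pow_right _ ((Nat.Prime.coprime_iff_not_dvd Nat.prime_three).2 h).symm)
      ((card_subgroup_dvd_card H).trans (by rw [hG, mul_assoc])))
  refine or_iff_not_imp_left.2 fun e t t2 => ?_
  push Not at e
  obtain ⟨V, ⟨pV, V1, nV⟩, mx⟩ := (wellFounded_gt (α := Subgroup G)).has_min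
    {Q | IsPGroup 2 Q ∧ Q ≠ ⊥ ∧ ¬ Group.IsSolvable (normalizer (Q : Set G))} e
  obtain ⟨π, h, hπ⟩ := (c.ft pV V1 (by by_contra e; exact nV (sol _ e))).resolve_left fun ⟨_, _, _, _, e⟩ => nV e
  obtain ⟨y, hy⟩ := h.surj a5c.1
  have S := h.sa c hy
  have l : V ≤ π.ker.map (normalizer (V : Set G)).subtype := fun v hv => ⟨⟨v, le_normalizer hv⟩, hπ _ hv, rfl⟩
  have eV : π.ker.map (normalizer (V : Set G)).subtype = V := (eq_or_lt_of_le l).elim Eq.symm fun e => absurd e (mx _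
    ⟨H9.isPGroup_of_forall fun x hx => ⟨1, by rw [pow_one, pow_two, S.sq x hx]⟩, ne_bot_of_gt e, fun e' => nV (H17.solvable_of_le (fun x hx =>
      H9.mem_normalizer_of_conj_mem (by rintro _ ⟨u, hu, rfl⟩; exact ⟨_, π.normal_ker.conj_mem u hu ⟨x, hx⟩, rfl⟩)) e')⟩)
  have cK : Nat.card π.ker = Nat.card V := by rw [← card_map_of_injective (subtype_injective _), eV]
  have cM : Nat.card (normalizer (V : Set G)) = 60 * Nat.card V := by
    rw [← π.ker.index_mul_card, index_ker, h.range, nat_card_alternatingGroup, cK]; simp [Nat.factorial]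
  have cT : Nat.card ((vA.comap π).map (normalizer (V : Set G)).subtype) = 4 * Nat.card V := by
    rw [card_map_of_injective (subtype_injective _), ← H2.card_mul_relIndex (ker_le_comap π vA), relIndex_ker,
      map_comap_eq_self (fun x hx => h.range.ge (a5b x hx).1), a5c.2.2.1, cK, mul_comm]
  rw [eV] at S
  have mT : ∀ x : normalizer (V : Set G), π x ∈ vA → (x : G) ∈ (vA.comap π).map (normalizer (V : Set G)).subtype := fun x hx => ⟨x, hx, rfl⟩
  have TM := map_subtype_le (H := normalizer (V : Set G)) (vA.comap π)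
  generalize (vA.comap π).map (normalizer (V : Set G)).subtype = T at *
  have y1 : (y : G) ≠ 1 := fun e => by
    rw [show y = 1 from Subtype.ext e, map_one] at hy; exact absurd hy (by decide)
  have p0 : 0 < Nat.card V := Nat.card_pos
  have pT : IsPGroup 2 T := by
    obtain ⟨k, hk⟩ := IsPGroup.iff_card.1 pV
    exact .of_card (n := 2 + k) (by rw [cT, hk, pow_add]; rfl)
  by_cases hT : 2 ∣ T.index
  swap
  · exact S.all c y1 pT hT (fun t t2 => sol _ (c.nd3 t2)) t2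
  obtain ⟨P, TP⟩ := pT.exists_le_sylow
  obtain ⟨s, sP, sT, sN⟩ := H9.exists_mem_normalizer_of_lt P.isPGroup' (lt_of_le_of_ne TP fun e => P.not_dvd_index (e ▸ hT))
  have r15 : T.relIndex (normalizer (V : Set G)) = 15 := by have := H2.card_mul_relIndex TM; rw [cT, cM] at this; nlinarith
  have F : ∀ w ∈ V, w ≠ 1 → 15 ≤ {x | ∃ g ∈ normalizer (V : Set G), g * w * g⁻¹ = x}.ncard ∧
      {x | ∃ g ∈ normalizer (V : Set G), g * w * g⁻¹ = x} ⊆ (V : Set G) \ {1} := fun w hw w1 => by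
    refine ⟨?_, by rintro _ ⟨g, hg, rfl⟩; exact ⟨conj_mem_nN hg hw, by simpa using w1⟩⟩
    have e := H2.card_inf_mul_relIndex (centralizer {w}) (normalizer (V : Set G))
    have w2 : orderOf w = 2 := orderOf_eq_prime (by rw [pow_two, S.sq w hw]) w1
    rw [ncard_cls]
    refine Nat.le_of_dvd (H2.relIndex_pos _ _) ((by norm_num : Nat.Coprime 3 5).mul_dvd_of_dvd_of_dvd
      (((Nat.Prime.dvd_mul Nat.prime_three).1 (by rw [e, cM]; omega)).resolve_left fun e => c.nd3 w2 (e.trans (card_dvd_of_le inf_le_left)))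
      (((Nat.Prime.dvd_mul (by norm_num)).1 (by rw [e, cM]; omega)).resolve_left fun e => ?_))
    obtain ⟨f, hf, f5⟩ := H29.exists_orderOf_eq_mem (by norm_num) e
    have := congrArg Subtype.val (h.fpf c (f := ⟨f, hf.2⟩) (t := ⟨w, le_normalizer hw⟩) (hπ _ hw) (fun e => w1 (congrArg Subtype.val e))
      (Subtype.ext (mem_centralizer_singleton_iff.1 hf.1)) (by rw [← orderOf_coe, f5]; omega) (by rw [← orderOf_coe, f5]; omega))
    rw [show f = 1 from this] at f5; simp at f5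
  have cV : ((V : Set G) \ {1}).ncard = Nat.card V - 1 := Set.ncard_sdiff_singleton_of_mem V.one_mem
  have B : SB P T V y s := { S with
    pP := P.isPGroup', TP := TP, cT := cT, sP := sP, sT := sT, sN := sN, y1 := y1
    nP := fun r rP rV => by
      by_contra e
      have := H29.dvd_relIndex_of_lt (P.isPGroup'.to_inf_left (K := normalizer (V : Set G)))
        (lt_of_le_of_ne (le_inf TP TM) fun e' => e (e'.ge ⟨rP, rV⟩)) inf_le_right
      omega
    cZ := by
      obtain ⟨g, hg, e⟩ := a5c.2.2.2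
      obtain ⟨g, rfl⟩ := h.surj hg
      obtain ⟨u, hu⟩ := h.surj (a5b sA (.inr (.inl rfl))).1
      have uT := mT u (by simp [hu, mem_vA])
      have l : cjv (g : G) (V ⊓ centralizer (T : Set G)) ≤ V := by rintro _ ⟨x, hx, rfl⟩; exact conj_mem_nN g.2 hx.1
      have e1 := H2.card_sup_mul_card_inf (N := V ⊓ centralizer (T : Set G)) (H := cjv (g : G) (V ⊓ centralizer (T : Set G)))
        fun x hx => H9.mem_normalizer_of_conj_mem fun v hv => by rwa [S.comm x (l hx) v hv.1, mul_inv_cancel_right]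
      have e2 : V ⊓ centralizer (T : Set G) ⊓ cjv (g : G) (V ⊓ centralizer (T : Set G)) = ⊥ := eq_bot_iff.2 fun w hw => by
        have c2 := (H9.mem_map_conj.1 hw.2).2 u uT
        refine congrArg Subtype.val (h.fix3 c (r := u * (g * u * g⁻¹)) (w := ⟨w, le_normalizer hw.1.1⟩) (by simpa [hu] using e)
          (hπ _ hw.1.1) (Commute.mul_left (Subtype.ext (hw.1.2 u uT)) (Subtype.ext ?_)))
        calc (g : G) * u * (g : G)⁻¹ * w = g * (u * ((g : G)⁻¹ * w * g)) * (g : G)⁻¹ := by group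
          _ = w * (g * u * (g : G)⁻¹) := by rw [c2]; group
      rw [e2, card_bot, mul_one, H9.card_map_conj, ← pow_two] at e1
      exact e1 ▸ card_le_of_le (sup_le inf_le_left l)
    c16 := by
      obtain ⟨w, hw, w1⟩ := (bot_or_exists_ne_one V).resolve_left V1
      have := (F w hw w1).1.trans (Set.ncard_le_ncard (F w hw w1).2); omega }
  obtain rfl : 5 = q := by
    have := (card_subgroup_dvd_card (normalizer (V : Set G))).trans hG.dvd
    have := Nat.Coprime.dvd_of_dvd_mul_left (m := 9 * 2 ^ a) (Nat.Coprime.mul_right (by norm_num) (Nat.Coprime.pow_right _ (by norm_num)))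
      ((by rw [cM]; omega : 5 ∣ _).trans this)
    exact (Nat.prime_dvd_prime_iff_eq (by norm_num) hq).1 (Nat.Prime.dvd_of_dvd_pow (by norm_num) this)
  refine B.all c hG P.not_dvd_index (fun v hv v1 w hw w1 => ?_) t2
  obtain ⟨g, -, e⟩ := (Set.eq_of_subset_of_ncard_le (F v hv v1).2 (by have := (F v hv v1).1; have := B.cards.1; omega)).ge ⟨hw, w1⟩
  exact ⟨g, e⟩

end H6
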