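import Cfsg.Agent.H6.K3d
import Cfsg.Agent.H6.K3g
import Cfsg.Agent.H26.T2.End
import Cfsg.Agent.H2.LyF
import Cfsg.Agent.H2.IdD
import Cfsg.Agent.S3214
import Cfsg.Agent.S0243
import Cfsg.Agent.S0280
import Cfsg.Agent.S0497
/-! Simple `K3` groups with `C3`: order arithmetic for the groups of the `N₂`-list and of Gorenstein's list (`K3.c3`). -/
set_option autoImplicit false
open H7 Cfsg Subgroup Equiv
open scoped MatrixGroups
namespace H6

variable {G : Type*} [Group G] [Finite G] [IsSimpleGroup G] {q a b : ℕ} (h : K3 G q a b)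
include h

theorem K3.pr {p : ℕ} (hp : p.Prime) (p5 : 5 ≤ p) (d : p ∣ Nat.card G) : p = q := by
  rw [h.card, show 9 = 3 ^ 2 from rfl, hp.dvd_mul, hp.dvd_mul] at d
  rcases d with (d | d) | d
  · have := Nat.le_of_dvd (by norm_num) (hp.dvd_of_dvd_pow d); omega
  · have := Nat.le_of_dvd (by norm_num) (hp.dvd_of_dvd_pow d); omega
  · exact (Nat.prime_dvd_prime_iff_eq hp h.hq).1 (hp.dvd_of_dvd_pow d)

theorem K3.n27 : ¬ 27 ∣ Nat.card G := fun d => by
  rw [h.card, mul_assoc, show 27 = 9 * 3 from rfl, Nat.mul_dvd_mul_iff_left (by norm_num), Nat.prime_three.dvd_mul] at d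
  rcases d with d | d
  · have := Nat.prime_three.dvd_of_dvd_pow d; omega
  · exact h.q3 ((Nat.prime_dvd_prime_iff_eq Nat.prime_three h.hq).1 (Nat.prime_three.dvd_of_dvd_pow d)).symm

theorem K3.d9 : 9 ∣ Nat.card G := by rw [h.card, mul_assoc]; exact dvd_mul_right _ _

theorem K3.con {d : ℕ} (h1 : d ∣ 2 * Nat.card G) (h2 : d + 1 ∣ 2 * Nat.card G) (h3 : d % 3 = 1) (d1 : d ≠ 1) : d = 4 ∨ d = 7 ∨ d = 16 := by
  have e : 2 * Nat.card G = 9 * 2 ^ (a + 1) * q ^ b := by rw [h.card]; ring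
  have := h.cases
  rcases consec h.hq h.q2 (e ▸ h1) (e ▸ h2) h3 d1 with ⟨e, i, hi⟩ | ⟨e, -⟩
  · by_contra
    have := (by norm_num : Nat.Prime 7).dvd_of_dvd_pow (hi ▸ (by omega : 7 ∣ d + 1)); omega
  · omega

theorem K3.l2 {F : Type} [Field F] [Fintype F] (h4 : 4 ≤ Fintype.card F) (e : G ≃* PSL(2, F)) :
    Nonempty (G ≃* alternatingGroup (Fin 6)) ∨ L817 G := by
  have c := H10.card_PSL2 (F := F)
  rw [← Nat.card_congr e.toEquiv] at c
  have d : Fintype.card F * (Fintype.card F - 1) * (Fintype.card F + 1) ∣ 2 * Nat.card G :=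
    c ▸ Nat.mul_dvd_mul_right (Nat.gcd_dvd_left _ _) _
  have d1 := ((dvd_mul_right _ _).mul_right _).trans d
  have d2 := ((dvd_mul_left _ _).mul_right _).trans d
  have d3 := (dvd_mul_left _ _).trans d
  have d9 := h.d9
  have : Fintype.card F % 3 = 0 ∨ Fintype.card F % 3 = 1 ∨ Fintype.card F % 3 = 2 := by omega
  rcases this with r | r | r
  · obtain ⟨p, _, n, hp, hn⟩ := FiniteField.card' F
    obtain rfl : 3 = p := (Nat.prime_dvd_prime_iff_eq Nat.prime_three hp).1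
      (Nat.prime_three.dvd_of_dvd_pow (hn ▸ Nat.dvd_of_mod_eq_zero r))
    have n3 : (n : ℕ) < 3 := by
      by_contra! e
      exact h.n27 (Nat.Coprime.dvd_of_dvd_mul_left (by norm_num) ((pow_dvd_pow 3 e).trans (hn ▸ d1)))
    have : Fintype.card F = 9 := by generalize (n : ℕ) = k at *; interval_cases k <;> omega
    rw [this] at c
    exact .inl (Cfsg.Agent.S0497.result (by norm_num at c; omega))
  · rcases h.con d1 d3 r (by omega) with e | e | e <;> rw [e] at c <;> norm_num at c <;> omega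
  · rcases h.con d2 (by rwa [Nat.sub_add_cancel (by omega)]) (by omega) (by omega) with e' | e' | e'
    · rw [show Fintype.card F = 5 by omega] at c; norm_num at c; omega
    · exact .inr (.inl ⟨F, _, _, by omega, ⟨e⟩⟩)
    · have : Fact (Nat.Prime 17) := ⟨by norm_num⟩
      rw [show Fintype.card F = 17 by omega] at c
      exact .inr (.inr (Cfsg.Agent.S1020.result (F := ZMod 17) (by norm_num at c; omega) (ZMod.card 17)))

theorem K3.u3 {F : Type} [Field F] [Fintype F] {r : ℕ} (hF : Fintype.card F = r ^ 2) (hr : r = 3 ∨ ∃ n, 2 ≤ n ∧ r = 2 ^ n)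
    (e : G ≃* PSU 3 F r) : False := by
  have c := Cfsg.Agent.S0280.result hF 3 (by norm_num)
  rw [← Nat.card_congr e.toEquiv] at c
  simp only [Finset.prod_range_succ, Finset.prod_range_zero] at c
  norm_num at c
  have d9 := h.d9
  have n27 := h.n27
  rcases hr with rfl | ⟨n, n2, hn⟩
  · norm_num at c; omega
  have r4 : 4 ∣ r := hn ▸ pow_dvd_pow 2 n2
  have r3 : ¬ 3 ∣ r := fun e => by have := Nat.prime_three.dvd_of_dvd_pow (hn ▸ e); omega
  have r0 : 0 < r := hn ▸ Nat.pos_of_ne_zero (by positivity)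
  obtain ⟨k, rfl⟩ : ∃ k, r = k + 1 := ⟨r - 1, by omega⟩
  rw [show (k + 1) ^ 2 - 1 = k * (k + 1 + 1) by rw [Nat.sub_eq_iff_eq_add (Nat.one_le_pow _ _ r0)]; ring] at c
  have c' : Nat.gcd 3 (k + 1 + 1) * Nat.card G = (k + 1) ^ 3 * (k * (k + 1 + 1) * ((k + 1) ^ 3 + 1)) :=
    Nat.eq_of_mul_eq_mul_left (by omega : 0 < k + 1 + 1) (by linarith)
  have dv : ∀ d, ¬ 3 ∣ d → d ∣ (k + 1) ^ 3 * (k * (k + 1 + 1) * ((k + 1) ^ 3 + 1)) → d ∣ 2 * Nat.card G := fun d d3 hd =>
    (Nat.Coprime.dvd_of_dvd_mul_left (Nat.Coprime.coprime_dvd_right (Nat.gcd_dvd_left _ _)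
      ((Nat.Prime.coprime_iff_not_dvd Nat.prime_three).2 d3).symm) (c' ▸ hd)).mul_left _
  have d1 := dv _ r3 ((dvd_pow_self _ (by norm_num)).mul_right _)
  have : (k + 1) % 3 = 1 ∨ k % 3 = 1 := by omega
  rcases this with r | r
  · rcases h.con d1 (dv _ (by omega) (((dvd_mul_left _ _).mul_right _).mul_left _)) r (by omega) with e | e | e
    · obtain rfl : k = 3 := by omega
      norm_num at c'; omega
    · omega
    · obtain rfl : k = 15 := by omega
      norm_num at c'; omega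
  · rcases h.con (dv _ (by omega) (((dvd_mul_right _ _).mul_right _).mul_left _)) d1 r (by omega) with e | e | e
    · omega
    · subst e; norm_num at c'; omega
    · omega

theorem K3.c3 (c : C3 G) : Nonempty (G ≃* alternatingGroup (Fin 6)) ∨ L817 G := by
  have n27 := h.n27
  have sz : ¬ Lie.IsoSuzuki G := fun e => H2.sz_three e ((by norm_num : 3 ∣ 9).trans h.d9)
  have p2 : ∀ p : ℕ, p.Prime → 5 < p → 5 * p ∣ Nat.card G → False := fun p hp p5 d => by
    have := h.pr (by norm_num) le_rfl ((dvd_mul_right _ _).trans d)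
    have := h.pr hp p5.le ((dvd_mul_left _ _).trans d)
    omega
  have a7 : ¬ Nonempty (G ≃* alternatingGroup (Fin 7)) := fun ⟨e⟩ => p2 7 (by norm_num) (by norm_num) (by
    rw [Nat.card_congr e.toEquiv, nat_card_alternatingGroup]; simp [Nat.factorial])
  rcases c.two h.hq h.card with k | k
  · rcases H26.ng2_class (G := G) ⟨‹_›, h.nc, fun ⟨T, h1, h2, e⟩ => e ▸ k T h1 h2⟩ with
      ⟨F, _, _, h1, ⟨e⟩⟩ | (⟨F, _, _, ⟨n, h1, h2⟩, ⟨e⟩⟩ | e | ⟨F, _, _, n, h1, h2, ⟨e⟩⟩) | ⟨⟨e⟩⟩ | ⟨F, _, _, h1, ⟨e⟩⟩ | e | e | ⟨e, -⟩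
    · exact h.l2 h1 e
    · exact h.l2 (h2 ▸ Nat.pow_le_pow_right (n := 2) (by norm_num) h1) e
    · exact absurd e sz
    · exact (h.u3 h2 (.inr ⟨n, h1, rfl⟩) e).elim
    · rw [Nat.card_congr e.toEquiv, H2.Id.card_L33] at n27; omega
    · exact (h.u3 (r := 3) h1 (.inl rfl) e).elim
    · exact absurd e a7
    · exact (p2 11 (by norm_num) (by norm_num) (by omega)).elim
    · omega
  · rcases Cfsg.Agent.S3214.result h.nc k with ⟨F, _, _, h1, ⟨e⟩⟩ | e | e | ⟨F, _, _, h1, ⟨e⟩⟩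
    · exact h.l2 h1 e
    · exact absurd e sz
    · exact absurd e a7
    · have c := Cfsg.Agent.S0243.result h1 3 (by norm_num)
      rw [← Nat.card_congr e.toEquiv] at c
      simp [Fin.prod_univ_three] at c
      exact (p2 7 (by norm_num) (by norm_num) (by omega)).elim

end H6
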