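import Cfsg.Agent.H6.OcDef
import Cfsg.Agent.H9.Dihedral

/-! The point-line geometry of a group with `Oc` (points = conjugates of `z`, lines = conjugates of `V`):
conjugation invariant forms of the local facts. -/

set_option autoImplicit false
set_option linter.unusedSectionVars false

namespace H6.Oct

open Subgroup

variable {G : Type*} [Group G]

/-- conjugation -/
def cn (g x : G) : G := g * x * g⁻¹

theorem cn_mul (g a b : G) : cn g a * cn g b = cn g (a * b) := by unfold cn; group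
theorem cn_inj (g a b : G) : cn g a = cn g b ↔ a = b := by simp [cn]
theorem cn_eq_one (g a : G) : cn g a = 1 ↔ a = 1 := by simp [cn]
theorem cn_cn (g k a : G) : cn g (cn k a) = cn (g * k) a := by unfold cn; group
theorem cn_cn_cn (g s a : G) : cn (cn g s) (cn g a) = cn g (cn s a) := by unfold cn; group
theorem cn_one (a : G) : cn 1 a = a := by simp [cn]
theorem cn_one' (g : G) : cn g 1 = 1 := by simp [cn]
theorem cn_inv_cn (g a : G) : cn g⁻¹ (cn g a) = a := by unfold cn; group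
theorem cn_cn_inv (g a : G) : cn g (cn g⁻¹ a) = a := by unfold cn; group
theorem cn_surj (g x : G) : ∃ x', cn g x' = x := ⟨_, cn_cn_inv g x⟩
theorem cn_eq_iff {g a : G} : cn g a = a ↔ g * a = a * g := by unfold cn; exact mul_inv_eq_iff_eq_mul
theorem cn_comm {g a : G} (h : cn g a = a) : cn a g = g := cn_eq_iff.2 (cn_eq_iff.1 h).symm
theorem cn_self (a : G) : cn a a = a := cn_eq_iff.2 rfl
theorem cn_pow (g a : G) (n : ℕ) : cn g a ^ n = cn g (a ^ n) := conj_pow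
theorem cn_fix_mul {g k a : G} (h1 : cn g a = a) (h2 : cn k a = a) : cn (g * k) a = a := by rw [← cn_cn, h2, h1]
theorem cn_fix_pow {g a : G} (h : cn g a = a) (n : ℕ) : cn (g ^ n) a = a := by
  induction n with
  | zero => rw [pow_zero, cn_one]
  | succ n ih => rw [pow_succ]; exact cn_fix_mul ih h
theorem cn_cn_sq {g : G} (h : g * g = 1) (a : G) : cn g (cn g a) = a := by rw [cn_cn, h, cn_one]

/-- `x` lies in the four-group `⟨a, b⟩` -/
def L (a b x : G) : Prop := x = 1 ∨ x = a ∨ x = b ∨ x = a * b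

/-- `g` fixes the point `a` and the line through `a`, `b` -/
def Fl (a b g : G) : Prop := cn g a = a ∧ (cn g b = b ∨ cn g b = a * b)

theorem L_cn (g a b x : G) : L (cn g a) (cn g b) (cn g x) ↔ L a b x := by
  simp only [L, cn_mul, cn_inj, cn_eq_one]
theorem Fl_cn (g a b x : G) : Fl (cn g a) (cn g b) (cn g x) ↔ Fl a b x := by
  simp only [Fl, cn_cn_cn, cn_mul, cn_inj]
theorem L1 (a b : G) : L a b 1 := .inl rfl
theorem La (a b : G) : L a b a := .inr (.inl rfl)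
theorem Lb (a b : G) : L a b b := .inr (.inr (.inl rfl))
theorem Lab (a b : G) : L a b (a * b) := .inr (.inr (.inr rfl))

/-- the data -/
structure OD (G : Type*) [Group G] where
  z : G
  y : G
  S : Subgroup G
  Q : Subgroup G
  V : Subgroup G
  I : Subgroup G
  h : Oc z y S Q V I

namespace OD

/-- points -/
def P (o : OD G) (a : G) : Prop := ∃ g, cn g o.z = a
/-- collinear points -/
def C (o : OD G) (a b : G) : Prop := ∃ g, cn g o.z = a ∧ cn g o.y = b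
/-- `q` fixes all lines through `a` -/
def Qa (o : OD G) (a q : G) : Prop := cn q a = a ∧ ∀ b, o.C a b → Fl a b q
/-- `w ∈ I(l)` -/
def In (o : OD G) (a b w : G) : Prop := ∃ g, cn g o.z = a ∧ cn g o.y = b ∧ cn g⁻¹ w ∈ o.I
/-- `w ∈ I(l) \ l` -/
def Tl (o : OD G) (a b w : G) : Prop := o.In a b w ∧ ¬ L a b w
/-- two steps along different lines -/
def T (o : OD G) (a b c : G) : Prop := o.C a b ∧ o.C b c ∧ ¬ L a b c

variable {o : OD G} {a b c d a' b' g w w' x x' : G}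

theorem P.cn (h : o.P a) (g : G) : o.P (cn g a) := let ⟨k, e⟩ := h; ⟨g * k, by rw [← cn_cn, e]⟩
theorem C.cn (h : o.C a b) (g : G) : o.C (cn g a) (cn g b) :=
  let ⟨k, e, e'⟩ := h; ⟨g * k, by rw [← cn_cn, e], by rw [← cn_cn, e']⟩
theorem In.cn (h : o.In a b w) (g : G) : o.In (cn g a) (cn g b) (cn g w) :=
  let ⟨k, e, e', m⟩ := h; ⟨g * k, by rw [← cn_cn, e], by rw [← cn_cn, e'], by
    rwa [cn_cn, mul_inv_rev, inv_mul_cancel_right]⟩
theorem P_cn (g a : G) : o.P (cn g a) ↔ o.P a := ⟨fun h => by simpa only [cn_inv_cn] using h.cn g⁻¹, (·.cn g)⟩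
theorem C_cn (g a b : G) : o.C (cn g a) (cn g b) ↔ o.C a b :=
  ⟨fun h => by simpa only [cn_inv_cn] using h.cn g⁻¹, (·.cn g)⟩
theorem In_cn (g a b w : G) : o.In (cn g a) (cn g b) (cn g w) ↔ o.In a b w :=
  ⟨fun h => by simpa only [cn_inv_cn] using h.cn g⁻¹, (·.cn g)⟩
theorem Qa.cn (h : o.Qa a x) (g : G) : o.Qa (cn g a) (cn g x) := ⟨by rw [cn_cn_cn, h.1], fun b hb => by
  obtain ⟨b, rfl⟩ := cn_surj g b
  exact (Fl_cn ..).2 (h.2 b ((C_cn ..).1 hb))⟩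
theorem Qa_cn (g a x : G) : o.Qa (cn g a) (cn g x) ↔ o.Qa a x :=
  ⟨fun h => by simpa only [cn_inv_cn] using h.cn g⁻¹, (·.cn g)⟩
theorem Tl.cn (h : o.Tl a b w) (g : G) : o.Tl (cn g a) (cn g b) (cn g w) := ⟨h.1.cn g, by rw [L_cn]; exact h.2⟩
theorem T.cn (h : o.T a b c) (g : G) : o.T (cn g a) (cn g b) (cn g c) :=
  ⟨h.1.cn g, h.2.1.cn g, by rw [L_cn]; exact h.2.2⟩

theorem C0 (o : OD G) : o.C o.z o.y := ⟨1, cn_one _, cn_one _⟩
theorem P0 (o : OD G) : o.P o.z := ⟨1, cn_one _⟩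
theorem memV : x ∈ o.V ↔ L o.z o.y x := o.h.memV x
theorem In.C (h : o.In a b w) : o.C a b := let ⟨g, e, e', _⟩ := h; ⟨g, e, e'⟩
theorem C.P (h : o.C a b) : o.P a := let ⟨g, e, _⟩ := h; ⟨g, e⟩
theorem P.exC (h : o.P a) : ∃ b, o.C a b := let ⟨g, e⟩ := h; ⟨_, g, e, rfl⟩

theorem C.symm (h : o.C a b) : o.C b a := by
  obtain ⟨g, rfl, rfl⟩ := h
  exact C.cn o.h.swap g
theorem C.turn (h : o.C a b) : o.C a (a * b) := by
  obtain ⟨g, rfl, rfl⟩ := h
  rw [cn_mul]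
  exact C.cn o.h.turn g
theorem P.ne1 (h : o.P a) : a ≠ 1 := by
  obtain ⟨g, rfl⟩ := h
  exact fun e => o.h.z1 ((cn_eq_one ..).1 e)
theorem P.sq (h : o.P a) : a * a = 1 := by
  obtain ⟨g, rfl⟩ := h
  rw [cn_mul, cn_eq_one]
  exact o.h.sqI _ (o.h.VI (memV.2 (La ..)))
theorem C.P' (h : o.C a b) : o.P b := h.symm.P
theorem C.ne (h : o.C a b) : a ≠ b := by
  obtain ⟨g, rfl, rfl⟩ := h
  exact fun e => o.h.yz ((cn_inj ..).1 e).symm
theorem C.comm (h : o.C a b) : b * a = a * b := by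
  have h1 := h.P.sq
  have h2 := h.P'.sq
  have h3 := h.turn.P'.sq
  calc b * a = b * a * (a * b * (a * b)) := by rw [h3, mul_one]
    _ = b * (a * a) * b * (a * b) := by group
    _ = a * b := by rw [h1, mul_one, h2, one_mul]
theorem C.e1 (h : o.C a b) : a * (a * b) = b := by rw [← mul_assoc, h.P.sq, one_mul]
theorem C.e2 (h : o.C a b) : b * (a * b) = a := by rw [← h.comm]; exact h.symm.e1
theorem C.e3 (h : o.C a b) : a * b * a = b := by rw [mul_assoc, h.comm, h.e1]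
theorem C.e4 (h : o.C a b) : a * b * b = a := by rw [mul_assoc, h.P'.sq, mul_one]
theorem C.turn' (h : o.C a b) : o.C (a * b) b := by rw [← h.comm]; exact h.symm.turn.symm
theorem C.cn_eq (h : o.C a b) : Oct.cn a b = b := cn_eq_iff.2 h.comm.symm

theorem C.L_mul (h : o.C a b) (h1 : L a b x) (h2 : L a b x') : L a b (x * x') := by
  obtain ⟨g, rfl, rfl⟩ := h
  obtain ⟨x, rfl⟩ := cn_surj g x
  obtain ⟨x', rfl⟩ := cn_surj g x'
  rw [cn_mul]
  rw [L_cn, ← memV] at *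
  exact o.V.mul_mem h1 h2

theorem C.L_of (h : o.C a b) (h1 : L a b a') (h2 : L a b b') (h3 : L a' b' x) : L a b x := by
  rcases h3 with rfl | rfl | rfl | rfl
  exacts [L1 .., h1, h2, h.L_mul h1 h2]

theorem C.L_rev (h : o.C a b) (h' : o.C a' b') (h1 : L a b a') (h2 : L a b b') : L a' b' a ∧ L a' b' b := by
  have n1 := h'.P.ne1
  have n2 := h'.P'.ne1
  have n3 := h'.ne
  rcases h1 with rfl | rfl | rfl | rfl <;> rcases h2 with rfl | rfl | rfl | rfl <;>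
    simp_all [L, h.e1, h.e2, h.e3, h.e4]

theorem C.L_iff (h : o.C a b) (h' : o.C a' b') (h1 : L a b a') (h2 : L a b b') : L a' b' x ↔ L a b x :=
  ⟨h.L_of h1 h2, h'.L_of (h.L_rev h' h1 h2).1 (h.L_rev h' h1 h2).2⟩
theorem C.L_symm (h : o.C a b) : L b a x ↔ L a b x := h.L_iff h.symm (Lb ..) (La ..)
theorem C.L_turn (h : o.C a b) : L a (a * b) x ↔ L a b x := h.L_iff h.turn (La ..) (Lab ..)
theorem C.L_turn' (h : o.C a b) : L (a * b) b x ↔ L a b x := h.L_iff h.turn' (Lab ..) (Lb ..)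

theorem C.P_of_L (h : o.C a b) (h1 : L a b x) (n : x ≠ 1) : o.P x := by
  rcases h1 with rfl | rfl | rfl | rfl
  exacts [(n rfl).elim, h.P, h.P', h.turn.P']

/-- two distinct points of a line are collinear -/
theorem C.C_of_L (h : o.C a b) (h1 : L a b x) (h2 : L a b x') (n : x ≠ 1) (n' : x' ≠ 1) (e : x ≠ x') : o.C x x' := by
  rcases h1 with rfl | rfl | rfl | rfl <;> rcases h2 with rfl | rfl | rfl | rfl <;>
    first | exact (n rfl).elim | exact (n' rfl).elim | exact (e rfl).elim | skip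
  exacts [h, h.turn, h.symm, h.turn'.symm, h.turn.symm, h.turn']

theorem T.symm (h : o.T a b c) : o.T c b a :=
  ⟨h.2.1.symm, h.1.symm, fun e => h.2.2 (h.2.1.symm.L_rev h.1 e (Lb ..)).1⟩
theorem T.chg (h : o.T a b c) (h' : o.C a' b) (l : L a b a') : o.T a' b c :=
  ⟨h', h.2.1, fun e => h.2.2 ((h.1.L_iff h' l (Lb ..)).1 e)⟩
theorem T.turn (h : o.T a b c) : o.T (a * b) b c := h.chg h.1.turn' (Lab ..)
theorem T.turn' (h : o.T a b c) : o.T a b (b * c) := by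
  rw [← h.2.1.comm]; exact h.symm.turn.symm

theorem C.Fl_L (h : o.C a b) : Fl a b g ↔ Oct.cn g a = a ∧ L a b (Oct.cn g b) := by
  refine ⟨fun f => ⟨f.1, .inr (.inr f.2)⟩, fun ⟨e, l⟩ => ⟨e, ?_⟩⟩
  rcases l with l | l | l
  · exact (h.P'.ne1 ((cn_eq_one ..).1 l)).elim
  · exact (h.ne ((cn_inj g ..).1 (e.trans l.symm))).elim
  · exact l
theorem C.Fl_map (h : o.C a b) (f : Fl a b g) (l : L a b x) : L a b (Oct.cn g x) :=
  h.L_of (f.1.symm ▸ La ..) (h.Fl_L.1 f).2 ((L_cn ..).2 l)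
theorem C.Fl_chg (h : o.C a b) (h' : o.C a b') (l : L a b b') (f : Fl a b g) : Fl a b' g :=
  h'.Fl_L.2 ⟨f.1, (h.L_iff h' (La ..) l).2 (h.Fl_map f l)⟩
theorem C.Fl_mul (h : o.C a b) (f : Fl a b g) (f' : Fl a b x) : Fl a b (g * x) :=
  h.Fl_L.2 ⟨cn_fix_mul f.1 f'.1, by rw [← cn_cn]; exact h.Fl_map f (h.Fl_L.1 f').2⟩
theorem Qa.mul (h : o.Qa a x) (h' : o.Qa a x') : o.Qa a (x * x') :=
  ⟨cn_fix_mul h.1 h'.1, fun b hb => hb.Fl_mul (h.2 b hb) (h'.2 b hb)⟩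
theorem Fl_of (h1 : cn g a = a) (h2 : cn g b = b) : Fl a b g := ⟨h1, .inl h2⟩

variable [Finite G]

theorem memN : g ∈ normalizer (o.V : Set G) ↔ L o.z o.y (cn g o.z) ∧ L o.z o.y (cn g o.y) := by
  refine ⟨fun h => ⟨memV.1 ((mem_normalizer_iff.1 h _).1 (memV.2 (La ..))),
    memV.1 ((mem_normalizer_iff.1 h _).1 (memV.2 (Lb ..)))⟩, fun h => mem_normalizer_fintype fun n hn => ?_⟩
  exact memV.2 (o.C0.L_of h.1 h.2 ((L_cn ..).2 (memV.1 hn)))

theorem memS : x ∈ o.S ↔ Fl o.z o.y x := by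
  rw [o.h.memS, memN, o.C0.Fl_L, ← cn_eq_iff]
  exact ⟨fun h => ⟨h.1, h.2.2⟩, fun h => ⟨h.1, h.1.symm ▸ La .., h.2⟩⟩

theorem memQ : x ∈ o.Q ↔ o.Qa o.z x := by
  constructor
  · intro h
    have e : cn x o.z = o.z := by
      have e0 : cn x o.z * cn x o.y = cn x (o.z * o.y) := cn_mul ..
      have n := fun e => o.h.z1 ((cn_eq_one x o.z).1 e)
      rcases o.h.fixQ x h _ o.C0 with e1 | e1 <;> rcases o.h.fixQ x h _ o.C0.turn with e2 | e2 <;>
        change cn x _ = _ at e1 e2 <;> rw [e1, e2] at e0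
      · exact mul_right_cancel e0
      · rw [o.C0.e1] at e0; exact (n (mul_eq_right.1 e0)).elim
      · exact (n (mul_eq_right.1 e0)).elim
      · exact mul_right_cancel e0
    exact ⟨e, fun b hb => ⟨e, o.h.fixQ x h b hb⟩⟩
  · intro h
    by_contra n
    have : {b | Col o.z o.y o.z b} ⊆ {1, o.z, o.y, o.z * o.y} := fun b hb =>
      memV.1 (o.h.frob x (memS.2 (h.2 _ o.C0)) n b hb (h.2 b hb).2)
    have h1 := Set.ncard_le_ncard this
    have h2 := Set.ncard_insert_le 1 {o.z, o.y, o.z * o.y}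
    have h3 := Set.ncard_insert_le o.z {o.y, o.z * o.y}
    have h4 := Set.ncard_insert_le o.y {o.z * o.y}
    rw [o.h.ten] at h1
    rw [Set.ncard_singleton] at h4
    omega

theorem memI_N (hg : g ∈ normalizer (o.V : Set G)) : cn g w ∈ o.I ↔ w ∈ o.I :=
  (mem_normalizer_iff.1 (o.h.NI hg) w).symm

theorem In.chg (h : o.In a b w) (h' : o.C a' b') (l1 : L a b a') (l2 : L a b b') : o.In a' b' w := by
  obtain ⟨g, rfl, rfl, m⟩ := h
  obtain ⟨k, rfl, rfl⟩ := h'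
  refine ⟨k, rfl, rfl, ?_⟩
  have : g⁻¹ * k ∈ normalizer (o.V : Set G) := by
    rw [memN, ← cn_cn, ← cn_cn, ← L_cn g, ← L_cn g o.z o.y (Oct.cn _ (Oct.cn _ o.y)), cn_cn_inv, cn_cn_inv]
    exact ⟨l1, l2⟩
  rwa [← memI_N this, cn_cn, mul_inv_cancel_right]

theorem memI : w ∈ o.I ↔ o.In o.z o.y w := by
  refine ⟨fun h => ⟨1, cn_one _, cn_one _, by rwa [inv_one, cn_one]⟩, fun ⟨g, e, e', m⟩ => ?_⟩
  have : g ∈ normalizer (o.V : Set G) := memN.2 ⟨e.symm ▸ La .., e'.symm ▸ Lb ..⟩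
  exact (memI_N (inv_mem this)).1 m

theorem In.symm (h : o.In a b w) : o.In b a w := h.chg h.C.symm (Lb ..) (La ..)
theorem Tl.chg (h : o.Tl a b w) (h' : o.C a' b') (l1 : L a b a') (l2 : L a b b') : o.Tl a' b' w :=
  ⟨h.1.chg h' l1 l2, fun e => h.2 ((h.1.C.L_iff h' l1 l2).1 e)⟩
theorem Tl.symm (h : o.Tl a b w) : o.Tl b a w := h.chg h.1.C.symm (Lb ..) (La ..)

theorem C.In_of_L (h : o.C a b) (l : L a b x) : o.In a b x := by
  obtain ⟨g, rfl, rfl⟩ := h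
  obtain ⟨x, rfl⟩ := cn_surj g x
  rw [In_cn, ← memI]
  exact o.h.VI (memV.2 ((L_cn ..).1 l))

theorem In.sq (h : o.In a b w) : w * w = 1 := by
  obtain ⟨g, -, -, m⟩ := h
  have := o.h.sqI _ m
  rwa [cn_mul, cn_eq_one] at this

theorem In.mul (h : o.In a b w) (h' : o.In a b w') : o.In a b (w * w') := by
  obtain ⟨g, rfl, rfl⟩ := h.C
  obtain ⟨w, rfl⟩ := cn_surj g w
  obtain ⟨w', rfl⟩ := cn_surj g w'
  rw [cn_mul]
  rw [In_cn, ← memI] at *
  exact o.I.mul_mem h h'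

theorem C.exTl (h : o.C a b) : ∃ w, o.Tl a b w := by
  obtain ⟨g, rfl, rfl⟩ := h
  obtain ⟨w, m, n⟩ := o.h.exI
  exact ⟨_, Tl.cn ⟨memI.1 m, fun e => n (memV.2 e)⟩ g⟩

theorem Tl.two (h : o.Tl a b w) (h' : o.Tl a b w') : L a b (w * w') := by
  obtain ⟨g, rfl, rfl⟩ := h.1.C
  obtain ⟨w, rfl⟩ := cn_surj g w
  obtain ⟨w', rfl⟩ := cn_surj g w'
  simp only [Tl, cn_mul, In_cn, L_cn, ← memI, ← memV] at *
  exact o.h.two _ h.1 _ h'.1 h.2 h'.2

theorem Tl.mul (h : o.Tl a b w) (l : L a b x) : o.Tl a b (w * x) := ⟨h.1.mul (h.1.C.In_of_L l), fun e => h.2 (by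
  have := h.1.C.L_mul e l
  rwa [mul_assoc, (h.1.C.In_of_L l).sq, mul_one] at this)⟩

/-- `U(a)` is abelian -/
theorem In.comm (h : o.In a b w) (h' : o.In a b' w') : Oct.cn w w' = w' := by
  obtain ⟨g, rfl, rfl, m⟩ := h
  obtain ⟨k, e, rfl, m'⟩ := h'
  have := o.h.abU (g⁻¹ * k) (cn_eq_iff.1 (by rw [← cn_cn, e, cn_inv_cn])) _ m _ m'
  change _ * Oct.cn _ _ = Oct.cn _ _ * _ at this
  rwa [cn_cn, mul_inv_cancel_right, cn_mul, cn_mul, cn_inj, ← cn_eq_iff] at this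

theorem In.fix (h : o.In a b w) (h' : o.C a c) : Oct.cn w c = c := h.comm (h'.In_of_L (Lb ..))
theorem In.fixa (h : o.In a b w) : Oct.cn w a = a := h.comm (h.C.In_of_L (La ..))
theorem In.Qa (h : o.In a b w) : o.Qa a w := ⟨h.fixa, fun _ hc => Fl_of h.fixa (h.fix hc)⟩
theorem C.Qa (h : o.C a b) : o.Qa a b := (h.In_of_L (Lb ..)).Qa

theorem Tl.npt (h : o.Tl a b w) : ¬ o.P w := fun ⟨k, e⟩ => by
  obtain ⟨⟨g, rfl, rfl, m⟩, n⟩ := h
  refine o.h.npt _ m (fun e => n ?_) (isConj_iff.2 ⟨g⁻¹ * k, ?_⟩)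
  · rwa [memV, ← L_cn g, cn_cn_inv] at e
  · exact (cn_cn ..).symm.trans (by rw [e])

/-- an element of `I(l) \ l` determines `l` -/
theorem Tl.line (h : o.Tl a b w) (h' : o.In a' b' w) : L a b a' ∧ L a b b' := by
  obtain ⟨⟨g, rfl, rfl, m⟩, n⟩ := h
  obtain ⟨k, rfl, rfl, m'⟩ := h'
  have := o.h.line _ m (fun e => n (by rwa [memV, ← L_cn g, cn_cn_inv] at e)) (k⁻¹ * g)
    (by change Oct.cn _ _ ∈ _; rwa [cn_cn, mul_inv_cancel_right])
  have := memN.1 (inv_mem this)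
  rwa [mul_inv_rev, inv_inv, ← cn_cn, ← cn_cn, ← L_cn g, ← L_cn g o.z o.y (Oct.cn _ (Oct.cn _ o.y)), cn_cn_inv,
    cn_cn_inv] at this

theorem Tl.norm (h : o.Tl a b w) (e : Oct.cn g w = w) : L a b (Oct.cn g a) ∧ L a b (Oct.cn g b) :=
  h.line (e ▸ h.1.cn g)

theorem C.frob (h : o.C a b) (h' : o.C a b') (f : Fl a b x) (f' : Fl a b' x) (n : ¬ L a b b') : o.Qa a x := by
  obtain ⟨g, rfl, rfl⟩ := h
  obtain ⟨x, rfl⟩ := cn_surj g x
  obtain ⟨b', rfl⟩ := cn_surj g b'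
  simp only [Fl_cn, C_cn, L_cn, Qa_cn, ← memV, ← memQ] at *
  by_contra k
  exact n (o.h.frob x (memS.2 f) k b' h' f'.2)

theorem C.cyc (h : o.C a b) (f : Fl a b x) (f' : Fl a b x') (e : x * x = 1) (e' : x' * x' = 1) :
    o.Qa a x ∨ o.Qa a x' ∨ o.Qa a (x * x') := by
  obtain ⟨g, rfl, rfl⟩ := h
  obtain ⟨x, rfl⟩ := cn_surj g x
  obtain ⟨x', rfl⟩ := cn_surj g x'
  simp only [Fl_cn, cn_mul, cn_eq_one, Qa_cn, ← memS, ← memQ] at *
  exact o.h.cyc x f x' f' e e'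

theorem T.far (h : o.T a b c) : ¬ o.Qa a c := by
  obtain ⟨⟨g, rfl, rfl⟩, h, n⟩ := h
  obtain ⟨c, rfl⟩ := cn_surj g c
  simp only [C_cn, L_cn, Qa_cn, ← memV, ← memQ] at *
  exact o.h.far c h n

theorem T.fix (h : o.T a b c) : Oct.cn c a = a := (h.2.1.In_of_L (Lb ..)).fix h.1.symm
theorem T.fl (h : o.T a b c) : Fl a b c := Fl_of h.fix h.2.1.symm.cn_eq

theorem T.d3 (h : o.T a b c) (h' : o.T b c d) : o.Tl b c (a * d * (a * d)) := by
  obtain ⟨⟨g, rfl, rfl⟩, h', n'⟩ := h'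
  obtain ⟨-, h, n⟩ := h.symm
  obtain ⟨a, rfl⟩ := cn_surj g a
  obtain ⟨d, rfl⟩ := cn_surj g d
  simp only [Tl, cn_mul, In_cn, C_cn, L_cn, o.C0.L_symm, ← memV, ← memI] at *
  exact o.h.d3 a d h n h' n'

theorem P.inv (h : o.P a) (e : x * x = 1) (f : Oct.cn x a = a) : ∃ p q, (p = a ∨ o.C a p) ∧ o.In p q x := by
  obtain ⟨g, rfl⟩ := h
  obtain ⟨x, rfl⟩ := cn_surj g x
  rw [cn_mul, cn_eq_one] at e
  rw [cn_cn_cn, cn_inj] at f
  obtain ⟨k, h, m⟩ := o.h.inv x e (cn_eq_iff.1 f)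
  refine ⟨_, _, ?_, In.cn ⟨k, rfl, rfl, by simpa [Oct.cn] using m⟩ g⟩
  rw [cn_inj, C_cn]
  exact h

theorem P.no3 (h : o.P a) (e : x ^ 3 = 1) (f : Oct.cn x a = a) : x = 1 := by
  obtain ⟨g, rfl⟩ := h
  obtain ⟨x, rfl⟩ := cn_surj g x
  rw [cn_pow, cn_eq_one] at e
  rw [cn_cn_cn, cn_inj] at f
  rw [cn_eq_one]
  by_contra n
  have : Fact (Nat.Prime 3) := ⟨Nat.prime_three⟩
  have m : x ∈ centralizer ({o.z} : Set G) := mem_centralizer_singleton_iff.2 (cn_eq_iff.1 f)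
  exact o.h.no3 (orderOf_eq_prime e n ▸ orderOf_dvd_natCard _ m)

theorem C.two (h : o.C a b) (f : Fl a b x) : ∃ k : ℕ, x ^ 2 ^ k = 1 := by
  obtain ⟨g, rfl, rfl⟩ := h
  obtain ⟨x, rfl⟩ := cn_surj g x
  rw [Fl_cn, ← memS] at f
  obtain ⟨P, e⟩ := o.h.syl
  obtain ⟨k, e⟩ := P.isPGroup' ⟨x, e ▸ f⟩
  exact ⟨k, by rw [cn_pow, cn_eq_one]; exact congrArg Subtype.val e⟩

theorem P.ten (h : o.P a) : {b | o.C a b}.ncard = 10 := by
  obtain ⟨g, rfl⟩ := h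
  have : {b | o.C (Oct.cn g o.z) b} = Oct.cn g '' {b | Col o.z o.y o.z b} := by
    ext b
    obtain ⟨b, rfl⟩ := cn_surj g b
    simp only [Set.mem_ofPred_eq, C_cn, Set.mem_image, cn_inj, exists_eq_right]
    rfl
  rw [this, Set.ncard_image_of_injective _ fun a b => (cn_inj g a b).1, o.h.ten]

/-- a `2`-subgroup of `C(a)` fixes a line through `a` -/
theorem P.fixline (h : o.P a) {K : Subgroup G} (hK : IsPGroup 2 K) (f : ∀ k ∈ K, Oct.cn k a = a) :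
    ∃ b, o.C a b ∧ ∀ k ∈ K, Fl a b k := by
  obtain ⟨g, rfl⟩ := h
  obtain ⟨P, e⟩ := o.h.syl
  have : Fact (Nat.Prime 2) := Nat.fact_prime_two
  set H := centralizer ({o.z} : Set G)
  have le : (P : Subgroup G) ≤ H := fun s hs =>
    mem_centralizer_singleton_iff.2 (cn_eq_iff.1 (memS.1 (e ▸ hs)).1)
  obtain ⟨R, hR⟩ := ((hK.map (MulAut.conj g⁻¹).toMonoidHom).comap_subtype (K := H)).exists_le_sylow
  obtain ⟨u, rfl⟩ := MulAction.exists_smul_eq H (P.subtype le) R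
  have hu : Oct.cn (u : G) o.z = o.z := cn_eq_iff.2 (mem_centralizer_singleton_iff.1 u.2)
  refine ⟨Oct.cn (g * u) o.y, ⟨g * u, by rw [← cn_cn, hu], rfl⟩, fun k hk => ?_⟩
  have m : Oct.cn g⁻¹ k ∈ H := mem_centralizer_singleton_iff.2 (cn_eq_iff.1 (by
    rw [← cn_inj g, ← cn_cn_cn, cn_cn_inv, f k hk]))
  have := hR (x := ⟨_, m⟩) ⟨k, hk, rfl⟩
  rw [Sylow.coe_subgroup_smul, mem_pointwise_smul_iff_inv_smul_mem, Sylow.coe_subtype, mem_subgroupOf, e,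
    memS, ← Fl_cn (g * u), ← cn_cn g u o.z, hu] at this
  convert this using 1
  simp [Oct.cn, mul_assoc]

theorem exists_fix (o : OD G) (e : x * x = 1) : ∃ a, o.P a ∧ Oct.cn x a = a := by
  obtain ⟨P, e'⟩ := o.h.syl
  have : Fact (Nat.Prime 2) := Nat.fact_prime_two
  have : IsPGroup 2 (zpowers x) := by
    have := H9.isPGroup_closure_pair e e (k := 0) (by simpa)
    rwa [Set.pair_eq_singleton, ← zpowers_eq_closure] at this
  obtain ⟨R, hR⟩ := this.exists_le_sylow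
  obtain ⟨u, rfl⟩ := MulAction.exists_smul_eq G P R
  have := hR (mem_zpowers x)
  rw [Sylow.coe_subgroup_smul, mem_pointwise_smul_iff_inv_smul_mem, e', memS, ← Fl_cn u] at this
  refine ⟨_, ⟨u, rfl⟩, ?_⟩
  convert this.1 using 2
  simp [Oct.cn, mul_assoc]

end OD

end H6.Oct
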