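import Cfsg.Agent.H6.Oct1
import Cfsg.Agent.H8.Basic
import Cfsg.Agent.H9.Hv2

/-! The geometry of `Oc` is a generalized octagon of order `(2,4)`: girth, radius, `1755` points, `Oc.card`. -/

set_option autoImplicit false
set_option linter.unusedSectionVars false

namespace H6.Oct

open Subgroup
open scoped commutatorElement

variable {G : Type*} [Group G]

namespace OD

/-- walks with `n + 1` steps along different lines, first step `a → b`, end point `p` -/
def W (o : OD G) : ℕ → G → G → G → Prop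
  | 0, a, b, p => o.C a b ∧ p = b
  | n + 1, a, b, p => ∃ c, o.T a b c ∧ W o n b c p

/-- equal or collinear -/
def N (o : OD G) (a b : G) : Prop := b = a ∨ o.C a b

/-- distance at most `n` -/
def D (o : OD G) : ℕ → G → G → Prop
  | 0, a, p => p = a
  | n + 1, a, p => ∃ r, o.N a r ∧ D o n r p

variable {o : OD G} {a b c d e f a' b' g p q r u w x : G} {n m : ℕ}

theorem N.symm (h : o.N a b) : o.N b a := h.imp Eq.symm C.symm
theorem D3 (h1 : o.N a b) (h2 : o.N b c) (h3 : o.N c d) : o.D 3 a d := ⟨_, h1, _, h2, _, h3, rfl⟩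
theorem C.N_of_L (h : o.C a b) (l : L a b p) (l' : L a b q) (hp : o.P p) (hq : o.P q) : o.N p q :=
  (em (q = p)).imp_right fun n => h.C_of_L l l' hp.ne1 hq.ne1 (Ne.symm n)

theorem W.C (h : o.W n a b p) : o.C a b := by
  cases n with
  | zero => exact h.1
  | succ n => exact h.choose_spec.1.1

theorem W.P (h : o.W n a b p) : o.P p := by
  induction n generalizing a b with
  | zero => exact h.2 ▸ h.1.P'
  | succ n ih => exact ih h.choose_spec.2

theorem W.chg (h : o.W n a b p) (h' : o.C a' b) (l : L a b a') : o.W n a' b p := by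
  cases n with
  | zero => exact ⟨h', h.2⟩
  | succ n => exact let ⟨c, t, k⟩ := h; ⟨c, t.chg h' l, k⟩

theorem W.join (h : o.W n b a p) (h' : o.W m b c p) (t : o.T a b c) : ∃ q, o.W (n + m + 1) p q p := by
  induction n generalizing m a b c with
  | zero => exact ⟨b, c, h.2 ▸ t, by simpa using h'⟩
  | succ n ih =>
    obtain ⟨a', t', k⟩ := h
    obtain ⟨q, hq⟩ := ih (m := m + 1) k ⟨c, t, h'⟩ t'.symm
    exact ⟨q, by rwa [show n + 1 + m + 1 = n + (m + 1) + 1 by omega]⟩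

variable [Finite G]

theorem g3 (h : o.T a b c) (k : o.C c a) : False := h.far k.symm.Qa

theorem g3' (h : o.T a b c) (l : L a b d) (n : d ≠ b) (k : o.C c d) : False :=
  g3 (h.chg (h.1.C_of_L l (Lb ..) k.P'.ne1 h.1.P'.ne1 n) l) k

theorem T.frob (h : o.T a b c) (k : o.C a d) (f : Fl a d c) : L a b d := by
  by_contra n
  exact h.far (h.1.frob k h.fl f n)

theorem g4 (h1 : o.T a b c) (h2 : o.T b c d) (h3 : o.T c d a) : False :=
  g3' h1 (h1.frob h3.2.1.symm h3.symm.fl) (fun e => h2.2.2 (e ▸ La ..)) h3.1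

theorem g5 (h1 : o.T a b c) (h2 : o.T b c d) (h3 : o.T d e a) : False := by
  refine (h1.d3 h2).2 (.inl ?_)
  rw [mul_assoc, ← mul_assoc d, ← cn_eq_iff.1 h3.fix, mul_assoc, h3.1.P.sq, mul_one, h1.1.P.sq]

theorem g6 (h1 : o.T a b c) (h2 : o.T b c d) (h3 : o.T c d e) (h4 : o.T d e f) (h5 : o.T e f a) : False :=
  g3' h2 ((h1.d3 h2).line (h5.symm.d3 h4.symm).1).2 (fun k => h3.2.2 (k ▸ La ..)) h3.2.1

theorem d4 (h1 : o.T a b c) (h2 : o.T b c d) (h3 : o.T c d e) : (a * e) ^ 2 ^ 2 ≠ 1 := fun k => by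
  obtain ⟨r, hr, f⟩ := h3.1.P.fixline (H9.isPGroup_closure_pair h1.1.P.sq h3.2.1.P'.sq k) fun x hx => by
    refine cn_eq_iff.2 (mem_centralizer_singleton_iff.1 ((closure_le (centralizer {c})).2 ?_ hx))
    rintro _ (rfl | rfl)
    exacts [mem_centralizer_singleton_iff.2 (cn_eq_iff.1 h1.symm.fix),
      mem_centralizer_singleton_iff.2 (cn_eq_iff.1 h3.fix)]
  have l1 := h1.symm.frob hr (f a (subset_closure (.inl rfl)))
  have l2 := h3.frob hr (f e (subset_closure (.inr rfl)))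
  exact h2.2.2 (h2.1.L_symm.1 ((h2.1.symm.L_iff hr (La ..) l1).1 (h3.1.L_rev hr (La ..) l2).2))

theorem g7 (h1 : o.T a b c) (h2 : o.T b c d) (h3 : o.T c d e) (h5 : o.T e f g) (h6 : o.T f g a) : False :=
  d4 h3.symm h2.symm h1.symm (by rw [← (h5.d3 h6).1.sq]; simp [pow_succ, mul_assoc])

theorem girth (h : o.W n a b a) (k : n ≤ 6) : False := by
  interval_cases n
  · exact h.1.ne h.2
  · obtain ⟨c, t, -, rfl⟩ := h
    exact t.2.2 (La ..)
  · obtain ⟨c, t1, d, t2, -, rfl⟩ := h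
    exact g3 t1 t2.2.1
  · obtain ⟨c, t1, d, t2, e, t3, -, rfl⟩ := h
    exact g4 t1 t2 t3
  · obtain ⟨c, t1, d, t2, e, -, f, t4, -, rfl⟩ := h
    exact g5 t1 t2 t4
  · obtain ⟨c, t1, d, t2, e, t3, f, t4, g, t5, -, rfl⟩ := h
    exact g6 t1 t2 t3 t4 t5
  · obtain ⟨c, t1, d, t2, e, t3, f, -, g, t5, i, t6, -, rfl⟩ := h
    exact g7 t1 t2 t3 t5 t6

theorem U2 (h : o.W n a b p) (h' : o.W m b a p) (k : n + m ≤ 6) : False := by
  cases m with
  | zero => exact girth (h'.2 ▸ h) k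
  | succ m =>
    obtain ⟨c, t, w⟩ := h'
    obtain ⟨q, hq⟩ := h.join w t
    exact girth hq k

theorem U1 (h : o.W n a b p) (h' : o.W m a b' p) (k : n + m ≤ 5) : b = b' := by
  by_contra ne
  by_cases l : L a b b'
  · have c := h.C.C_of_L (Lb ..) l h.C.P'.ne1 h'.C.P'.ne1 ne
    exact U2 (h.chg c.symm l) (h'.chg c (h.C.L_rev h'.C (La ..) l).2) (by omega)
  · obtain ⟨q, hq⟩ := h.join h' ⟨h.C.symm, h'.C, fun e => l (h.C.L_symm.1 e)⟩
    exact girth hq (by omega)

theorem U0 (h : o.W n a b p) (h' : o.W m a b p) (k : n + m ≤ 7) : n = m := by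
  induction n generalizing m a b with
  | zero =>
    cases m with
    | zero => rfl
    | succ m =>
      obtain ⟨c, -, w⟩ := h'
      obtain rfl := h.2
      exact (girth w (by omega)).elim
  | succ n ih =>
    cases m with
    | zero =>
      obtain ⟨c, -, w⟩ := h
      obtain rfl := h'.2
      exact (girth w (by omega)).elim
    | succ m =>
      obtain ⟨c, -, w⟩ := h
      obtain ⟨c', -, w'⟩ := h'
      obtain rfl := U1 w w' (by omega)
      rw [ih w w' (by omega)]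

theorem C.near (h : o.C a b) (k : o.D n b p) :
    (∃ m ≤ n, o.W m a b p) ∨ ∃ m < n, ∃ c, L a b c ∧ o.W m b c p := by
  induction n generalizing a b with
  | zero => exact .inl ⟨0, le_rfl, h, k⟩
  | succ n ih =>
    have aux : ∀ m ≤ n, ∀ c, o.W m b c p →
        (∃ m ≤ n + 1, o.W m a b p) ∨ ∃ m < n + 1, ∃ c, L a b c ∧ o.W m b c p := fun m hm c w =>
      (em (L a b c)).elim (fun l => .inr ⟨m, by omega, c, l, w⟩) fun l => .inl ⟨m + 1, by omega, c, ⟨h, w.C, l⟩, w⟩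
    obtain ⟨r, rfl | hr, k⟩ := k
    · exact (ih h k).imp (fun ⟨m, hm, w⟩ => ⟨m, by omega, w⟩) fun ⟨m, hm, w⟩ => ⟨m, by omega, w⟩
    rcases ih hr k with ⟨m, hm, w⟩ | ⟨m, hm, c, l, w⟩
    · exact aux m hm r w
    by_cases e : b = c
    · subst e
      cases m with
      | zero => exact .inl ⟨0, by omega, h, w.2⟩
      | succ m => exact aux m (by omega) _ w.choose_spec.2
    · exact aux m hm.le c (w.chg (hr.C_of_L (La ..) l hr.P.ne1 w.C.P'.ne1 e)
        (hr.L_rev w.C (Lb ..) l).1)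

/-- the nearest point of a line is unique -/
theorem W.nearest (h : o.W n a b p) (hn : n ≤ 3) (l : L a b r) (hr : o.P r) (k : o.D n r p) : r = b := by
  by_contra ne
  have c := h.C.C_of_L l (Lb ..) hr.ne1 h.C.P'.ne1 ne
  have w := h.chg c l
  rcases c.symm.near k with ⟨m, hm, w'⟩ | ⟨m, hm, c', -, w'⟩
  · exact U2 w w' (by omega)
  · obtain rfl := U1 w w' (by omega)
    have := U0 w w' (by omega)
    omega

theorem R1 (hx : o.P x) (ha : o.P a) (f : cn x a = a) : ∃ r, o.N a r ∧ o.N r x := by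
  obtain ⟨p, q, h, i⟩ := ha.inv hx.sq f
  exact ⟨p, h, i.C.N_of_L (La ..) (by_contra fun l => Tl.npt ⟨i, l⟩ hx) i.C.P hx⟩

theorem R2 (h : o.Tl c d w) (ha : o.P a) (f : cn w a = a) : ∃ r, L c d r ∧ o.P r ∧ o.N a r := by
  obtain ⟨p, q, k, i⟩ := ha.inv h.1.sq f
  exact ⟨p, (h.line i).1, i.C.P, k⟩

theorem C.fixpt (h : o.C p q) (e : w * w = 1) (l : L p q (Oct.cn w p)) : ∃ r, L p q r ∧ o.P r ∧ Oct.cn w r = r := by
  by_cases k : p = Oct.cn w p
  · exact ⟨p, La .., h.P, k.symm⟩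
  have c := h.C_of_L (La ..) l h.P.ne1 (h.P.cn w).ne1 k
  exact ⟨_, h.L_mul (La ..) l, c.turn.P', by rw [← cn_mul, cn_cn_sq e, c.comm]⟩

/-- an involution is a point or lies in some `I(l) \ l` -/
theorem inv_cases (o : OD G) (e : x * x = 1) (n : x ≠ 1) : o.P x ∨ ∃ p q, o.Tl p q x := by
  obtain ⟨a, ha, f⟩ := o.exists_fix e
  obtain ⟨p, q, -, i⟩ := ha.inv e f
  exact (em (L p q x)).imp (fun l => i.C.P_of_L l n) fun l => ⟨p, q, i, l⟩

theorem radius (hu : o.P u) (h : o.C a b) : ∃ r, L a b r ∧ o.P r ∧ o.D 3 r u := by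
  obtain ⟨w, hw⟩ := h.exTl
  rcases H9.isConj_or_exists_commute hu.sq hw.1.sq with k | ⟨c, c2, -, cu, cw⟩
  · obtain ⟨g, e⟩ := isConj_iff.1 k
    exact (hw.npt (e ▸ hu.cn g)).elim
  have cu := cn_eq_iff.2 cu.symm.eq
  have cw := cn_eq_iff.2 cw.symm.eq
  rcases o.inv_cases (x := c) (by rw [← pow_two, ← c2, pow_orderOf_eq_one]) (fun e => by simp [e] at c2) with
    hc | ⟨p, q, hc⟩
  · obtain ⟨s, n1, n2⟩ := R1 hu hc cu
    obtain ⟨r, l, hr, n3⟩ := R2 hw hc cw
    exact ⟨r, l, hr, D3 n3.symm n1 n2⟩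
  · obtain ⟨s, l, hs, n1⟩ := R2 hc hu (cn_comm cu)
    obtain ⟨s', l', hs', f⟩ := hc.1.C.fixpt hw.1.sq (hc.norm cw).1
    obtain ⟨r, l'', hr, n3⟩ := R2 hw hs' f
    exact ⟨r, l'', hr, D3 n3.symm (hc.1.C.N_of_L l' l hs' hs) n1.symm⟩

theorem radius' (hu : o.P u) (h : o.C a b) : ∃ m ≤ 3, ∃ r c, L a b r ∧ L a b c ∧ o.W m r c u := by
  obtain ⟨r, l, hr, k⟩ := radius hu h
  obtain ⟨s, ls, c⟩ : ∃ s, L a b s ∧ o.C s r := by
    by_cases e : a = r
    · exact ⟨b, Lb .., e ▸ h.symm⟩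
    · exact ⟨a, La .., h.C_of_L (La ..) l h.P.ne1 hr.ne1 e⟩
  rcases c.near k with ⟨m, hm, w⟩ | ⟨m, hm, c', l', w⟩
  · exact ⟨m, hm, s, r, ls, l, w⟩
  · exact ⟨m, hm.le, r, c', l, h.L_of ls l l', w⟩

open Finset Classical

theorem card_T [Fintype G] (h : o.C a b) : #(univ.filter fun c => o.T a b c) = 8 := by
  have h1 := h.P'.ten
  have : (univ.filter fun c => o.C b c) = insert a (insert (a * b) (univ.filter fun c => o.T a b c)) := by
    ext c
    simp only [mem_filter, mem_univ, true_and, mem_insert]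
    refine ⟨fun k => ?_, ?_⟩
    · by_cases l : L a b c
      · rcases l with l | l | l | l
        exacts [(k.P'.ne1 l).elim, .inl l, (k.ne l.symm).elim, .inr (.inl l)]
      · exact .inr (.inr ⟨h, k, l⟩)
    · rintro (rfl | rfl | k)
      exacts [h.symm, h.turn'.symm, k.2.1]
  rw [← Finset.coe_filter_univ, this, Set.ncard_coe_finset, card_insert_of_notMem, card_insert_of_notMem] at h1
  · omega
  · simpa using fun k => k.2.2 (Lab ..)
  · simpa using ⟨h.P'.ne1, fun k => k.2.2 (La ..)⟩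

theorem card_W [Fintype G] (hn : n ≤ 3) (h : o.C a b) : #(univ.filter fun p => o.W n a b p) = 8 ^ n := by
  induction n generalizing a b with
  | zero => exact card_eq_one.2 ⟨b, by ext p; simp [W, h]⟩
  | succ n ih =>
    have : (univ.filter fun p => o.W (n + 1) a b p) =
        (univ.filter fun c => o.T a b c).biUnion fun c => univ.filter fun p => o.W n b c p := by
      ext p
      simp only [mem_filter, mem_univ, true_and, mem_biUnion]
      rfl
    rw [this, card_biUnion, sum_congr rfl fun c hc => ih (by omega) (mem_filter.1 hc).2.2.1, sum_const, card_T h,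
      smul_eq_mul, pow_succ']
    intro c _ c' _ ne
    exact disjoint_left.2 fun p hp hp' => ne (U1 (mem_filter.1 hp).2 (mem_filter.1 hp').2 (by omega))

theorem card_P (o : OD G) : (centralizer ({o.z} : Set G)).index = 1755 := by
  have := Fintype.ofFinite G
  have h := o.C0
  rw [H8.index_centralizer_eq_card_isConj, Nat.card_eq_fintype_card, Fintype.card_subtype]
  generalize hz : o.z = a at h
  generalize o.y = b at h
  have mem : ∀ c ∈ ({a, b, a * b} : Finset G), L a b c ∧ o.P c := fun c hc => by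
    simp only [mem_insert, mem_singleton] at hc
    exact ⟨.inr hc, by rcases hc with rfl | rfl | rfl; exacts [h.P, h.P', h.turn.P']⟩
  have : (univ.filter fun p => IsConj a p) = (({a, b, a * b} : Finset G) ×ˢ range 4).biUnion
      fun j => univ.filter fun p => ∃ r, L a b r ∧ o.W j.2 r j.1 p := by
    ext p
    simp only [mem_filter, mem_univ, true_and, mem_biUnion, mem_product, mem_range, Prod.exists, isConj_iff]
    refine ⟨fun k => ?_, fun ⟨c, m, _, r, _, w⟩ => by subst hz; exact w.P⟩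
    obtain ⟨m, hm, r, c, l, l', w⟩ := radius' (u := p) (by subst hz; exact k) h
    exact ⟨c, m, ⟨by simpa using l'.resolve_left w.C.P'.ne1, by omega⟩, r, l, w⟩
  rw [this, card_biUnion, sum_congr rfl (g := fun j => 8 ^ j.2), sum_product_right]
  · have : #({a, b, a * b} : Finset G) = 3 := card_eq_three.2 ⟨_, _, _, h.ne, h.turn.ne, h.turn'.ne.symm, rfl⟩
    simp [this, sum_range_succ]
  · rintro ⟨c, m⟩ hj
    obtain ⟨hc, hm⟩ := mem_product.1 hj
    obtain ⟨l, hc⟩ := mem c hc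
    obtain ⟨s, ls, k⟩ : ∃ s, L a b s ∧ o.C s c := by
      by_cases e : a = c
      · exact ⟨b, Lb .., e ▸ h.symm⟩
      · exact ⟨a, La .., h.C_of_L (La ..) l h.P.ne1 hc.ne1 e⟩
    rw [← card_W (n := m) (by simpa [Nat.lt_succ_iff] using hm) k]
    exact congrArg _ (filter_congr fun p _ =>
      ⟨fun ⟨r, lr, w⟩ => w.chg k ((h.L_iff w.C lr l).2 ls), fun w => ⟨s, ls, w⟩⟩)
  · rintro ⟨c, m⟩ hj ⟨c', m'⟩ hj' ne
    obtain ⟨hc, hm⟩ := mem_product.1 hj
    obtain ⟨hc', hm'⟩ := mem_product.1 hj'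
    rw [mem_range] at hm hm'
    obtain ⟨l, hc⟩ := mem c hc
    obtain ⟨l', hc'⟩ := mem c' hc'
    refine disjoint_left.2 fun p hp hp' => ?_
    obtain ⟨r, lr, w⟩ := (mem_filter.1 hp).2
    obtain ⟨r', lr', w'⟩ := (mem_filter.1 hp').2
    by_cases e : c = c'
    · subst e
      exact ne (Prod.ext rfl (U0 w (w'.chg w.C ((h.L_iff w'.C lr' l).2 lr)) (by dsimp only at *; omega)))
    · have k := h.C_of_L l l' hc.ne1 hc'.ne1 e
      exact U2 (w.chg k.symm ((h.L_iff w.C lr l).2 l')) (w'.chg k ((h.L_iff w'.C lr' l').2 l))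
        (by dsimp only at *; omega)

theorem card (o : OD G) [IsSimpleGroup G] : Nat.card G = 17971200 := by
  rcases o.h.card with k | ⟨K, c, -, i2, cK, cz, iv, sw⟩
  · rw [← card_mul_index (centralizer {o.z}), k, card_P]
  exfalso
  set H := centralizer ({o.z} : Set G)
  have mH : ∀ x, x ∈ H ↔ cn x o.z = o.z := fun x => mem_centralizer_singleton_iff.trans cn_eq_iff.symm
  have mul : ∀ x ∈ H, ∀ x' ∈ H, x * x' ∈ K ↔ (x ∈ K ↔ x' ∈ K) := fun x hx x' hx' =>
    mul_mem_iff_of_index_two i2 (a := ⟨x, hx⟩) (b := ⟨x', hx'⟩)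
  have nm : ∀ g ∈ H, ∀ x ∈ H, cn g x ∈ K ↔ x ∈ K := fun g hg x hx => by
    rw [cn, mul _ (H.mul_mem hg hx) _ (H.inv_mem hg), mul _ hg _ hx, inv_mem_iff]
    tauto
  have key : ∀ x, x * x = o.z → x ∉ K → ∀ a, cn a x ∈ H → cn a x ∉ K := fun x xz xK a ha hK => by
    have step : ∀ p r, o.N p r → cn x p = p → cn x r = r → (∃ g, cn g o.z = p ∧ cn g⁻¹ x ∈ K) →
        ∃ g, cn g o.z = r ∧ cn g⁻¹ x ∈ K := by
      rintro p r (rfl | ⟨k, rfl, rfl⟩) f f' ⟨g, e, m⟩
      · exact ⟨g, e, m⟩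
      obtain ⟨s, e1, e2⟩ := o.h.swap
      obtain ⟨x, rfl⟩ := cn_surj k x
      rw [cn_cn_cn, cn_inj] at f f'
      rw [cn_cn, nm _ ((mH _).2 (by rw [← cn_cn, ← e, cn_inv_cn])) _ ((mH _).2 f)] at m
      refine ⟨k * s⁻¹, by rw [← cn_cn, ← e2]; exact congrArg _ (cn_inv_cn ..), ?_⟩
      rw [cn_cn, mul_inv_rev, inv_inv, inv_mul_cancel_right]
      exact sw s e1 e2 x m (cn_eq_iff.1 f')
    have fz : cn x o.z = o.z := xz ▸ cn_eq_iff.2 (mul_assoc ..).symm
    have fp : cn x (cn a⁻¹ o.z) = cn a⁻¹ o.z := by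
      rw [← cn_inj a, ← cn_cn_cn, cn_cn_inv, (mH _).1 ha]
    have g0 : ∃ g, cn g o.z = cn a⁻¹ o.z ∧ cn g⁻¹ x ∈ K := ⟨a⁻¹, rfl, by rwa [inv_inv]⟩
    have hp := o.P0.cn a⁻¹
    generalize cn a⁻¹ o.z = p at fp g0 hp
    obtain ⟨g, e, m⟩ : ∃ g, cn g o.z = o.z ∧ cn g⁻¹ x ∈ K := by
      obtain ⟨r, rfl | n1, n2⟩ := R1 o.P0 hp (xz ▸ cn_fix_mul fp fp)
      · exact step _ _ n2 fp fz g0
      rcases n2 with rfl | n2
      · exact step _ _ (.inr n1) fp fz g0
      by_cases l : L p r o.z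
      · exact step _ _ (n1.N_of_L (La ..) l hp o.P0) fp fz g0
      have t : o.T p r o.z := ⟨n1, n2, l⟩
      have t' := t.cn x
      rw [fp, fz] at t'
      have fr := U1 (n := 1) (m := 1) ⟨_, t', t'.2.1, rfl⟩ ⟨_, t, n2, rfl⟩ (by omega)
      exact step _ _ (.inr n2) fr fz (step _ _ (.inr n1) fp fr g0)
    exact xK ((nm _ (H.inv_mem ((mH _).2 e)) _ ((mH _).2 fz)).1 m)
  have cH : c ∈ H := (mH _).2 (cz ▸ cn_eq_iff.2 (mul_assoc ..).symm)
  have c4 : c ^ 2 ^ 2 = 1 := by rw [← o.P0.sq, ← cz]; simp [pow_succ, mul_assoc]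
  have ev : ∀ k, c ^ (k + k) * c ^ (k + k) = 1 := fun k => by
    rw [← pow_add, show k + k + (k + k) = 2 ^ 2 * k by ring, pow_mul, c4, one_pow]
  have iv' : ∀ x ∈ H, x * x = 1 → x ∈ K := fun x hx => iv x (cn_eq_iff.1 ((mH _).1 hx))
  refine H9.not_mem_der (H := H) (K := K) Nat.prime_two (commutator_le.2 fun a ha b hb => ?_) (by rw [card_P]; omega)
    cH cK ((H18.piNat_pow_self Nat.prime_two 2).of_dvd (orderOf_dvd_of_pow_eq_one c4)) (fun m a ha => ?_) ?_
  · rw [commutatorElement_def, mul _ (H.mul_mem (H.mul_mem ha hb) (H.inv_mem ha)) _ (H.inv_mem hb), inv_mem_iff]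
    exact nm a ha b hb
  · rw [mul _ ha _ (H.inv_mem (H.pow_mem cH m)), inv_mem_iff]
    rcases Nat.even_or_odd m with ⟨k, rfl⟩ | ⟨k, rfl⟩
    · exact iff_of_true (iv' _ ha ((cn_mul ..).trans ((cn_eq_one ..).2 (ev k)))) (iv' _ (H.pow_mem cH _) (ev k))
    · have n : c ^ (2 * k + 1) ∉ K := by
        rw [pow_succ, mul _ (H.pow_mem cH _) _ cH, two_mul]
        simp [cK, iv' _ (H.pow_mem cH _) (ev k)]
      refine iff_of_false (key _ ?_ n a ha) n
      rw [← pow_add, show 2 * k + 1 + (2 * k + 1) = 2 ^ 2 * k + 2 by ring, pow_add, pow_mul, c4, one_pow, one_mul,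
        pow_two, cz]
  · rcases (inferInstance : (_root_.commutator G).Normal).eq_bot_or_eq_top with e | e
    · obtain ⟨s, e1, -⟩ := o.h.swap
      have : ⁅s, o.z⁆ ∈ _root_.commutator G := commutator_mem_commutator (mem_top _) (mem_top _)
      rw [e, mem_bot, commutatorElement_def, e1, mul_inv_eq_one] at this
      exact (o.h.yz this).elim
    · rw [e]; exact mem_top _

end OD

end H6.Oct

/-- a simple group of type Tits has the order of the Tits group -/
theorem H6.Oc.card' {G : Type*} [Group G] [Finite G] [IsSimpleGroup G] {z y : G} {S Q V I : Subgroup G}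
    (h : H6.Oc z y S Q V I) : Nat.card G = 17971200 := H6.Oct.OD.card ⟨z, y, S, Q, V, I, h⟩
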