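import Cfsg.Agent.H6.Tri
import Cfsg.Agent.S0496
import Cfsg.Agent.S0497
/-! Elementary abelian Sylow `3`-subgroups of order `9`: coordinates `pv`, integer character values (`Two.vals`), and
`cc9`: if all elements of order `3` have centralizer of order `9` and there are two classes, then the Sylow
`3`-subgroup is normal or `G ≅ A₆`. -/
set_option autoImplicit false
open H5 Cfsg Finset Subgroup
open scoped ComplexConjugate
namespace H6

variable {G : Type*} [Group G]

abbrev V9 : Type := Multiplicative (ZMod 3 × ZMod 3)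

def v9 (i j : ZMod 3) : V9 := Multiplicative.ofAdd (i, j)

theorem pow_val_add {x : G} (h : x ^ 3 = 1) (i j : ZMod 3) : x ^ (i + j).val = x ^ i.val * x ^ j.val := by
  rw [ZMod.val_add, ← pow_eq_pow_mod _ h, pow_add]

def pv {x y : G} (hx : x ^ 3 = 1) (hy : y ^ 3 = 1) (c : Commute x y) : V9 →* G where
  toFun v := x ^ v.toAdd.1.val * y ^ v.toAdd.2.val
  map_one' := by simp
  map_mul' v w := by
    simp only [toAdd_mul, Prod.fst_add, Prod.snd_add, pow_val_add hx, pow_val_add hy]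
    exact ((c.pow_pow _ _).symm.mul_mul_mul_comm _ _).symm

theorem hom_ext {f g : V9 →* G} (h1 : f (v9 1 0) = g (v9 1 0)) (h2 : f (v9 0 1) = g (v9 0 1)) : f = g := by
  refine MonoidHom.ext fun v => ?_
  obtain ⟨i, j, rfl⟩ : ∃ i j : Fin 3, v = v9 1 0 ^ i.1 * v9 0 1 ^ j.1 := by revert v; decide
  simp [h1, h2]

theorem exists_pv {x y : G} (hx : x ^ 3 = 1) (hy : y ^ 3 = 1) (c : Commute x y) (x1 : x ≠ 1) (y1 : y ≠ 1) (h1 : y ≠ x)
    (h2 : y ≠ x⁻¹) : ∃ ι : V9 →* G, Function.Injective ι ∧ ι (v9 1 0) = x ∧ ι (v9 0 1) = y := by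
  have a : pv hx hy c (v9 1 0) = x := by simp [pv, v9, ZMod.val_one]
  have b : pv hx hy c (v9 0 1) = y := by simp [pv, v9, ZMod.val_one]
  refine ⟨pv hx hy c, (injective_iff_map_eq_one _).2 fun v hv => by_contra fun v1 => ?_, a, b⟩
  have : ∀ v : V9, v ≠ 1 → ∃ i : Fin 3, v ^ i.1 = v9 1 0 ∨ v ^ i.1 = v9 0 1 ∨ v9 1 0 * v ^ i.1 = v9 0 1 ∨
    (v9 1 0)⁻¹ * v ^ i.1 = v9 0 1 := by decide
  obtain ⟨i, k | k | k | k⟩ := this v v1 <;> replace k := congrArg (pv hx hy c) k <;>
    simp only [map_mul, map_pow, map_inv, hv, a, b, one_pow, mul_one] at k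
  exacts [x1 k.symm, y1 k.symm, h1 k.symm, h2 k.symm]

def xs (v : V9) : Prop := v ≠ 1 ∧ v.toAdd.1 * v.toAdd.2 = 0
def ys (v : V9) : Prop := v.toAdd.1 * v.toAdd.2 ≠ 0
instance instDecXs : DecidablePred xs := fun _ => by unfold xs; infer_instance
instance instDecYs : DecidablePred ys := fun _ => by unfold ys; infer_instance

/-- two classes of elements of order `3`, each the union of two lines -/
structure Two (ι : V9 →* G) : Prop where
  inj : Function.Injective ι
  cx : ∀ v, IsConj (ι (v9 1 0)) (ι v) ↔ xs v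
  cy : ∀ v, IsConj (ι (v9 1 1)) (ι v) ↔ ys v

theorem exists_int_of_conj [Finite G] {g : G} (h6 : g ^ 6 = 1) (h : IsConj g g⁻¹) (χ : IrrCharacter G) :
    ∃ n : ℤ, (n : ℂ) = (χ : G → ℂ) g := by
  refine (χ.2.isCharacter.exists_int_of_forall_pow (g := g) fun k hk => ?_).imp fun _ => Eq.symm
  have o := orderOf_dvd_of_pow_eq_one h6
  have : k ≡ 1 [MOD orderOf g] ∨ k ≡ 5 [MOD orderOf g] := by
    have := Nat.le_of_dvd (by norm_num) o
    have p := orderOf_pos g
    rw [Nat.Coprime, Nat.gcd_comm, Nat.gcd_rec] at hk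
    unfold Nat.ModEq
    have := Nat.mod_lt k p
    generalize orderOf g = n at *
    generalize k % n = r at *
    interval_cases n <;> interval_cases r <;> simp_all
  rcases this with e | e <;> rw [pow_eq_pow_iff_modEq.2 e]
  · rw [pow_one]
  · rw [χ.2.isClassFunction.eq_of_isConj h, eq_inv_of_mul_eq_one_left ((pow_succ g 5).symm.trans h6)]

theorem sum3 {X : Type*} [Fintype X] (P Q : X → Prop) [DecidablePred P] [DecidablePred Q] (d a b : ℤ) :
    ∑ v, (if P v then d else if Q v then a else b) = (univ.filter P).card * d +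
      ((univ.filter fun v => ¬ P v ∧ Q v).card * a + (univ.filter fun v => ¬ P v ∧ ¬ Q v).card * b) := by
  simp only [sum_ite, sum_const, filter_filter, nsmul_eq_mul]

namespace Two

variable {ι : V9 →* G} (h : Two ι)
include h

theorem nc : ¬ IsConj (ι (v9 1 0)) (ι (v9 1 1)) := fun k => absurd ((h.cx _).1 k) (by decide)

theorem vals [Finite G] : ∃ a b : IrrCharacter G → ℤ, (∀ χ, (a χ : ℂ) = (χ : G → ℂ) (ι (v9 1 0))) ∧
    (∀ χ, (b χ : ℂ) = (χ : G → ℂ) (ι (v9 1 1))) ∧ ∀ χ : IrrCharacter G,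
      (∃ n : ℕ, charDegree (χ : G → ℂ) + 4 * a χ + 4 * b χ = 9 * n) ∧ 3 ∣ a χ - b χ := by
  have p : ∀ v, ι v ^ 6 = 1 := fun v => by rw [← map_pow, (by revert v; decide : v ^ 6 = 1), map_one]
  choose a ha using exists_int_of_conj (p (v9 1 0)) (map_inv ι _ ▸ (h.cx _).2 (by decide))
  choose b hb using exists_int_of_conj (p (v9 1 1)) (map_inv ι _ ▸ (h.cy _).2 (by decide))
  refine ⟨a, b, ha, hb, fun χ => ?_⟩
  have v : ∀ v, (χ : G → ℂ) (ι v) = ((if v = 1 then charDegree (χ : G → ℂ) else if xs v then a χ else b χ : ℤ) : ℂ) :=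
    fun v => by
    split_ifs with h1 h2
    · rw [h1, map_one, Int.cast_natCast, χ.2.coe_charDegree]
    · rw [ha, χ.2.isClassFunction.eq_of_isConj ((h.cx v).2 h2)]
    · rw [hb, χ.2.isClassFunction.eq_of_isConj ((h.cy v).2 fun k => h2 ⟨h1, k⟩)]
  have s : ∀ f : V9 →* V9, ∃ n : ℕ, ∑ v, (if f v = 1 then charDegree (χ : G → ℂ) else if xs (f v) then a χ else b χ : ℤ) =
      9 * n := fun f => by
    obtain ⟨n, hn⟩ := (χ.2.isCharacter.comp (ι.comp f)).exists_classInner_nat isCharacter_one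
    rw [classInner_one_right, inv_mul_eq_iff_eq_mul₀ card_ne_zero_complex, show Nat.card V9 = 9 by simp] at hn
    simp only [MonoidHom.comp_apply, v] at hn
    exact ⟨n, by exact_mod_cast hn⟩
  obtain ⟨n0, h0⟩ := s (MonoidHom.id _)
  obtain ⟨n1, h1⟩ := s (pv (x := v9 1 0) (y := 1) (by decide) (by decide) (Commute.all _ _))
  obtain ⟨n2, h2⟩ := s (pv (x := v9 1 1) (y := 1) (by decide) (by decide) (Commute.all _ _))
  rw [sum3, show card _ = 1 by decide, show card _ = 4 by decide, show card _ = 4 by decide] at h0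
  rw [sum3, show card _ = 3 by decide, show card _ = 6 by decide, show card _ = 0 by decide] at h1
  rw [sum3, show card _ = 3 by decide, show card _ = 0 by decide, show card _ = 6 by decide] at h2
  exact ⟨⟨n0, by omega⟩, by omega⟩

theorem card_le [Finite G] {H : Subgroup G} (t : TS ι.range H) (c1 : Nat.card (centralizer ({ι (v9 1 0)} : Set G)) = 9)
    (c2 : Nat.card (centralizer ({ι (v9 1 1)} : Set G)) = 9) : Nat.card G ≤ 720 := by
  obtain ⟨a, b, ha, hb, k⟩ := h.vals
  have o : ∀ v, v ≠ 1 → ι v ≠ 1 := fun v => (map_ne_one_iff ι h.inj).2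
  have m : ∀ v, ι v ∈ ι.range := fun v => ⟨v, rfl⟩
  have t1 := tc_count h.inj (v9 1 1) (ι (v9 1 0)) (ι (v9 1 0)) (fun b' => t.tri' (m _) (o _ (by decide)) (t.cube _ (m _))
    (t.cube _ (m _)) fun k => h.nc k.1.symm) (fun v => xs v ∧ xs (v * v9 1 1)⁻¹) fun v => by rw [h.cx, h.cx]
  have t2 := tc_count h.inj (v9 1 0) (ι (v9 1 1)) (ι (v9 1 1)) (fun b' => t.tri' (m _) (o _ (by decide)) (t.cube _ (m _))
    (t.cube _ (m _)) fun k => h.nc k.1) (fun v => ys v ∧ ys (v * v9 1 0)⁻¹) fun v => by rw [h.cy, h.cy]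
  rw [c1, show card _ = 2 by decide] at t1
  rw [c2, show card _ = 2 by decide] at t2
  have g1 := sum_irr_mul_conj_of_isConj (IsConj.refl (ι (v9 1 0)))
  have g2 := sum_irr_mul_conj_of_isConj (IsConj.refl (ι (v9 1 1)))
  have g3 := sum_irr_mul_conj_of_not_isConj h.nc
  have t1 := (congrArg (Nat.cast (R := ℂ)) t1).symm.trans (tc_eq _ _ _)
  have t2 := (congrArg (Nat.cast (R := ℂ)) t2).symm.trans (tc_eq _ _ _)
  simp only [← ha, ← hb, map_intCast, c1, c2, fun χ : IrrCharacter G => χ.2.coe_charDegree.symm] at g1 g2 g3 t1 t2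
  have g1 : ∑ χ, a χ * a χ = 9 := by exact_mod_cast g1
  have g2 : ∑ χ, b χ * b χ = 9 := by exact_mod_cast g2
  have g3 : ∑ χ, a χ * b χ = 0 := by exact_mod_cast g3
  have t1 : (162 : ℚ) = Nat.card G * ∑ χ, (b χ : ℚ) * a χ * a χ / charDegree (χ : G → ℂ) := by exact_mod_cast t1
  have t2 : (162 : ℚ) = Nat.card G * ∑ χ, (a χ : ℚ) * b χ * b χ / charDegree (χ : G → ℂ) := by exact_mod_cast t2
  have key : (45 : ℚ) ≤ ∑ χ, (20 * ((b χ : ℚ) * a χ * a χ / charDegree (χ : G → ℂ)) + 20 * ((a χ : ℚ) * b χ * b χ /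
      charDegree (χ : G → ℂ)) + (2 * (a χ * a χ) + 2 * (b χ * b χ) + a χ * b χ : ℤ)) := by
    refine le_trans (le_of_eq ?_) (single_le_sum (fun χ _ => ?_) (mem_univ (irrOne G)))
    · have a1 : a (irrOne G) = 1 := Int.cast_injective (α := ℂ) (by simp [ha])
      have a2 : b (irrOne G) = 1 := Int.cast_injective (α := ℂ) (by simp [hb])
      have a3 : charDegree (irrOne G : G → ℂ) = 1 := Nat.cast_injective (R := ℂ) (by simp [(irrOne G).2.coe_charDegree])
      rw [a1, a2, a3]; norm_num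
    have a1 := g1 ▸ single_le_sum (f := fun χ => a χ * a χ) (fun _ _ => mul_self_nonneg _) (mem_univ χ)
    have a2 := g2 ▸ single_le_sum (f := fun χ => b χ * b χ) (fun _ _ => mul_self_nonneg _) (mem_univ χ)
    obtain ⟨⟨n, a3⟩, a4⟩ := k χ
    have a5 := χ.2.charDegree_pos
    generalize a χ = x, b χ = y, charDegree (χ : G → ℂ) = d at *
    have : 0 ≤ 20 * (y * x * x) + 20 * (x * y * y) + (2 * (x * x) + 2 * (y * y) + x * y) * d := by
      have : -3 ≤ x ∧ x ≤ 3 ∧ -3 ≤ y ∧ y ≤ 3 := ⟨by nlinarith, by nlinarith, by nlinarith, by nlinarith⟩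
      obtain ⟨_, _, _, _⟩ := this
      interval_cases x <;> interval_cases y <;> omega
    have d0 : (0 : ℚ) < d := by exact_mod_cast a5
    rw [← mul_div_assoc, ← mul_div_assoc, ← add_div, div_add' _ _ _ d0.ne']
    exact div_nonneg (by exact_mod_cast this) d0.le
  rw [sum_add_distrib, sum_add_distrib, ← mul_sum, ← mul_sum, ← Int.cast_sum, sum_add_distrib, sum_add_distrib,
    ← mul_sum, ← mul_sum, g1, g2, g3] at key
  have : (Nat.card G : ℚ) ≤ 720 := by
    have := mul_le_mul_of_nonneg_left key (Nat.cast_nonneg (Nat.card G))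
    push_cast at this
    linarith
  exact_mod_cast this

end Two

theorem TS.sub {J H K : Subgroup G} (h : TS J H) (hK : J ≤ K) : TS (J.subgroupOf K) (H.subgroupOf K) where
  le _ k := h.le k
  cube j k := Subtype.ext (h.cube j k)
  comm j a k b := Subtype.ext (h.comm j a k b)
  norm g := ⟨fun k j a => (h.norm g).1 k j a, fun k => (h.norm g).2 fun j a => k ⟨j, hK a⟩ a⟩
  cent j a b g k := h.cent j a (fun e => b (Subtype.ext e)) g (congrArg Subtype.val k)
  syl g a b := h.syl g a (congrArg Subtype.val b)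

theorem ts_sylow [Finite G] (P : Sylow 3 G) (h3 : ∀ a ∈ P, a ^ 3 = 1) (hc : ∀ a ∈ P, ∀ b ∈ P, a * b = b * a)
    (h : ∀ s ∈ P, s ≠ 1 → centralizer {s} ≤ normalizer (P : Set G)) : TS P (normalizer (P : Set G)) where
  le := le_normalizer
  cube := h3
  comm := hc
  norm _ := ⟨fun k j hj => (mem_normalizer_iff.1 k j).1 hj, fun k => mem_normalizer_fintype k⟩
  cent s hs s1 _ k := h s hs s1 (mem_centralizer_singleton_iff.2 k)
  syl g hg g3 := by
    have : IsPGroup 3 (zpowers g) := IsPGroup.of_card_dvd_pow (n := 1) (by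
      rw [Nat.card_zpowers, pow_one]; exact orderOf_dvd_of_pow_eq_one g3)
    exact (P.is_maximal' (this.to_sup_of_normal_right' P.isPGroup' (zpowers_le.2 hg)) le_sup_right).le
      (mem_sup_left (mem_zpowers g))

theorem TS.normal {J H : Subgroup G} (h : TS J H) (k : H = ⊤) : J.Normal :=
  ⟨fun j hj g => (h.norm g).1 (k ▸ mem_top g) j hj⟩

theorem exists_two [Finite G] {J H : Subgroup G} (h : TS J H) (c9 : Nat.card J = 9) (c : Nat.card H = 36)
    (hc : ∀ s ∈ J, s ≠ 1 → centralizer {s} = J) : ∃ ι : V9 →* G, Two ι ∧ ι.range = J := by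
  classical
  have := Fintype.ofFinite G
  have k : ∀ s ∈ J, s ≠ 1 → (univ.filter fun c => IsConj s c ∧ c ∈ J).card = 4 := fun s hs s1 => by
    have := h.card_cls hs s1
    rw [hc s hs s1, c9, c] at this; omega
  have := Fact.mk Nat.prime_two
  obtain ⟨t, ht⟩ := exists_prime_orderOf_dvd_card' (G := H) 2 (by rw [c]; norm_num)
  have t2 : (t : G) * t = 1 := by rw [← sq, ← Subgroup.coe_pow, ← ht, pow_orderOf_eq_one, Subgroup.coe_one]
  have inv : ∀ s ∈ J, IsConj s s⁻¹ := fun s hs => isConj_iff.2 ⟨t, eq_inv_of_mul_eq_one_right (by_contra fun n => by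
    have m := (h.norm t).1 t.2 s hs
    have : (t : G) ∈ J := hc _ (J.mul_mem hs m) n ▸ mem_centralizer_singleton_iff.2 (by
      nth_rw 2 [h.comm s hs _ m]
      simp only [inv_eq_of_mul_eq_one_right t2, mul_assoc])
    have := orderOf_dvd_of_pow_eq_one (h.cube _ this)
    rw [orderOf_coe, ht] at this; omega)⟩
  have : Nontrivial J := Finite.one_lt_card_iff_nontrivial.1 (by omega)
  obtain ⟨⟨x, hx⟩, x1⟩ := exists_ne (1 : J)
  replace x1 : x ≠ 1 := fun e => x1 (Subtype.ext e)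
  obtain ⟨y, hy, y1⟩ := exists_mem_notMem_of_card_lt_card (s := {x, x⁻¹}) (t := univ.filter fun c => IsConj x c ∧ c ∈ J)
    (by rw [k x hx x1]; exact card_le_two.trans_lt (by norm_num))
  obtain ⟨xy, hy⟩ := (mem_filter.1 hy).2
  simp only [mem_insert, mem_singleton, not_or] at y1
  obtain ⟨ι, inj, e1, e2⟩ := exists_pv (h.cube x hx) (h.cube y hy) (h.comm x hx y hy) x1
    (by rintro rfl; exact x1 (isConj_one_left.1 xy)) y1.1 y1.2
  have r : ι.range = J := eq_of_le_of_card_ge (by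
    rintro _ ⟨v, rfl⟩
    obtain ⟨i, j, rfl⟩ : ∃ i j : Fin 3, v = v9 1 0 ^ i.1 * v9 0 1 ^ j.1 := by revert v; decide
    rw [map_mul, map_pow, map_pow, e1, e2]
    exact J.mul_mem (J.pow_mem hx _) (J.pow_mem hy _)) (by rw [← Nat.card_congr (ι.ofInjective inj).toEquiv, c9]; simp)
  have k' : ∀ w, w ≠ 1 → (univ.filter fun v => IsConj (ι w) (ι v)).card = 4 := fun w w1 => by
    rw [← k (ι w) (r ▸ ⟨w, rfl⟩) ((map_ne_one_iff ι inj).2 w1)]
    refine card_bij (fun v _ => ι v) (fun v hv => ?_) (fun _ _ _ _ e => inj e) fun g hg => ?_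
    · exact mem_filter.2 ⟨mem_univ _, (mem_filter.1 hv).2, r ▸ ⟨v, rfl⟩⟩
    · obtain ⟨g1, v, rfl⟩ := r ▸ (mem_filter.1 hg).2
      exact ⟨v, by simpa using g1, rfl⟩
  have cx : ∀ v, IsConj (ι (v9 1 0)) (ι v) ↔ xs v := fun v => by
    have := eq_of_subset_of_card_le (s := univ.filter xs) (t := univ.filter fun v => IsConj (ι (v9 1 0)) (ι v))
      (fun v hv => by
        have : ∀ v, xs v → v = v9 1 0 ∨ v = (v9 1 0)⁻¹ ∨ v = v9 0 1 ∨ v = (v9 0 1)⁻¹ := by decide
        rcases this v (mem_filter.1 hv).2 with rfl | rfl | rfl | rfl <;> simp only [mem_filter, mem_univ, true_and, map_inv, e1, e2]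
        exacts [IsConj.refl _, inv x hx, xy, xy.trans (inv y hy)]) (by rw [k' _ (by decide)]; decide)
    simpa using (Finset.ext_iff.1 this v).symm
  refine ⟨ι, ⟨inj, cx, fun v => ?_⟩, r⟩
  have := eq_of_subset_of_card_le (t := univ.filter ys) (s := univ.filter fun v => IsConj (ι (v9 1 1)) (ι v))
    (fun v hv => by
      have hv := (mem_filter.1 hv).2
      refine mem_filter.2 ⟨mem_univ _, fun e => absurd ((cx _).1 (((cx v).2 ⟨?_, e⟩).trans hv.symm)) (by decide)⟩
      rintro rfl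
      exact absurd (inj ((isConj_one_left.1 (map_one ι ▸ hv)).trans (map_one ι).symm)) (by decide))
    (by rw [k' _ (by decide)]; decide)
  simpa using Finset.ext_iff.1 this v

theorem cc9 [Finite G] (P : Sylow 3 G) (c9 : Nat.card P = 9) (h3 : ∀ a ∈ P, a ^ 3 = 1)
    (hc : ∀ s ∈ P, s ≠ 1 → centralizer {s} = (P : Subgroup G)) {a b : G} (ha : a ∈ P) (hb : b ∈ P) (a1 : a ≠ 1)
    (b1 : b ≠ 1) (ab : ¬ IsConj a b) : (P : Subgroup G).Normal ∨ Nonempty (G ≃* alternatingGroup (Fin 6)) := by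
  classical
  have := Fintype.ofFinite G
  have h := ts_sylow P h3 (fun a ha b hb => by
    by_cases b1 : b = 1
    · simp [b1]
    · exact mem_centralizer_singleton_iff.1 ((hc b hb b1).ge ha)) fun s hs s1 => (hc s hs s1).le.trans le_normalizer
  refine or_iff_not_imp_left.2 fun nn => ?_
  have small : ∀ K : Subgroup G, (P : Subgroup G) ≤ K → ∀ e, e ≤ 3 → e ≠ 3 →
      Nat.card ((normalizer (P : Set G)).subgroupOf K) = 9 * e → K ≤ normalizer (P : Set G) := fun K hK e e3 e3' k => by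
    have c : Nat.card ((P : Subgroup G).subgroupOf K) = 9 := (Nat.card_congr (subgroupOfEquivOfLe hK).toEquiv).trans c9
    refine subgroupOf_eq_top.1 ((h.sub hK).eq_top (e := e) (by rw [k, c]) ?_)
    rw [c]; interval_cases e <;> simp_all
  obtain ⟨e, he⟩ := card_dvd_of_le h.le
  have i1 := P.not_dvd_index
  have i2 := (P : Subgroup G).card_mul_index
  have i3 := (normalizer (P : Set G)).card_mul_index
  rw [c9] at he i2
  have e4 : e = 4 := by
    have k : ∀ s ∈ P, s ≠ 1 → (univ.filter fun c => IsConj s c ∧ c ∈ (P : Subgroup G)).card = e := fun s hs s1 => by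
      have := h.card_cls hs s1
      rw [hc s hs s1, c9, he] at this; omega
    have : (insert 1 ((univ.filter fun c => IsConj a c ∧ c ∈ (P : Subgroup G)) ∪
        univ.filter fun c => IsConj b c ∧ c ∈ (P : Subgroup G))).card ≤ (univ.filter (· ∈ (P : Subgroup G))).card :=
      card_le_card fun x hx => by
        simp only [mem_insert, mem_union, mem_filter, mem_univ, true_and] at hx ⊢
        rcases hx with rfl | hx | hx
        exacts [one_mem _, hx.2, hx.2]
    rw [card_insert_of_notMem (by simp [a1, b1]), card_union_of_disjoint (disjoint_filter.2 fun x _ k1 k2 =>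
      ab (k1.1.trans k2.1.symm)), k a ha a1, k b hb b1, ← Fintype.card_subtype, ← Nat.card_eq_fintype_card, c9] at this
    by_contra e4
    refine nn (h.normal (top_le_iff.1 (small ⊤ le_top e (by omega) ?_ (by
      rwa [Nat.card_congr (subgroupOfEquivOfLe le_top).toEquiv]))))
    rintro rfl
    rw [he] at i3
    exact i1 ⟨(normalizer (P : Set G)).index, by omega⟩
  subst e4
  obtain ⟨ι, h2, r⟩ := exists_two h c9 he hc
  have m : ∀ v, ι v ∈ (P : Subgroup G) := fun v => r ▸ ⟨v, rfl⟩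
  have o : ∀ v, v ≠ 1 → ι v ≠ 1 := fun v => (map_ne_one_iff ι h2.inj).2
  have le := h2.card_le (r ▸ h) (by rw [hc _ (m _) (o _ (by decide)), c9]) (by rw [hc _ (m _) (o _ (by decide)), c9])
  have : Nontrivial G := ⟨⟨a, 1, a1⟩⟩
  have : IsSimpleGroup G := ⟨fun M hM => or_iff_not_imp_left.2 fun M1 => by
    by_cases k : M ⊓ P = ⊥
    · have k1 : ∀ g ∈ M, g ∈ normalizer (P : Set G) → g = 1 := fun g hg hn => mem_bot.1 (k ▸ ⟨hg, by
        refine (hc a ha a1).le (mem_centralizer_singleton_iff.2 (mul_inv_eq_one.1 (mem_bot.1 (k ▸ ⟨?_, ?_⟩))))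
        · simpa [mul_assoc] using M.mul_mem hg (hM.conj_mem _ (M.inv_mem hg) a)
        · have := P.1.mul_mem ((h.norm g).1 hn a ha) (P.1.inv_mem ha)
          rwa [mul_inv_rev, ← mul_assoc]⟩)
      refine (M1 (eq_bot_iff.2 fun g hg => k1 g hg (small (M ⊔ P) le_sup_right 1 (by omega) (by omega) ?_
        (mem_sup_left hg)))).elim
      rw [mul_one, ← c9, ← Nat.card_congr (subgroupOfEquivOfLe (le_sup_right : P.1 ≤ M ⊔ P)).toEquiv]
      refine congrArg (fun K : Subgroup _ => Nat.card K) (le_antisymm (fun g hg => ?_) fun g hg => h.le hg)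
      obtain ⟨x, hx, y, hy, e⟩ := mem_sup_of_normal_left.1 g.2
      rw [mem_subgroupOf, ← e] at hg ⊢
      rwa [k1 x hx (by simpa using mul_mem hg (inv_mem (h.le hy))), one_mul]
    obtain ⟨⟨s, sM, sP⟩, s1⟩ := ne_bot_iff_exists_ne_one.1 k
    obtain ⟨v, rfl⟩ : s ∈ ι.range := r ▸ sP
    have v1 : v ≠ 1 := by rintro rfl; exact s1 (Subtype.ext (map_one ι))
    have cm : ∀ {x y}, x ∈ M → IsConj x y → y ∈ M := fun hx e => by
      obtain ⟨g, rfl⟩ := isConj_iff.1 e; exact hM.conj_mem _ hx g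
    have PM : (P : Subgroup G) ≤ M := by
      rw [← r]
      rintro _ ⟨w, rfl⟩
      obtain ⟨p, q, hp, hq, rfl⟩ : ∃ p q, (xs v ∧ xs p ∨ ys v ∧ ys p ∨ p = 1) ∧ (xs v ∧ xs q ∨ ys v ∧ ys q ∨ q = 1) ∧
        w = p * q := by clear s1 sM sP; revert v w; decide
      have : ∀ p, xs v ∧ xs p ∨ ys v ∧ ys p ∨ p = 1 → ι p ∈ M := by
        rintro p (k | k | rfl)
        exacts [cm sM (((h2.cx _).2 k.1).symm.trans ((h2.cx _).2 k.2)),
          cm sM (((h2.cy _).2 k.1).symm.trans ((h2.cy _).2 k.2)), by simp]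
      exact map_mul ι p q ▸ M.mul_mem (this p hp) (this q hq)
    have d1 := card_dvd_of_le (h.sub PM).le
    have d2 : Nat.card ((normalizer (P : Set G)).subgroupOf M) = Nat.card (M.subgroupOf (normalizer (P : Set G))) := by
      rw [← inf_subgroupOf_right, ← inf_subgroupOf_right M, Nat.card_congr (subgroupOfEquivOfLe inf_le_right).toEquiv,
        Nat.card_congr (subgroupOfEquivOfLe inf_le_right).toEquiv, inf_comm]
    have d3 := (M.subgroupOf (normalizer (P : Set G))).card_subgroup_dvd_card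
    rw [Nat.card_congr (subgroupOfEquivOfLe PM).toEquiv, c9] at d1
    obtain ⟨e, he'⟩ := d1
    rw [← d2, he', he, mul_dvd_mul_iff_left (by norm_num)] at d3
    by_cases e4 : e = 4
    · rw [← P.normalizer_sup_eq_top' PM, eq_comm, sup_eq_right, ← subgroupOf_eq_top]
      exact eq_top_of_card_eq _ (by rw [← d2, he', he, e4])
    have := Nat.le_of_dvd (by norm_num) d3
    have := small M PM e (by omega) (by rintro rfl; omega) he'
    exact (nn ⟨fun j hj g => h.syl _ (this (hM.conj_mem _ (PM hj) g)) (by rw [conj_pow, h3 j hj]; simp)⟩).elim⟩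
  refine Cfsg.Agent.S0497.result ?_
  have i4 := card_sylow_modEq_one 3 G
  rw [P.card_eq_index_normalizer] at i4
  have := Cfsg.Agent.S0496.result (G := G) (fun k => nn inferInstance) (by omega)
  unfold Nat.ModEq at i4
  rw [he] at i3
  omega

end H6
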