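import Cfsg.Agent.H6.RComb
/-! Arithmetic of the principal `3`-block when the Sylow normalizer is `S₃ ≀ 2` and strongly `3`-embedded:
`d8_alg`, `D8H`, `D8H.main` (there is a character of degree one with values `1, 1, -1, -1`). -/
set_option autoImplicit false
open Finset
namespace H6

theorem d8_aux {D u P uP R uR v t4 t6 t7 t8 t9 δ p c : ℚ} (h1 : D * u = 1) (h2 : P * uP = 1) (h3 : R * uR = 1)
    (s4 s6 s7 s8 s9 δ' k ρ ρ' : ℚ) (e : P - R = 1 - D) (n : P ≠ R) (p0 : p ≠ 0) (c0 : c ≠ 0) (k0 : k ≠ 0)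
    (a1 : t8 - t6 = δ) (a2 : t7 - t9 = δ) (a3 : t6 + t8 - t7 - t9 = 2 - 2 * t4)
    (b1 : s8 - s6 = δ') (b2 : s7 - s9 = δ') (b3 : s6 + s8 - s7 - s9 = 2 - 2 * s4)
    (l1 : 1 + δ * v - t4 * u + 2 * t8 * uP - 2 * t9 * uR = 36 * p) (l2 : 1 - δ * v - t4 * u + 2 * t6 * uP - 2 * t7 * uR = 0)
    (m1 : 1 + δ' * v - s4 * u + 2 * s8 * uP - 2 * s9 * uR = 0)
    (m2 : 1 - δ' * v - s4 * u + 2 * s6 * uP - 2 * s7 * uR = 36 * (k * p))
    (q1 : (t8 ^ 2 - t6 ^ 2) * uP + (t9 ^ 2 - t7 ^ 2) * uR = c * p)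
    (q2 : (s8 ^ 2 - s6 ^ 2) * uP + (s9 ^ 2 - s7 ^ 2) * uR = -(k * c * (k * p)))
    (r1 : 2 - 2 * t4 ^ 2 * u - (t6 ^ 2 + t8 ^ 2) * uP + (t7 ^ 2 + t9 ^ 2) * uR = 6 * ρ * c * p)
    (r2 : 2 - 2 * s4 ^ 2 * u - (s6 ^ 2 + s8 ^ 2) * uP + (s7 ^ 2 + s9 ^ 2) * uR = 6 * ρ' * (k * c) * (k * p))
    (r3 : 2 - 2 * t4 * s4 * u - (t6 * s6 + t8 * s8) * uP + (t7 * s7 + t9 * s9) * uR = 3 * (ρ + ρ') * c * (k * p))
    (hρ : ρ * ρ' = 0) : False := by
  obtain ⟨a, rfl⟩ : ∃ a, t6 = P + a - δ / 2 := ⟨t6 - P + δ / 2, by ring⟩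
  obtain ⟨b, rfl⟩ : ∃ b, t4 = D + b := ⟨t4 - D, by ring⟩
  obtain ⟨a', rfl⟩ : ∃ a, s6 = P + a - δ' / 2 := ⟨s6 - P + δ' / 2, by ring⟩
  obtain ⟨b', rfl⟩ : ∃ b, s4 = D + b := ⟨s4 - D, by ring⟩
  obtain rfl : t8 = P + a + δ / 2 := by linarith
  obtain rfl : s8 = P + a' + δ' / 2 := by linarith
  obtain rfl : t7 = R + a + b + δ / 2 := by linarith
  obtain rfl : s7 = R + a' + b' + δ' / 2 := by linarith
  obtain rfl : t9 = R + a + b - δ / 2 := by linarith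
  obtain rfl : s9 = R + a' + b' - δ' / 2 := by linarith
  have w : uP - uR ≠ 0 := fun h => n (by linear_combination R * h2 - P * h3 - P * R * h)
  have k1 : δ * (v + uP + uR) = 18 * p := by linear_combination (l1 - l2) / 2
  have k2 : δ' * (v + uP + uR) = -18 * (k * p) := by linear_combination (m1 - m2) / 2
  have κ : v + uP + uR ≠ 0 := fun h => p0 (by linear_combination (δ * h - k1) / 18)
  have δ0 : δ ≠ 0 := fun h => p0 (by linear_combination ((v + uP + uR) * h - k1) / 18)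
  obtain rfl : δ' = -(k * δ) := mul_right_cancel₀ κ (by linear_combination k2 + k * k1)
  have k3 : 2 * a' * uP - 2 * (a' + b') * uR = k * (2 * a * uP - 2 * (a + b) * uR) :=
    mul_left_cancel₀ (mul_ne_zero k0 δ0) (by linear_combination -q2 - k ^ 2 * q1 + 2 * k * (k - 1) * δ * (h2 - h3))
  obtain rfl : b' = k * b := by
    have : b' * u = k * b * u := by
      linear_combination k3 + k * (l1 + l2) / 2 - (m1 + m2) / 2 + (k - 1) * (h1 - 2 * h2 + 2 * h3)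
    linear_combination D * this - (b' - k * b) * h1
  obtain rfl : a' = k * a := mul_right_cancel₀ w (by linear_combination k3 / 2)
  have x1 : -2 * b ^ 2 * u - 2 * a ^ 2 * uP + 2 * (a + b) ^ 2 * uR - δ ^ 2 / 2 * (uP - uR) = 6 * ρ * c * p := by
    linear_combination r1 + (2 * D + 4 * b) * h1 + (2 * P + 4 * a) * h2 - (2 * R + 4 * (a + b)) * h3 + 2 * e
  have x2 : k ^ 2 * (-2 * b ^ 2 * u - 2 * a ^ 2 * uP + 2 * (a + b) ^ 2 * uR - δ ^ 2 / 2 * (uP - uR)) =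
      k ^ 2 * (6 * ρ' * c * p) := by
    linear_combination r2 + (2 * D + 4 * k * b) * h1 + (2 * P + 4 * k * a) * h2 - (2 * R + 4 * k * (a + b)) * h3 + 2 * e
  have x3 : k * (-2 * b ^ 2 * u - 2 * a ^ 2 * uP + 2 * (a + b) ^ 2 * uR + δ ^ 2 / 2 * (uP - uR)) =
      k * (3 * (ρ + ρ') * c * p) := by
    linear_combination r3 + (2 * D + 2 * (k + 1) * b) * h1 + (2 * P + 2 * (k + 1) * a) * h2 -
      (2 * R + 2 * (k + 1) * (a + b)) * h3 + 2 * e
  replace x2 := mul_left_cancel₀ (pow_ne_zero 2 k0) x2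
  replace x3 := mul_left_cancel₀ k0 x3
  obtain rfl : ρ = ρ' := mul_right_cancel₀ (mul_ne_zero c0 p0) (by linear_combination (x2 - x1) / 6)
  obtain rfl : ρ = 0 := mul_self_eq_zero.1 hρ
  exact mul_ne_zero (pow_ne_zero 2 δ0) w (by linear_combination x3 - x1)

variable {I : Type*} [Fintype I]

def tr (d u v w : I → ℤ) : ℚ := ∑ i, (u i : ℚ) * v i * w i / d i

open Ree in
structure D8H (a b a' b' d t s : I → ℤ) (i0 : I) (p c k ρ ρ' : ℚ) : Prop where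
  d0 : ∀ i, 0 < d i
  one : a i0 = 1 ∧ b i0 = 1 ∧ a' i0 = 1 ∧ b' i0 = 1 ∧ d i0 = 1 ∧ t i0 = 1 ∧ s i0 = 1
  row : ∀ i, 3 ∣ a i - b i ∧ 9 ∣ d i + 4 * a i + 4 * b i ∧ 2 ∣ a i - a' i ∧ 2 ∣ b i - b' i ∧
    (a i * b i = 0 → 9 ∣ 2 * (a i + b i)) ∧ (9 ∣ d i → 3 ∣ a' i ∧ 3 ∣ b' i)
  gram : ip a a = 18 ∧ ip b b = 18 ∧ ip a' a' = 6 ∧ ip b' b' = 6 ∧ ip a b = 0 ∧ ip a a' = 0 ∧ ip a b' = 0 ∧
    ip b a' = 0 ∧ ip b b' = 0 ∧ ip a' b' = 0
  orth : ∀ v, v = d ∨ v = t ∨ v = s → ip a v = 0 ∧ ip b v = 0 ∧ ip a' v = 0 ∧ ip b' v = 0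
  t1 : tr d b a a = tr d a b b
  l1 : tr d a' b t = 36 * p
  l2 : tr d b' a t = 0
  m1 : tr d a' b s = 0
  m2 : tr d b' a s = 36 * (k * p)
  q1 : tr d a t t - tr d b t t = 3 * (c * p)
  q2 : tr d a s s - tr d b s s = -3 * (k * c * (k * p))
  r1 : tr d a' t t + tr d b' t t = 6 * ρ * c * p
  r2 : tr d a' s s + tr d b' s s = 6 * ρ' * (k * c) * (k * p)
  r3 : tr d a' t s + tr d b' t s = 3 * (ρ + ρ') * c * (k * p)
  ne : p ≠ 0 ∧ c ≠ 0 ∧ k ≠ 0 ∧ ρ * ρ' = 0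

def rw8 : Fin 10 → ℤ × ℤ × ℤ × ℤ := ![(0, 0, 0, 0), (1, 1, 1, 1), (1, 1, 1, -1), (1, 1, -1, 1), (1, 1, -1, -1),
  (2, 2, 0, 0), (-2, 1, 0, -1), (-2, 1, 0, 1), (1, -2, -1, 0), (1, -2, 1, 0)]

theorem rw8_cases {a b a' b' d : ℤ} (h : 3 ∣ a - b ∧ 9 ∣ d + 4 * a + 4 * b ∧ 2 ∣ a - a' ∧ 2 ∣ b - b' ∧
    (a * b = 0 → 9 ∣ 2 * (a + b)) ∧ (9 ∣ d → 3 ∣ a' ∧ 3 ∣ b')) (n : a * a + b * b + 3 * (a' * a') + 3 * (b' * b') ≤ 18) :
    ∃ (k : Fin 10) (e : ℤ), (e = 1 ∨ e = -1) ∧ (e * a, e * b, e * a', e * b') = rw8 k := by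
  obtain ⟨h1, h2, h3, h4, h5, h6⟩ := h
  have h7 : a = 0 → b = 0 → 3 ∣ a' ∧ 3 ∣ b' := fun x y => h6 (by omega)
  have := mul_self_nonneg a; have := mul_self_nonneg b; have := mul_self_nonneg a'; have := mul_self_nonneg b'
  have key : ∀ a b a' b' : Fin 9, let x : ℤ := a - 4; let y : ℤ := b - 4; let x' : ℤ := a' - 4; let y' : ℤ := b' - 4
      x * x + y * y + 3 * (x' * x') + 3 * (y' * y') ≤ 18 → 3 ∣ x - y → 2 ∣ x - x' → 2 ∣ y - y' →
      (x * y = 0 → 9 ∣ 2 * (x + y)) → (x = 0 → y = 0 → 3 ∣ x' ∧ 3 ∣ y') →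
      ∃ k : Fin 10, (1 * x, 1 * y, 1 * x', 1 * y') = rw8 k ∨ (-1 * x, -1 * y, -1 * x', -1 * y') = rw8 k := by
    decide +kernel
  have ex : ∀ {x : ℤ}, x * x ≤ 18 → ∃ i : Fin 9, x = i - 4 := fun {x} hx =>
    ⟨⟨(x + 4).toNat, by have : x < 5 := by nlinarith
                        omega⟩, by have : -5 < x := by nlinarith
                                   simp only; omega⟩
  obtain ⟨i, rfl⟩ := ex (x := a) (by omega)
  obtain ⟨j, rfl⟩ := ex (x := b) (by omega)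
  obtain ⟨i', rfl⟩ := ex (x := a') (by omega)
  obtain ⟨j', rfl⟩ := ex (x := b') (by omega)
  obtain ⟨k, e | e⟩ := key i j i' j' n h1 h3 h4 h5 h7
  exacts [⟨k, 1, Or.inl rfl, e⟩, ⟨k, -1, Or.inr rfl, e⟩]

open Ree in
theorem D8H.main {a b a' b' d t s : I → ℤ} {i0 : I} {p c k ρ ρ' : ℚ} (h : D8H a b a' b' d t s i0 p c k ρ ρ') :
    ∃ i, d i = 1 ∧ a i = 1 ∧ b i = 1 ∧ a' i = -1 ∧ b' i = -1 := by
  classical
  obtain ⟨g1, g2, g3, g4, g5, g6, g7, g8, g9, g10⟩ := h.gram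
  have bd : ∀ i, a i * a i + b i * b i + 3 * (a' i * a' i) + 3 * (b' i * b' i) ≤ 18 := fun i => by
    have := sq_le_ip (a i • a + b i • b + (3 * a' i) • a' + (3 * b' i) • b') i
    simp only [ip_add, ip_add', ip_smul, ip_smul', g1, g2, g3, g4, g5, g6, g7, g8, g9, g10, ip_comm b a, ip_comm a' a,
      ip_comm b' a, ip_comm a' b, ip_comm b' b, ip_comm b' a', Pi.add_apply, Pi.smul_apply, smul_eq_mul] at this
    nlinarith
  choose ty ε hε hty using fun i => rw8_cases (h.row i) (bd i)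
  have εε : ∀ i, ε i * ε i = 1 := fun i => by rcases hε i with e | e <;> simp [e]
  have ea : ∀ i, ε i * a i = (rw8 (ty i)).1 := fun i => congrArg (·.1) (hty i)
  have eb : ∀ i, ε i * b i = (rw8 (ty i)).2.1 := fun i => congrArg (·.2.1) (hty i)
  have ea' : ∀ i, ε i * a' i = (rw8 (ty i)).2.2.1 := fun i => congrArg (·.2.2.1) (hty i)
  have eb' : ∀ i, ε i * b' i = (rw8 (ty i)).2.2.2 := fun i => congrArg (·.2.2.2) (hty i)
  have fl : ∀ u v : I → ℤ, ip u v = ∑ i, ε i * u i * (ε i * v i) := fun u v => sum_congr rfl fun i _ => by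
    linear_combination (-(u i * v i)) * εε i
  have cnt : ∀ F : ℤ × ℤ × ℤ × ℤ → ℤ, ∑ i, F (rw8 (ty i)) =
      ∑ k, ((univ.filter fun i => ty i = k).card : ℤ) * F (rw8 k) := fun F => by
    rw [← sum_fiberwise (g := ty)]
    exact sum_congr rfl fun k _ => by rw [sum_congr rfl fun i hi => by rw [(mem_filter.1 hi).2]]; simp
  have t0 : ty i0 = 1 ∧ ε i0 = 1 := by
    have := hty i0
    obtain ⟨x1, x2, x3, x4, -⟩ := h.one
    rw [x1, x2, x3, x4] at this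
    generalize ty i0 = k at this
    rcases hε i0 with e | e <;> rw [e] at this ⊢ <;> revert k <;> decide
  have n1 : 0 < (univ.filter fun i => ty i = 1).card := card_pos.2 ⟨i0, by simp [t0.1]⟩
  simp only [fl, ea, eb, ea', eb'] at g1 g2 g3 g4 g5 g6 g7 g8 g9 g10
  replace g1 := (cnt fun r => r.1 * r.1).symm.trans g1
  replace g2 := (cnt fun r => r.2.1 * r.2.1).symm.trans g2
  replace g3 := (cnt fun r => r.2.2.1 * r.2.2.1).symm.trans g3
  replace g4 := (cnt fun r => r.2.2.2 * r.2.2.2).symm.trans g4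
  replace g5 := (cnt fun r => r.1 * r.2.1).symm.trans g5
  replace g6 := (cnt fun r => r.1 * r.2.2.1).symm.trans g6
  replace g7 := (cnt fun r => r.1 * r.2.2.2).symm.trans g7
  replace g8 := (cnt fun r => r.2.1 * r.2.2.1).symm.trans g8
  replace g9 := (cnt fun r => r.2.1 * r.2.2.2).symm.trans g9
  replace g10 := (cnt fun r => r.2.2.1 * r.2.2.2).symm.trans g10
  simp only [Fin.sum_univ_succ, rw8, Matrix.cons_val_zero, Matrix.cons_val_succ, Fin.succ_zero_eq_one, Fin.succ_one_eq_two,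
    Fin.reduceSucc, univ_eq_empty, sum_empty] at g1 g2 g3 g4 g5 g6 g7 g8 g9 g10
  have n : ∀ k : Fin 10, k ≠ 0 → ∃ j, univ.filter (fun i => ty i = k) = {j} := fun k k0 => card_eq_one.1 (by
    fin_cases k <;> simp only [Fin.reduceFinMk, Fin.zero_eta, ne_eq, not_true] at k0 ⊢ <;> omega)
  have : Nonempty I := ⟨i0⟩
  clear g1 g2 g3 g4 g5 g6 g7 g8 g9 g10 cnt bd
  choose! j hj using n
  have tj : ∀ k, k ≠ 0 → ty (j k) = k := fun k k0 => (mem_filter.1 ((hj k k0).ge (mem_singleton_self _))).2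
  have j1 : j 1 = i0 := (mem_singleton.1 ((hj 1 (by decide)).le (mem_filter.2 ⟨mem_univ _, t0.1⟩))).symm
  have red : ∀ {M : Type} [AddCommMonoid M] (F : I → M), (∀ i, ty i = 0 → F i = 0) → ∑ i, F i =
      F (j 1) + F (j 2) + F (j 3) + F (j 4) + F (j 5) + F (j 6) + F (j 7) + F (j 8) + F (j 9) := fun F h0 => by
    rw [← sum_fiberwise (g := ty), Fin.sum_univ_succ, sum_eq_zero fun i hi => h0 i (mem_filter.1 hi).2,
      sum_congr rfl fun k _ => by rw [hj _ k.succ_ne_zero, sum_singleton]]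
    simp [Fin.sum_univ_succ, add_assoc]
  have ft : ∀ u v w : I → ℤ, tr d u v w = ∑ i, ((ε i * u i : ℤ) : ℚ) * (ε i * v i : ℤ) * (ε i * w i : ℤ) *
      ((ε i * d i : ℤ) : ℚ)⁻¹ := fun u v w => sum_congr rfl fun i _ => by
    rcases hε i with e | e <;> simp [e, div_eq_mul_inv]
  have o := h.orth
  obtain ⟨x1, x2, x3, x4⟩ := o d (by simp)
  obtain ⟨y1, y2, y3, y4⟩ := o t (by simp)
  obtain ⟨z1, z2, z3, z4⟩ := o s (by simp)
  have t1 := h.t1; have l1 := h.l1; have l2 := h.l2; have m1 := h.m1; have m2 := h.m2; have q1 := h.q1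
  have q2 := h.q2; have r1 := h.r1; have r2 := h.r2; have r3 := h.r3
  simp only [fl, ft, ea, eb, ea', eb'] at x1 x2 x3 x4 y1 y2 y3 y4 z1 z2 z3 z4 t1 l1 l2 m1 m2 q1 q2 r1 r2 r3
  rw [red _ fun i e => by simp [e, rw8]] at x1 x2 x3 x4 y1 y2 y3 y4 z1 z2 z3 z4 l1 l2 m1 m2
  rw [red _ fun i e => by simp [e, rw8], red _ fun i e => by simp [e, rw8]] at t1 q1 q2 r1 r2 r3
  have c6 := (h.row (j 6)).2.1.mul_left (ε (j 6))
  have c7 := (h.row (j 7)).2.1.mul_left (ε (j 7))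
  simp only [mul_add, mul_left_comm _ (4 : ℤ), ea, eb] at c6 c7
  simp only [tj 2 (by decide), tj 3 (by decide), tj 4 (by decide), tj 5 (by decide), tj 6 (by decide), tj 7 (by decide),
    tj 8 (by decide), tj 9 (by decide), j1, t0.1, t0.2, h.one, rw8, Matrix.cons_val] at x1 x2 x3 x4 y1 y2 y3 y4 z1 z2 z3 z4 t1 l1 l2 m1 m2 q1 q2 r1 r2 r3 c6 c7
  have dn : ∀ i, ((ε i * d i : ℤ) : ℚ) * ((ε i * d i : ℤ) : ℚ)⁻¹ = 1 := fun i => mul_inv_cancel₀ (by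
    have := h.d0 i; rcases hε i with e | e <;> simp [e] <;> omega)
  suffices ε (j 4) * d (j 4) = 1 by
    have e : ε (j 4) = 1 := (hε _).resolve_right fun e => by rw [e] at this; have := h.d0 (j 4); omega
    have k := hty (j 4)
    rw [tj 4 (by decide), e] at k
    simp only [rw8, Matrix.cons_val, one_mul, Prod.mk.injEq] at k
    exact ⟨j 4, by simpa [e] using this, k⟩
  have d2 := dn (j 2); have d4 := dn (j 4); have d6 := dn (j 6); have d7 := dn (j 7); have d8 := dn (j 8)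
  have d9 := dn (j 9)
  have hn := h.ne
  clear h o dn ft red fl ea eb ea' eb' hty εε hε tj hj n1 t0 j1
  generalize ε (j 2) * d (j 2) = D2, ε (j 3) * d (j 3) = D3, ε (j 4) * d (j 4) = D4, ε (j 5) * d (j 5) = D5,
    ε (j 6) * d (j 6) = D6, ε (j 7) * d (j 7) = D7, ε (j 8) * d (j 8) = D8, ε (j 9) * d (j 9) = D9 at *
  generalize ε (j 2) * t (j 2) = T2, ε (j 3) * t (j 3) = T3, ε (j 4) * t (j 4) = T4, ε (j 5) * t (j 5) = T5,
    ε (j 6) * t (j 6) = T6, ε (j 7) * t (j 7) = T7, ε (j 8) * t (j 8) = T8, ε (j 9) * t (j 9) = T9 at *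
  generalize ε (j 2) * s (j 2) = S2, ε (j 3) * s (j 3) = S3, ε (j 4) * s (j 4) = S4, ε (j 5) * s (j 5) = S5,
    ε (j 6) * s (j 6) = S6, ε (j 7) * s (j 7) = S7, ε (j 8) * s (j 8) = S8, ε (j 9) * s (j 9) = S9 at *
  obtain rfl : D9 = D6 + D7 - D8 := by omega
  have e1 : (D6 - D8) * (D7 - D8) = 0 := by
    have : (((D6 + D7) * ((D6 - D8) * (D7 - D8)) : ℤ) : ℚ) = 0 := by
      generalize (D6 : ℚ)⁻¹ = u6, (D7 : ℚ)⁻¹ = u7, (D8 : ℚ)⁻¹ = u8, ((D6 + D7 - D8 : ℤ) : ℚ)⁻¹ = u9 at *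
      push_cast at *
      linear_combination -(D6 * D7 * D8 * (D6 + D7 - D8) / 6) * t1 + D7 * D8 * (D6 + D7 - D8) * d6 +
        D6 * D8 * (D6 + D7 - D8) * d7 - D6 * D7 * (D6 + D7 - D8) * d8 - D6 * D7 * D8 * d9
    exact (mul_eq_zero.1 (by exact_mod_cast this)).resolve_left (by omega)
  by_contra n4
  obtain rfl : D8 = D6 := by rcases mul_eq_zero.1 e1 with e | e <;> omega
  obtain rfl : D3 = D2 := by omega
  simp only [add_sub_cancel_left] at *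
  obtain rfl : T2 = T3 + (T8 - T6) := by omega
  obtain rfl : S2 = S3 + (S8 - S6) := by omega
  push_cast at *
  exact d8_aux (t4 := T4) (t6 := T6) (t7 := T7) (t8 := T8) (t9 := T9) (δ := T8 - T6) (v := (D3 : ℚ)⁻¹) d4 d6 d7 S4 S6 S7 S8 S9
    (S8 - S6) k ρ ρ' (by exact_mod_cast (by omega : D8 - D7 = 1 - D4)) (by exact_mod_cast (by omega : D8 ≠ D7))
    hn.1 hn.2.1 hn.2.2.1 rfl (by exact_mod_cast (by omega : T7 - T9 = T8 - T6))
    (by exact_mod_cast (by omega : T6 + T8 - T7 - T9 = 2 - 2 * T4)) rfl (by exact_mod_cast (by omega : S7 - S9 = S8 - S6))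
    (by exact_mod_cast (by omega : S6 + S8 - S7 - S9 = 2 - 2 * S4)) (by linear_combination l1) (by linear_combination l2)
    (by linear_combination m1) (by linear_combination m2) (by linear_combination q1 / 3) (by linear_combination q2 / 3)
    (by linear_combination r1) (by linear_combination r2) (by linear_combination r3) hn.2.2.2

end H6
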