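import Cfsg.Agent.H6.Tri2
import Mathlib.GroupTheory.SemidirectProduct
import Mathlib.GroupTheory.SpecificGroups.Dihedral
/-! The model `W8 = 3² : D₈` with its class function `cid` and the structure constants needed for `D8H`. -/
set_option autoImplicit false
open Finset Subgroup DihedralGroup
namespace H6

def rot9 (k : ZMod 4) (v : V9) : V9 :=
  if k = 0 then v else if k = 1 then v9 v.toAdd.2 (-v.toAdd.1) else if k = 2 then v⁻¹ else v9 (-v.toAdd.2) v.toAdd.1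

def act8 : DihedralGroup 4 → V9 → V9
  | r k, v => rot9 k v
  | sr k, v => v9 (rot9 k v).toAdd.1 (-(rot9 k v).toAdd.2)

@[reducible] def mda8 : MulDistribMulAction (DihedralGroup 4) V9 where
  smul := act8
  one_smul := by decide
  mul_smul := by decide +kernel
  smul_one := by decide
  smul_mul := by decide +kernel

def φ8 : DihedralGroup 4 →* MulAut V9 := @MulDistribMulAction.toMulAut _ _ _ _ mda8

abbrev W8 : Type := V9 ⋊[φ8] DihedralGroup 4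

instance instFintypeW8 : Fintype W8 := Fintype.ofEquiv _ SemidirectProduct.equivProd.symm

def cid (m : W8) : ℕ :=
  match m.right with
  | r k => if k = 0 then (if m.left = 1 then 0 else if xs m.left then 1 else 2) else if k = 2 then 7 else 8
  | sr k => if k = 0 ∨ k = 2 then (if m * m = 1 then 5 else 3) else if m * m = 1 then 6 else 4

def rep8 : ℕ → W8
  | 0 => 1
  | 1 => ⟨v9 1 0, 1⟩
  | 2 => ⟨v9 1 1, 1⟩
  | 3 => ⟨v9 1 0, sr 0⟩
  | 4 => ⟨v9 1 1, sr 1⟩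
  | 5 => ⟨1, sr 0⟩
  | 6 => ⟨1, sr 1⟩
  | 7 => ⟨1, r 2⟩
  | _ => ⟨1, r 1⟩

theorem cid_conj : ∀ c m : W8, cid (c * m * c⁻¹) = cid m := by decide +kernel

theorem conj_rep : ∀ m : W8, ∃ c, c * rep8 (cid m) * c⁻¹ = m := by decide +kernel

theorem isConj_iff_cid {m m' : W8} : IsConj m m' ↔ cid m = cid m' :=
  ⟨fun h => by obtain ⟨c, rfl⟩ := isConj_iff.1 h; rw [cid_conj],
    fun h => (isConj_iff.2 (conj_rep m)).symm.trans (h ▸ isConj_iff.2 (conj_rep m'))⟩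

theorem card_cent8 : ∀ i ∈ [1, 2, 3, 4], (univ.filter fun c => c * rep8 i = rep8 i * c).card = if i ≤ 2 then 18 else 6 := by
  decide +kernel

/-- the classes fused to `r` (`k = 5`) or `r'` (`k = 6`) -/
def fus (k : ℕ) (ρ : Bool) (m : W8) : Prop := cid m = k ∨ cid m = 7 ∧ ρ
instance instDecFus (k : ℕ) (ρ : Bool) : DecidablePred (fus k ρ) := fun _ => by unfold fus; infer_instance

def cn1 (i j k : ℕ) (ρ : Bool) : ℕ := (univ.filter fun m => cid m = j ∧ fus k ρ (m * rep8 i)⁻¹).card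
def cn2 (i j k : ℕ) (ρ σ : Bool) : ℕ := (univ.filter fun m => fus j ρ m ∧ fus k σ (m * rep8 i)⁻¹).card

theorem cn1_eq : ∀ ρ, cn1 3 2 5 ρ = 2 ∧ cn1 4 1 5 ρ = 0 ∧ cn1 3 2 6 ρ = 0 ∧ cn1 4 1 6 ρ = 2 := by decide +kernel

theorem cn2_eq : ∀ ρ, cn2 1 5 5 ρ ρ = cn2 2 5 5 ρ ρ + 3 ∧ cn2 1 6 6 ρ ρ + 3 = cn2 2 6 6 ρ ρ ∧
    cn2 3 5 5 ρ ρ + cn2 4 5 5 ρ ρ = 6 * ρ.toNat ∧ cn2 3 6 6 ρ ρ + cn2 4 6 6 ρ ρ = 6 * ρ.toNat ∧
    ∀ σ, cn2 3 5 6 ρ σ + cn2 4 5 6 ρ σ = 3 * (ρ.toNat + σ.toNat) := by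
  decide +kernel

end H6
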