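import Cfsg.Agent.H6.Tri3
import Cfsg.Agent.H6.Tri4
import Cfsg.Agent.H5.FS
/-! A strongly embedded `3² : D₈`: fusion, structure constants and the existence of a linear character
(`Eight.exists_hom`). -/
set_option autoImplicit false
open H5 Cfsg Finset Subgroup DihedralGroup SemidirectProduct
open scoped ComplexConjugate
namespace H6

variable {G : Type*} [Group G]

theorem TS.le_of_pgroup [Finite G] {P : Sylow 3 G} {H Q : Subgroup G} (h : TS P H) (hQ : IsPGroup 3 Q) {j : G} (jQ : j ∈ Q)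
    (jP : j ∈ (P : Subgroup G)) (j1 : j ≠ 1) : Q ≤ P := by
  obtain ⟨R, hR⟩ := hQ.exists_le_sylow
  obtain ⟨g, rfl⟩ := MulAction.exists_smul_eq G P R
  have k : ∀ q ∈ Q, g⁻¹ * q * g⁻¹⁻¹ ∈ (P : Subgroup G) := fun q hq => by
    have := hR hq
    rwa [Sylow.coe_subgroup_smul, mem_pointwise_smul_iff_inv_smul_mem, ← map_inv] at this
  intro q hq
  simpa [mul_assoc] using (h.norm g).1 (inv_mem_iff.1 (h.ti jP j1 (k j jQ))) _ (k q hq)

structure Eight (P : Sylow 3 G) (ι : W8 →* G) : Prop where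
  inj : Function.Injective ι
  ts : TS P ι.range
  rng : (ι.comp inl).range = P

theorem cid_pow4 : ∀ m : W8, 1 ≤ cid m → cid m ≤ 4 → m ^ 4 ≠ 1 ∧ ∃ v, inl v = m ^ 4 := by decide +kernel

namespace Eight

variable {P : Sylow 3 G} {ι : W8 →* G} (h : Eight P ι)
include h

theorem mem (v : V9) : ι (inl v) ∈ (P : Subgroup G) := h.rng ▸ ⟨v, rfl⟩

theorem ctl {m : W8} {g : G} (h1 : 1 ≤ cid m) (h4 : cid m ≤ 4) (e : g * ι m * g⁻¹ ∈ ι.range) : g ∈ ι.range := by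
  obtain ⟨a, v, b⟩ := cid_pow4 m h1 h4
  refine h.ts.ti (h.mem v) (b ▸ (map_ne_one_iff ι h.inj).2 a) (h.ts.syl _ ?_ (by rw [conj_pow, h.ts.cube _ (h.mem v)]; simp))
  rw [b, map_pow, ← conj_pow]; exact pow_mem e 4

theorem conj_iff {m : W8} (h1 : 1 ≤ cid m) (h4 : cid m ≤ 4) (m' : W8) : IsConj (ι m) (ι m') ↔ cid m = cid m' := by
  rw [← isConj_iff_cid]
  refine ⟨fun k => ?_, ι.map_isConj⟩
  obtain ⟨g, e⟩ := isConj_iff.1 k
  obtain ⟨c, rfl⟩ := h.ctl h1 h4 (g := g) ⟨m', e.symm⟩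
  exact isConj_iff.2 ⟨c, h.inj (by simp [e])⟩

theorem card_cent {i : ℕ} (hi : i ∈ [1, 2, 3, 4]) :
    Nat.card (centralizer ({ι (rep8 i)} : Set G)) = if i ≤ 2 then 18 else 6 := by
  have : 1 ≤ cid (rep8 i) ∧ cid (rep8 i) ≤ 4 := by revert i; decide
  rw [← card_cent8 i hi, ← Fintype.card_subtype, ← Nat.card_eq_fintype_card]
  refine (Nat.card_eq_of_bijective (fun c : {c // c * rep8 i = rep8 i * c} => (⟨ι c, mem_centralizer_singleton_iff.2 (by
    rw [← map_mul, c.2, map_mul])⟩ : centralizer ({ι (rep8 i)} : Set G)))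
    ⟨fun _ _ e => Subtype.ext (h.inj (congrArg Subtype.val e)), fun ⟨g, hg⟩ => ?_⟩).symm
  have e := mem_centralizer_singleton_iff.1 hg
  obtain ⟨c, rfl⟩ := h.ctl this.1 this.2 (g := g) ⟨rep8 i, by rw [e]; simp⟩
  exact ⟨⟨c, h.inj (by simp [e])⟩, rfl⟩

theorem two : Two (ι.comp inl) where
  inj := h.inj.comp inl_injective
  cx v := (h.conj_iff (by decide) (by decide) _).trans (by revert v; decide)
  cy v := (h.conj_iff (by decide) (by decide) _).trans (by revert v; decide)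

variable [Finite G]

theorem nc : ¬ IsConj (ι (rep8 5)) (ι (rep8 6)) := fun k => by
  obtain ⟨g, e⟩ := isConj_iff.1 k
  let C := centralizer ({ι (rep8 6)} : Set G)
  have p : ∀ x : C, x ^ 3 = 1 → ∃ Q : Sylow 3 C, x ∈ Q := fun x hx => by
    obtain ⟨Q, hQ⟩ := (IsPGroup.of_card_dvd_pow (p := 3) (G := zpowers x) (n := 1) (by
      rw [Nat.card_zpowers, pow_one]; exact orderOf_dvd_of_pow_eq_one hx)).exists_le_sylow
    exact ⟨Q, hQ (mem_zpowers x)⟩
  obtain ⟨Q, hQ⟩ := p ⟨g * ι (rep8 1) * g⁻¹, mem_centralizer_singleton_iff.2 (by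
    rw [← e, conj_mul, conj_mul, ← map_mul, ← map_mul]; rfl)⟩ (Subtype.ext (by
      rw [SubgroupClass.coe_pow, conj_pow, ← map_pow, show rep8 1 ^ 3 = 1 by decide]; simp))
  obtain ⟨R, hR⟩ := p ⟨ι (rep8 2), mem_centralizer_singleton_iff.2 (by rw [← map_mul, ← map_mul]; rfl)⟩ (Subtype.ext (by
      rw [SubgroupClass.coe_pow, ← map_pow, show rep8 2 ^ 3 = 1 by decide]; simp))
  obtain ⟨c, rfl⟩ := MulAction.exists_smul_eq C Q R
  have := h.ts.le_of_pgroup ((c • Q).isPGroup'.map C.subtype) (mem_map_of_mem _ hR) (h.mem (v9 1 1))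
    ((map_ne_one_iff ι h.inj).2 (by decide)) (mem_map_of_mem _ (smul_mem_pointwise_smul _ (MulAut.conj c) _ hQ))
  obtain ⟨v, hv⟩ := h.rng ▸ this
  have c1 := (h.conj_iff (m := rep8 1) (by decide) (by decide) (inl v)).1 (isConj_iff.2 ⟨c * g, by
    refine Eq.trans ?_ hv.symm; simp [mul_assoc]⟩)
  have c2 : inl v * rep8 6 = rep8 6 * inl v := h.inj (by
    rw [map_mul, map_mul]; exact mem_centralizer_singleton_iff.1 (by erw [hv]; exact SetLike.coe_mem _))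
  clear hv; revert v c1 c2; decide

theorem exists_fus : ∃ ρ σ : Bool, (∀ m, IsConj (ι (rep8 5)) (ι m) ↔ fus 5 ρ m) ∧
    (∀ m, IsConj (ι (rep8 6)) (ι m) ↔ fus 6 σ m) ∧ (ρ && σ) = false := by
  classical
  have k : ∀ i j, i = 5 ∧ j = 6 ∨ i = 6 ∧ j = 5 → ¬ IsConj (ι (rep8 i)) (ι (rep8 j)) → ∀ m, IsConj (ι (rep8 i)) (ι m) ↔
      fus i (decide (IsConj (ι (rep8 i)) (ι (rep8 7)))) m := fun i j ij n m => by
    have c : IsConj (ι (rep8 (cid m))) (ι m) := ι.map_isConj (isConj_iff.2 (conj_rep m))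
    rw [fus, decide_eq_true_eq]
    refine ⟨fun k => ?_, fun k => k.elim (fun k => k ▸ c) fun k => k.2.trans (k.1 ▸ c)⟩
    have : cid m = 5 ∨ cid m = 6 ∨ cid m = 7 := by
      have a : rep8 i ^ 2 = 1 ∧ rep8 i ≠ 1 := by rcases ij with ⟨rfl, -⟩ | ⟨rfl, -⟩ <;> decide
      refine (by decide : ∀ m : W8, m ^ 2 = 1 → m ≠ 1 → cid m = 5 ∨ cid m = 6 ∨ cid m = 7) m (h.inj ?_) ?_
      · rw [map_pow, map_one, ← isConj_one_right, ← map_one ι, ← a.1, map_pow]; exact k.pow 2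
      · rintro rfl; exact a.2 (h.inj ((isConj_one_left.1 (map_one ι ▸ k)).trans (map_one ι).symm))
    rcases ij with ⟨rfl, rfl⟩ | ⟨rfl, rfl⟩ <;> rcases this with e | e | e <;> rw [e] at c <;>
      first | exact Or.inl e | exact Or.inr ⟨e, k.trans c.symm⟩ | exact (n (k.trans c.symm)).elim
  refine ⟨_, _, k 5 6 (by simp) h.nc, k 6 5 (by simp) fun e => h.nc e.symm, ?_⟩
  simpa using fun (a : IsConj _ _) (b : IsConj _ _) => h.nc (a.trans b.symm)

theorem tc1 {i j : ℕ} (ij : i = 3 ∧ j = 2 ∨ i = 4 ∧ j = 1) {k : ℕ} {ρ : Bool} (k2 : rep8 k ^ 2 = 1)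
    (f : ∀ m, IsConj (ι (rep8 k)) (ι m) ↔ fus k ρ m) : tc (ι (rep8 i)) (ι (rep8 j)) (ι (rep8 k)) =
    cn1 i j k ρ * 18 * Nat.card (centralizer ({ι (rep8 k)} : Set G)) := by
  have a : j ∈ [1, 2, 3, 4] ∧ j ≤ 2 ∧ 1 ≤ cid (rep8 j) ∧ cid (rep8 j) ≤ 4 ∧ cid (rep8 j) = j ∧ rep8 j ^ 3 = 1 ∧
      ∃ v, v ≠ 1 ∧ inl v = rep8 i * rep8 i ∧ cid (rep8 j) ≠ cid (inl v) := by
    rcases ij with ⟨rfl, rfl⟩ | ⟨rfl, rfl⟩ <;> decide
  obtain ⟨a1, a2, a3, a4, a5, a6, v, v1, e, n⟩ := a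
  rw [tc_count h.inj _ _ _ (fun b' h1 h2 => ?_) (fun m => cid m = j ∧ fus k ρ (m * rep8 i)⁻¹)
    fun m => by rw [h.conj_iff a3 a4, f, a5, eq_comm], h.card_cent a1, if_pos a2, cn1]
  have b3 : ι (rep8 j) ^ 3 = 1 := by rw [← map_pow, a6, map_one]
  have b2 := h2.pow 2
  rw [← map_pow, k2, map_one, isConj_one_right, inv_pow, inv_eq_one, sq] at b2
  have := h.ts.tri' (b' := ι (rep8 i) * b' * (ι (rep8 i))⁻¹) (h.mem v) ((map_ne_one_iff _ h.two.inj).2 v1) b3 b3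
    (fun k => n ((h.conj_iff a3 a4 _).1 k.1.symm)) (h1.trans (isConj_iff.2 ⟨_, rfl⟩)) (by
      rw [e, map_mul, inv_eq_of_mul_eq_one_left (a := b') (by rw [← b2]; group)]; exact h1)
  simpa [mul_assoc] using mul_mem (mul_mem (inv_mem (ι.mem_range.2 ⟨rep8 i, rfl⟩)) (h.ts.le this)) (ι.mem_range.2 ⟨rep8 i, rfl⟩)

theorem tc2 {i : ℕ} (hi : i ∈ [1, 2, 3, 4]) {j k : ℕ} {ρ σ : Bool} (j2 : rep8 j ^ 2 = 1) (k2 : rep8 k ^ 2 = 1)
    (f : ∀ m, IsConj (ι (rep8 j)) (ι m) ↔ fus j ρ m) (f' : ∀ m, IsConj (ι (rep8 k)) (ι m) ↔ fus k σ m) :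
    tc (ι (rep8 i)) (ι (rep8 j)) (ι (rep8 k)) = cn2 i j k ρ σ * Nat.card (centralizer ({ι (rep8 j)} : Set G)) *
      Nat.card (centralizer ({ι (rep8 k)} : Set G)) := by
  have a : 1 ≤ cid (rep8 i) ∧ cid (rep8 i) ≤ 4 := by revert i; decide
  rw [tc_count h.inj _ _ _ (fun b' h1 h2 => ?_) _ fun m => by rw [f, f'], cn2]
  have b1 := h1.pow 2
  have b2 := h2.pow 2
  rw [← map_pow, k2, map_one, isConj_one_right, inv_pow, inv_eq_one, sq] at b2
  rw [← map_pow, j2, map_one, isConj_one_right, sq] at b1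
  refine h.ctl a.1 a.2 ⟨(rep8 i)⁻¹, ?_⟩
  rw [inv_eq_of_mul_eq_one_right b1, map_inv, inv_eq_of_mul_eq_one_left (by rw [← b2, mul_assoc, mul_assoc])]

open Classical in
theorem nine (χ : G → ℂ) (hχ : IsIrrCharacter G χ) (e : χ (ι (rep8 1)) * χ (ι (rep8 2)) = 0) :
    IsIntegral ℤ (2 * (χ (ι (rep8 1)) + χ (ι (rep8 2))) / 9) := by
  have := Fintype.ofFinite G
  let f : G → ℂ := fun x => χ (x * ι (rep8 2))
  have k : ∀ S : Finset G, (∀ x ∈ S, x ^ 3 = 1 ∧ x ∉ (P : Subgroup G) ∧ ∀ v, ι (inl v) * x * (ι (inl v))⁻¹ ∈ S) →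
      IsIntegral ℤ ((∑ x ∈ S, f x) / 9) := fun S => by
    induction S using Finset.strongInduction with | H S ih =>
    intro hS
    rcases S.eq_empty_or_nonempty with rfl | ⟨x, hx⟩
    · simpa using isIntegral_zero
    obtain ⟨x3, xP, xS⟩ := hS x hx
    let O := univ.image fun v : V9 => ι (inl v) * x * (ι (inl v))⁻¹
    have hO : O ⊆ S := fun y hy => by obtain ⟨v, -, rfl⟩ := mem_image.1 hy; exact xS v
    have e1 : ∑ y ∈ O, f y = 9 * f x := by
      rw [sum_image fun v _ w _ e => ?_, sum_congr rfl (g := fun _ => f x) fun v _ => ?_]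
      · simp
      · refine hχ.isClassFunction.eq_of_isConj (isConj_iff.2 ⟨(ι (inl v))⁻¹, ?_⟩)
        simp only [mul_assoc, inv_inv, inv_mul_cancel_left]
        erw [h.ts.comm _ (h.mem (v9 1 1)) _ (h.mem v), inv_mul_cancel_left]; rfl
      by_contra n
      refine xP (h.ts.syl x (h.ts.cent _ (h.mem (w⁻¹ * v)) ((map_ne_one_iff _ h.two.inj).2 (by
        rwa [Ne, inv_mul_eq_one, eq_comm])) x ?_) x3)
      simp only [map_mul, map_inv, mul_assoc]
      rw [mul_inv_eq_iff_eq_mul.1 e]; group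
    rw [← sum_sdiff hO, e1, add_div, mul_div_cancel_left₀ _ (by norm_num)]
    refine (ih _ (sdiff_ssubset hO ⟨_, mem_image_of_mem _ (mem_univ 1)⟩) fun y hy => ?_).add (hχ.isCharacter.isIntegral _)
    obtain ⟨y1, y2⟩ := mem_sdiff.1 hy
    refine ⟨(hS y y1).1, (hS y y1).2.1, fun v => mem_sdiff.2 ⟨(hS y y1).2.2 v, fun hv => y2 ?_⟩⟩
    obtain ⟨w, -, hw⟩ := mem_image.1 hv
    refine mem_image.2 ⟨v⁻¹ * w, mem_univ _, ?_⟩
    simp only [map_mul, map_inv]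
    calc _ = (ι (inl v))⁻¹ * (ι (inl w) * x * (ι (inl w))⁻¹) * ι (inl v) := by group
      _ = y := by rw [hw]; group
  have s := (hχ.sum_conj_mul (ι (rep8 1)) (ι (rep8 2))).symm.trans (sum_conj_eq f _)
  rw [mul_assoc, e, mul_zero, zero_div, nsmul_eq_mul, eq_comm, mul_eq_zero, or_iff_right card_ne_zero_complex,
    ← sum_filter_add_sum_filter_not _ (· ∈ (P : Subgroup G)), add_eq_zero_iff_eq_neg] at s
  have s2 : ∑ x ∈ (univ.filter (IsConj (ι (rep8 1)))).filter (· ∈ (P : Subgroup G)), f x =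
      ∑ v ∈ univ.filter xs, f (ι (inl v)) := by
    refine (sum_bij (fun v _ => ι (inl v)) (fun v hv => ?_) (fun _ _ _ _ e => h.two.inj e) (fun x hx => ?_) fun _ _ => rfl).symm
    · exact mem_filter.2 ⟨mem_filter.2 ⟨mem_univ _, (h.two.cx v).2 (mem_filter.1 hv).2⟩, h.mem v⟩
    · obtain ⟨v, rfl⟩ := h.rng ▸ (mem_filter.1 hx).2
      exact ⟨v, mem_filter.2 ⟨mem_univ _, (h.two.cx v).1 (mem_filter.1 (mem_filter.1 hx).1).2⟩, rfl⟩
  have c : ∀ m, χ (ι m) = χ (ι (rep8 (cid m))) := fun m =>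
    (hχ.isClassFunction.eq_of_isConj (ι.map_isConj (isConj_iff.2 (conj_rep m)))).symm
  have s3 : ∑ v ∈ univ.filter xs, f (ι (inl v)) = 2 * (χ (ι (rep8 1)) + χ (ι (rep8 2))) := by
    rw [show univ.filter xs = {v9 1 0, v9 2 0, v9 0 1, v9 0 2} by decide, sum_insert (by decide), sum_insert (by decide),
      sum_pair (by decide)]
    simp only [f, ← map_mul]
    rw [c (inl (v9 1 0) * _), c (inl (v9 2 0) * _), c (inl (v9 0 1) * _), c (inl (v9 0 2) * _)]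
    change χ (ι (rep8 2)) + (χ (ι (rep8 1)) + (χ (ι (rep8 2)) + χ (ι (rep8 1)))) = _
    ring
  rw [← s3, ← s2, s, neg_div]
  refine (k _ fun x hx => ?_).neg
  simp only [mem_filter, mem_univ, true_and] at hx ⊢
  refine ⟨?_, hx.2, fun v => ⟨hx.1.trans (isConj_iff.2 ⟨_, rfl⟩), fun k => hx.2 ?_⟩⟩
  · have := hx.1.pow 3
    rwa [← map_pow, show rep8 1 ^ 3 = 1 by decide, map_one, isConj_one_right] at this
  · simpa [mul_assoc] using mul_mem (mul_mem (inv_mem (h.mem v)) k) (h.mem v)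

theorem exists_hom : ∃ f : G →* ℂˣ, f (ι (rep8 1)) = 1 ∧ f (ι (rep8 2)) = 1 ∧ f (ι (rep8 3)) = -1 ∧
    f (ι (rep8 4)) = -1 := by
  classical
  have := Fintype.ofFinite G
  have : ∀ (i : ℕ) (χ : IrrCharacter G), ∃ n : ℤ, i ≤ 6 → (n : ℂ) = (χ : G → ℂ) (ι (rep8 i)) := fun i χ => by
    by_cases hi : i ≤ 6
    · have : rep8 i ^ 6 = 1 ∧ cid (rep8 i) = cid (rep8 i)⁻¹ := by revert i; decide
      exact (exists_int_of_conj (by rw [← map_pow, this.1, map_one])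
        (map_inv ι _ ▸ ι.map_isConj (isConj_iff_cid.2 this.2)) χ).imp fun _ e _ => e
    · exact ⟨0, fun k => (hi k).elim⟩
  choose X hX using this
  have d : ∀ χ, (X 0 χ : ℂ) = (χ : G → ℂ) 1 := fun χ => (hX 0 χ (by omega)).trans (congrArg _ (map_one ι))
  have d' : ∀ χ, X 0 χ = charDegree (χ : G → ℂ) := fun χ => by exact_mod_cast (d χ).trans χ.2.coe_charDegree.symm
  have g0 : (Nat.card G : ℚ) ≠ 0 := Nat.cast_ne_zero.2 Nat.card_pos.ne'
  have tr1 : ∀ i ≤ 6, ∀ j ≤ 6, ∀ k ≤ 6, tr (X 0) (X i) (X j) (X k) =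
      tc (ι (rep8 i)) (ι (rep8 j)) (ι (rep8 k)) / Nat.card G := fun i hi j hj k hk => by
    have := tc_eq (ι (rep8 i)) (ι (rep8 j)) (ι (rep8 k))
    simp only [← hX i _ hi, ← hX j _ hj, ← hX k _ hk, ← d] at this
    rw [eq_div_iff g0, mul_comm, tr]; exact_mod_cast this.symm
  have ip1 : ∀ i ∈ [1, 2, 3, 4], ∀ j ≤ 6, Ree.ip (X i) (X j) = if i = j then if i ≤ 2 then 18 else 6 else 0 :=
    fun i hi j hj => by
    have a : 1 ≤ cid (rep8 i) ∧ cid (rep8 i) ≤ 4 ∧ i ≤ 6 ∧ (cid (rep8 i) = cid (rep8 j) ↔ i = j) := by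
      revert i j; decide
    have := column_orthogonality (ι (rep8 i)) (ι (rep8 j))
    simp only [← hX i _ a.2.2.1, ← hX j _ hj, map_intCast, h.conj_iff a.1 a.2.1, a.2.2.2, h.card_cent hi] at this
    rw [Ree.ip]; exact_mod_cast this
  obtain ⟨ρ, σ, f5, f6, hρ⟩ := h.exists_fus
  have k5 : rep8 5 ^ 2 = 1 := by decide
  have k6 : rep8 6 ^ 2 = 1 := by decide
  obtain ⟨a, b, ha, hb, hab⟩ := h.two.vals
  obtain rfl : X 1 = a := funext fun χ => Int.cast_injective (α := ℂ) ((hX 1 χ (by omega)).trans (ha χ).symm)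
  obtain rfl : X 2 = b := funext fun χ => Int.cast_injective (α := ℂ) ((hX 2 χ (by omega)).trans (hb χ).symm)
  have par : ∀ i j, i ≤ 6 → j ≤ 6 → cid (rep8 j * rep8 j) = cid (rep8 i) → ∀ χ, 2 ∣ X i χ - X j χ := fun i j hi hj e χ => by
    have := χ.2.isCharacter.altSq.isIntegral (ι (rep8 j))
    rw [← map_mul, χ.2.isClassFunction.eq_of_isConj (ι.map_isConj (isConj_iff_cid.2 e)), ← hX i χ hi, ← hX j χ hj] at this
    have := int_dvd_of_isIntegral_div (a := X j χ ^ 2 - X i χ) (b := 2) (by norm_num) (by exact_mod_cast this)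
    have := (Int.even_mul_pred_self (X j χ)).two_dvd
    rw [mul_sub, ← sq] at this; omega
  have cen : ∀ i ∈ [3, 4], ∀ χ, 9 ∣ X 0 χ → 3 ∣ X i χ := fun i hi χ k => by
    have a : i ∈ [1, 2, 3, 4] ∧ ¬ i ≤ 2 ∧ i ≤ 6 := by revert i; decide
    have := χ.2.isIntegral_centralChar (ι (rep8 i))
    rw [centralChar, ← hX i χ a.2.2, ← d] at this
    have := k.trans (int_dvd_of_isIntegral_div (a := (centralizer ({ι (rep8 i)} : Set G)).index * X i χ) (b := X 0 χ)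
      (by rw [d']; exact_mod_cast χ.2.charDegree_pos.ne') (by exact_mod_cast this))
    have c1 := (centralizer ({ι (rep8 i)} : Set G)).card_mul_index
    have c2 := (P : Subgroup G).card_mul_index
    have c3 := P.not_dvd_index
    rw [h.card_cent a.1, if_neg a.2.1] at c1
    rw [← h.rng, ← Nat.card_congr ((ι.comp inl).ofInjective h.two.inj).toEquiv, show Nat.card V9 = 9 by simp, h.rng] at c2
    obtain ⟨n, hn⟩ : 3 ∣ (centralizer ({ι (rep8 i)} : Set G)).index := by omega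
    rw [hn, Nat.cast_mul, mul_assoc, show (9 : ℤ) = (3 : ℕ) * 3 by norm_num, mul_dvd_mul_iff_left (by norm_num)] at this
    exact (Int.prime_three.dvd_or_dvd this).resolve_left (by omega)
  let c : ℚ := Nat.card (centralizer ({ι (rep8 5)} : Set G))
  let c' : ℚ := Nat.card (centralizer ({ι (rep8 6)} : Set G))
  have c0 : c ≠ 0 := Nat.cast_ne_zero.2 Nat.card_pos.ne'
  have c0' : c' ≠ 0 := Nat.cast_ne_zero.2 Nat.card_pos.ne'
  obtain ⟨n1, n2, n3, n4⟩ := cn1_eq ρ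
  obtain ⟨-, -, n3, n4⟩ := cn1_eq σ
  obtain ⟨m1, -, m3, -, m5⟩ := cn2_eq ρ
  obtain ⟨-, m2, -, m4, -⟩ := cn2_eq σ
  have m5 := m5 σ
  have H : D8H (X 1) (X 2) (X 3) (X 4) (X 0) (X 5) (X 6) (irrOne G) (c / Nat.card G) c (c' / c) ρ.toNat σ.toNat := by
    have o : ∀ i ≤ 6, X i (irrOne G) = 1 := fun i hi => Int.cast_injective (α := ℂ) (by simp [hX i _ hi])
    refine ⟨fun χ => by rw [d']; exact_mod_cast χ.2.charDegree_pos, by simp [o], fun χ => ⟨(hab χ).2, ?_,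
      par _ _ (by omega) (by omega) (by decide) χ, par _ _ (by omega) (by omega) (by decide) χ, fun e => ?_,
      fun e => ⟨cen _ (by simp) χ e, cen _ (by simp) χ e⟩⟩, by simp [ip1], ?_, ?_, ?_, ?_, ?_, ?_, ?_, ?_, ?_, ?_, ?_,
      ⟨div_ne_zero c0 g0, c0, div_ne_zero c0' c0, by cases ρ <;> cases σ <;> simp_all⟩⟩
    · obtain ⟨n, hn⟩ := (hab χ).1
      exact ⟨n, d' χ ▸ hn⟩
    · have := h.nine χ χ.2 (by rw [← hX 1 χ (by omega), ← hX 2 χ (by omega)]; exact_mod_cast e)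
      rw [← hX 1 χ (by omega), ← hX 2 χ (by omega)] at this
      exact int_dvd_of_isIntegral_div (by norm_num) (by exact_mod_cast this)
    · rintro v (rfl | rfl | rfl) <;> simp [ip1]
    · have o : ∀ v, v ≠ 1 → ι (inl v) ≠ 1 := fun v => (map_ne_one_iff _ h.two.inj).2
      have t1 := tc_count h.two.inj (v9 1 1) (ι (rep8 1)) (ι (rep8 1)) (fun b' => h.rng ▸ h.ts.tri' (h.mem _)
        (o _ (by decide)) (h.ts.cube _ (h.mem (v9 1 0))) (h.ts.cube _ (h.mem (v9 1 0))) fun k => h.two.nc k.1.symm)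
        (fun v => xs v ∧ xs (v * v9 1 1)⁻¹) fun v => by rw [← h.two.cx, ← h.two.cx]; rfl
      have t2 := tc_count h.two.inj (v9 1 0) (ι (rep8 2)) (ι (rep8 2)) (fun b' => h.rng ▸ h.ts.tri' (h.mem _)
        (o _ (by decide)) (h.ts.cube _ (h.mem (v9 1 1))) (h.ts.cube _ (h.mem (v9 1 1))) fun k => h.two.nc k.1)
        (fun v => ys v ∧ ys (v * v9 1 0)⁻¹) fun v => by rw [← h.two.cy, ← h.two.cy]; rfl
      rw [h.card_cent (by simp), show card _ = 2 by decide] at t1 t2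
      rw [tr1 _ (by omega) _ (by omega) _ (by omega), tr1 _ (by omega) _ (by omega) _ (by omega)]
      exact congrArg (fun n : ℕ => (n : ℚ) / _) (t1.trans t2.symm)
    all_goals simp (disch := omega) only [tr1]
    · rw [h.tc1 (by simp) k5 f5, n1]; push_cast; ring
    · rw [h.tc1 (by simp) k5 f5, n2]; simp
    · rw [h.tc1 (by simp) k6 f6, n3]; simp
    · rw [h.tc1 (by simp) k6 f6, n4]; push_cast; field_simp; ring
    · rw [h.tc2 (by simp) k5 k5 f5 f5, h.tc2 (by simp) k5 k5 f5 f5, m1]; push_cast; ring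
    · rw [h.tc2 (by simp) k6 k6 f6 f6, h.tc2 (by simp) k6 k6 f6 f6, ← m2]; push_cast; field_simp; ring
    · rw [h.tc2 (by simp) k5 k5 f5 f5, h.tc2 (by simp) k5 k5 f5 f5, ← add_div, ← Nat.cast_add, ← add_mul, ← add_mul, m3]
      push_cast; ring
    · rw [h.tc2 (by simp) k6 k6 f6 f6, h.tc2 (by simp) k6 k6 f6 f6, ← add_div, ← Nat.cast_add, ← add_mul, ← add_mul, m4]
      push_cast; field_simp; ring
    · rw [h.tc2 (by simp) k5 k6 f5 f6, h.tc2 (by simp) k5 k6 f5 f6, ← add_div, ← Nat.cast_add, ← add_mul, ← add_mul, m5]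
      push_cast; field_simp; ring
  obtain ⟨χ, e0, e1, e2, e3, e4⟩ := H.main
  obtain ⟨f, hf⟩ := χ.2.isCharacter.exists_hom_of_apply_one (by rw [← d, e0]; simp)
  have k : ∀ i ≤ 6, (f (ι (rep8 i)) : ℂ) = X i χ := fun i hi => by rw [hX i χ hi, hf]
  exact ⟨f, Units.ext (by simp [k, e1]), Units.ext (by simp [k, e2]), Units.ext (by simp [k, e3]),
    Units.ext (by simp [k, e4])⟩

end Eight

end H6
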