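import Cfsg.Agent.H6.Tri5
import Cfsg.Agent.H2.AutAlt
/-! Higman's characterization of `S₆` by a strongly embedded `3² : D₈` (`Eight.main`, `d8_main`). -/
set_option autoImplicit false
open H5 Cfsg Finset Subgroup DihedralGroup SemidirectProduct
namespace H6

variable {G : Type*} [Group G]

theorem cent_cid : ∀ (v : V9) (c : W8), v ≠ 1 → c * inl v = inl v * c → (∃ w, inl w = c) ∨ cid c = 3 ∨ cid c = 4 ∨
    cid c = 5 ∨ cid c = 6 := by decide +kernel

theorem rot_cid : ∀ v w : V9, cid (inl v) = cid (inl w) → ∃ k : Fin 4,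
    (rep8 3 * rep8 4) ^ k.1 * inl v * ((rep8 3 * rep8 4) ^ k.1)⁻¹ = inl w := by decide +kernel

theorem Eight.main [Finite G] {P : Sylow 3 G} {ι : W8 →* G} (h : Eight P ι) :
    (P : Subgroup G).Normal ∨ Nonempty (G ≃* Equiv.Perm (Fin 6)) := by
  obtain ⟨f, f1, f2, f3, f4⟩ := h.exists_hom
  have c : ∀ m, f (ι m) = f (ι (rep8 (cid m))) := fun m =>
    (isConj_iff_eq.1 ((f.comp ι).map_isConj (isConj_iff.2 (conj_rep m)))).symm
  have n1 : (-1 : ℂˣ) ≠ 1 := fun e => by have := congrArg Units.val e; norm_num at this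
  have le : (P : Subgroup G) ≤ f.ker := by
    rw [← h.rng]; rintro _ ⟨v, rfl⟩
    have : cid (inl v) = 0 ∨ cid (inl v) = 1 ∨ cid (inl v) = 2 := by revert v; decide
    refine (c (inl v)).trans ?_
    rcases this with e | e | e <;> rw [e]
    exacts [by simp [rep8], f1, f2]
  have f5 : f (ι (rep8 5)) = -1 := by
    rw [← f3, show rep8 3 = rep8 1 * rep8 5 by decide, map_mul, map_mul, f1, one_mul]
  have f6 : f (ι (rep8 6)) = -1 := by
    rw [← f4, show rep8 4 = rep8 2 * rep8 6 by decide, map_mul, map_mul, f2, one_mul]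
  have c9 : Nat.card P = 9 := by
    rw [← h.rng, ← Nat.card_congr ((ι.comp inl).ofInjective h.two.inj).toEquiv]; simp
  have hc : ∀ s ∈ (P : Subgroup G), s ≠ 1 → ∀ g ∈ f.ker, g * s = s * g → g ∈ (P : Subgroup G) := fun s hs s1 g hg e => by
    obtain ⟨m, rfl⟩ := h.ts.cent s hs s1 g e
    obtain ⟨v, rfl⟩ := h.rng ▸ hs
    rcases cent_cid v m (by rintro rfl; exact s1 (map_one _)) (h.inj (by simpa using e)) with ⟨w, rfl⟩ | e
    · exact h.mem w
    rw [MonoidHom.mem_ker, c] at hg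
    rcases e with e | e | e | e <;> rw [e] at hg
    exacts [(n1 (f3 ▸ hg)).elim, (n1 (f4 ▸ hg)).elim, (n1 (f5 ▸ hg)).elim, (n1 (f6 ▸ hg)).elim]
  rcases cc9 (P.subtype le) ((Nat.card_congr (subgroupOfEquivOfLe le).toEquiv).trans c9)
    (fun a ha => Subtype.ext (h.ts.cube a ha)) (fun s hs s1 => le_antisymm (fun (g : f.ker) hg => hc s hs (fun e => s1 (Subtype.ext e))
      g g.2 (congrArg Subtype.val (mem_centralizer_singleton_iff.1 hg))) fun (g : f.ker) hg =>
      mem_centralizer_singleton_iff.2 (Subtype.ext (h.ts.comm g hg s hs))) (a := ⟨_, le (h.mem (v9 1 0))⟩)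
    (b := ⟨_, le (h.mem (v9 1 1))⟩) (h.mem _) (h.mem _)
    (fun e => absurd (h.inj ((congrArg Subtype.val e).trans (map_one ι).symm)) (by decide))
    (fun e => absurd (h.inj ((congrArg Subtype.val e).trans (map_one ι).symm)) (by decide))
    (fun e => h.two.nc (f.ker.subtype.map_isConj e)) with k | ⟨⟨e⟩⟩
  · refine Or.inl ⟨fun j hj g => h.ts.syl _ ((h.ts.norm _).2 fun x hx => ?_) (by rw [conj_pow, h.ts.cube j hj]; simp)⟩
    exact k.conj_mem ⟨x, le hx⟩ hx ⟨_, f.normal_ker.conj_mem _ (le hj) g⟩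
  refine Or.inr ?_
  let ψ : G →* MulAut (alternatingGroup (Fin 6)) := (MulAut.congr e).toMonoidHom.comp MulAut.conjNormal
  have hψ : ∀ g x, ψ g x = e (MulAut.conjNormal g (e.symm x)) := fun _ _ => rfl
  have p : ∀ x : f.ker, x ^ 3 = 1 → ∃ (c : f.ker) (v : V9), c * x * (c : G)⁻¹ = ι (inl v) := fun x hx => by
    obtain ⟨Q, hQ⟩ := (IsPGroup.of_card_dvd_pow (p := 3) (G := zpowers x) (n := 1) (by
      rw [Nat.card_zpowers, pow_one]; exact orderOf_dvd_of_pow_eq_one hx)).exists_le_sylow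
    obtain ⟨c, e⟩ := MulAction.exists_smul_eq f.ker Q (P.subtype le)
    have : MulAut.conj c • x ∈ (P.subtype le : Subgroup f.ker) := e ▸ smul_mem_pointwise_smul _ _ _ (hQ (mem_zpowers x))
    obtain ⟨v, hv⟩ : ((MulAut.conj c • x : f.ker) : G) ∈ (ι.comp inl).range := h.rng ▸ this
    exact ⟨c, v, hv.symm⟩
  have r : ∀ g, ψ g ∈ (MulAut.conjNormal : Equiv.Perm (Fin 6) →* _).range := fun g => by
    refine H2.exists_conj_of_threeCycle (by simp) _ fun x hx => ?_
    have x3 : e.symm x ^ 3 = 1 := by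
      rw [← map_pow, show x ^ 3 = 1 from Subtype.ext (hx.orderOf ▸ pow_orderOf_eq_one x.1), map_one]
    obtain ⟨c1, v, h1⟩ := p _ x3
    obtain ⟨c2, w, h2⟩ := p (MulAut.conjNormal g (e.symm x)) (by rw [← map_pow, x3, map_one])
    have a : 1 ≤ cid (inl v) ∧ cid (inl v) ≤ 4 := by
      refine (by decide : ∀ v : V9, v ≠ 1 → 1 ≤ cid (inl v) ∧ cid (inl v) ≤ 4) v ?_
      rintro rfl
      rw [map_one, map_one, conj_eq_one_iff, OneMemClass.coe_eq_one, map_eq_one_iff _ e.symm.injective] at h1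
      exact hx.ne_one (congrArg Subtype.val h1)
    obtain ⟨k, hk⟩ := rot_cid v w ((h.conj_iff a.1 a.2 _).1 (h1 ▸ h2 ▸ isConj_iff.2 ⟨c2 * g * c1⁻¹, by simp [mul_assoc]⟩))
    have : IsConj (e.symm x) (MulAut.conjNormal g (e.symm x)) := isConj_iff.2 ⟨c2⁻¹ * ⟨ι (rep8 3 * rep8 4), by
      simp [f3, f4]⟩ ^ k.1 * c1, Subtype.ext (by
        have := congrArg ι hk
        simp only [map_mul, map_inv, map_pow, ← h1, ← h2] at this
        simp only [Subgroup.coe_mul, Subgroup.coe_inv, Subgroup.coe_pow, map_mul]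
        rw [← mul_right_inj (c2 : G), ← mul_left_inj (c2 : G)⁻¹, ← this]; group)⟩
    have := (alternatingGroup _).subtype.map_isConj (e.toMonoidHom.map_isConj this)
    rw [Equiv.Perm.isConj_iff_cycleType_eq] at this
    rw [hψ, Equiv.Perm.IsThreeCycle, ← hx.cycleType]
    simpa using this.symm
  have ci := H2.conjNormal_alt_injective (α := Fin 6) (by simp)
  let F := (MonoidHom.ofInjective ci).symm.toMonoidHom.comp (ψ.codRestrict _ r)
  have inj : Function.Injective F := (MonoidHom.ofInjective ci).symm.injective.comp ((ψ.injective_codRestrict _ r).2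
    ((injective_iff_map_eq_one _).2 fun g hg => by
      have k : ∀ x ∈ f.ker, g * x = x * g := fun x hx => mul_inv_eq_iff_eq_mul.1 (congrArg Subtype.val
        (e.injective (a₁ := MulAut.conjNormal g ⟨x, hx⟩) (a₂ := ⟨x, hx⟩)
          (by simpa [hψ] using DFunLike.congr_fun hg (e ⟨x, hx⟩))))
      obtain ⟨m, rfl⟩ := h.ts.cent _ (h.mem (v9 1 0)) ((map_ne_one_iff ι h.inj).2 (by decide)) g (k _ (le (h.mem _)))
      have a := h.inj ((map_mul ι _ _).trans ((k _ (le (h.mem (v9 1 0)))).trans (map_mul ι _ _).symm))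
      have b := h.inj ((map_mul ι _ _).trans ((k (ι (rep8 3 * rep8 4)) (by simp [f3, f4])).trans (map_mul ι _ _).symm))
      rw [(by decide +kernel : ∀ m : W8, m * inl (v9 1 0) = inl (v9 1 0) * m → m * (rep8 3 * rep8 4) =
        rep8 3 * rep8 4 * m → m * (rep8 5 * rep8 6) = rep8 5 * rep8 6 * m → m = 1) m a b
        (h.inj ((map_mul ι _ _).trans ((k (ι (rep8 5 * rep8 6)) (by simp [f5, f6])).trans (map_mul ι _ _).symm))), map_one]))
  refine ⟨MulEquiv.ofBijective F ((Nat.bijective_iff_injective_and_card F).2 ⟨inj, ?_⟩)⟩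
  have a := Nat.card_le_card_of_injective F inj
  have b := f.ker.card_mul_index
  have : f.ker.index ≠ 1 := fun e => n1 (f3.symm.trans ((index_eq_one.1 e).ge (mem_top _)))
  have := f.ker.index_ne_zero_of_finite
  have d := Nat.card_congr e.toEquiv
  have := two_mul_nat_card_alternatingGroup (α := Fin 6)
  nlinarith [show 2 ≤ f.ker.index by omega]

def e9 (a b v : V9) : V9 := a ^ v.toAdd.1.val * b ^ v.toAdd.2.val

set_option synthInstance.maxSize 5000 in
set_option synthInstance.maxHeartbeats 400000 in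
theorem d8_coord : ∀ a b c d : V9, e9 a b a = v9 1 0 → e9 a b b = v9 0 1 → e9 c d c = v9 1 0 → e9 c d d = v9 0 1 →
    (∀ v, e9 a b (e9 c d (e9 a b (e9 c d v))) = e9 c d (e9 a b (e9 c d (e9 a b v)))) → (∀ v, e9 a b (e9 c d v) =
      e9 c d (e9 a b v)) ∨ ∃ v, v ≠ 1 ∧ e9 a b v = v ∧ e9 a b (e9 c d v) = (e9 c d v)⁻¹ := by decide +kernel

theorem d8_main [Finite G] (P : Sylow 3 G) (c9 : Nat.card P = 9) (hC : centralizer (P : Set G) = P)
    (hc : ∀ x ∈ P, x ≠ 1 → centralizer {x} ≤ normalizer (P : Set G)) (c72 : Nat.card (normalizer (P : Set G)) = 72)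
    (f : DihedralGroup 4 →* normalizer (P : Set G)) (inj : Function.Injective f) :
    (P : Subgroup G).Normal ∨ Nonempty (G ≃* Equiv.Perm (Fin 6)) := by
  have cm : ∀ a ∈ P, ∀ b ∈ P, a * b = b * a := fun a ha b hb => (hC.ge hb) a ha
  let A : DihedralGroup 4 →* MulAut P := (P : Subgroup G).normalizerMonoidHom.comp f
  have hA : ∀ g x, (A g x : G) = f g * x * (f g : G)⁻¹ := fun _ _ => rfl
  have nc : ¬ ∀ x, A (sr 0) (A (sr 1) x) = A (sr 1) (A (sr 0) x) := fun k => by
    have : (f (r 2) : G) ∈ (P : Subgroup G) := hC.le fun x hx => by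
      refine (mul_inv_eq_iff_eq_mul.1 ((hA _ ⟨x, hx⟩).symm.trans (congrArg Subtype.val (?_ : _ = ⟨x, hx⟩)))).symm
      rw [show r 2 = (sr 0 * sr 1) * (sr 1 * sr 0 : DihedralGroup 4)⁻¹ by decide, map_mul, map_inv, map_mul, map_mul,
        show A (sr 0) * A (sr 1) = A (sr 1) * A (sr 0) from MulEquiv.ext k, mul_inv_cancel]; rfl
    have := c9 ▸ orderOf_dvd_natCard (⟨_, this⟩ : (P : Subgroup G))
    rw [orderOf_mk, orderOf_coe, orderOf_injective f inj, orderOf_eq_prime (p := 2) (by decide) (by decide)] at this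
    omega
  have h3 : ∀ a ∈ P, a ^ 3 = 1 := fun a ha => by
    by_contra n
    have : IsCyclic P := isCyclic_of_orderOf_eq_card ⟨a, ha⟩ (by
      rw [c9]; exact orderOf_eq_prime_pow (p := 3) (n := 1) (fun e => n (by simpa using congrArg Subtype.val e))
        (by rw [show 3 ^ (1 + 1) = 9 by rfl, ← c9, pow_card_eq_one']))
    refine nc fun x => ?_
    obtain ⟨m, hm⟩ := (A (sr 0)).toMonoidHom.map_cyclic
    obtain ⟨n, hn⟩ := (A (sr 1)).toMonoidHom.map_cyclic
    simp only [MulEquiv.coe_toMonoidHom] at hm hn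
    rw [hm, hn, hn, hm, ← zpow_mul, ← zpow_mul, mul_comm]
  have ts := ts_sylow P h3 cm hc
  have co : ∀ x y : (P : Subgroup G), x ≠ 1 → y ≠ 1 → y ≠ x → y ≠ x⁻¹ → ∃ e : V9 ≃* P, e (v9 1 0) = x ∧ e (v9 0 1) = y :=
    fun x y x1 y1 a b => by
    obtain ⟨ι, i, k⟩ := exists_pv (x := x) (y := y) (Subtype.ext (h3 _ x.2)) (Subtype.ext (h3 _ y.2))
      (Subtype.ext (cm _ x.2 _ y.2)) x1 y1 a b
    exact ⟨MulEquiv.ofBijective ι ((Nat.bijective_iff_injective_and_card ι).2 ⟨i, by simp [c9]⟩), k⟩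
  obtain ⟨e, -⟩ : ∃ e : V9 ≃* P, True := by
    classical
    have := Fintype.ofFinite P
    have : Nontrivial P := Finite.one_lt_card_iff_nontrivial.1 (by omega)
    obtain ⟨x, x1⟩ := exists_ne (1 : (P : Subgroup G))
    obtain ⟨y, -, hy⟩ := exists_mem_notMem_of_card_lt_card (s := {1, x, x⁻¹}) (t := univ)
      (by rw [card_univ, ← Nat.card_eq_fintype_card, c9]; exact card_le_three.trans_lt (by norm_num))
    simp only [mem_insert, mem_singleton, not_or] at hy
    exact (co x y x1 hy.1 hy.2.1 hy.2.2).imp fun _ _ => trivial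
  let B : DihedralGroup 4 →* MulAut V9 := (MulAut.congr e.symm).toMonoidHom.comp A
  have hB : ∀ g v, e (B g v) = A g (e v) := fun g v => by simp [B]
  have b1 : ∀ g v, e9 (B g (v9 1 0)) (B g (v9 0 1)) v = B g v := fun g v => by
    rw [e9, ← map_pow, ← map_pow, ← map_mul]; congr 1; revert v; decide
  have b2 : ∀ g h v, B g (B h v) = B (g * h) v := fun g h v => by simp
  have := d8_coord (B (sr 0) (v9 1 0)) (B (sr 0) (v9 0 1)) (B (sr 1) (v9 1 0)) (B (sr 1) (v9 0 1))
  simp only [b1] at this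
  obtain ⟨v, v1, h1, h2⟩ := (this (by simp [b2]) (by simp [b2]) (by simp [b2]) (by simp [b2])
    fun v => by simp only [b2]; rfl).resolve_left fun k => nc fun x => by
      obtain ⟨v, rfl⟩ := e.surjective x
      simp only [← hB, k]
  have i3 : ∀ v : V9, v = v⁻¹ → v = 1 := by decide
  obtain ⟨j, j1, j2⟩ := co (e v) (e (B (sr 1) v)) (by simpa using v1) (by simpa using v1)
    (fun k => v1 (i3 v (by rw [e.injective k, h1] at h2; exact h2)))
    fun k => v1 (i3 v (by rw [← map_inv] at k; rw [e.injective k, map_inv, h1, inv_inv] at h2; exact h2.symm))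
  let F := (normalizer (P : Set G)).subtype.comp f
  let J := (P : Subgroup G).subtype.comp j.toMonoidHom
  have k : ∀ g, j.toMonoidHom.comp (φ8 g).toMonoidHom = (A g).toMonoidHom.comp j.toMonoidHom := by
    have k0 : j.toMonoidHom.comp (φ8 (sr 0)).toMonoidHom = (A (sr 0)).toMonoidHom.comp j.toMonoidHom := hom_ext
      (by change j (v9 1 0) = A _ (j _); rw [j1, ← hB, h1])
      (by change j (v9 0 1)⁻¹ = A _ (j _); rw [map_inv, j2, ← hB, h2, map_inv])
    have k1 : j.toMonoidHom.comp (φ8 (sr 1)).toMonoidHom = (A (sr 1)).toMonoidHom.comp j.toMonoidHom := hom_ext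
      (by change j (v9 0 1) = A _ (j _); rw [j1, j2, hB])
      (by change j (v9 1 0) = A _ (j _); rw [j1, j2, ← hB, b2]; simp)
    have km : ∀ g h, j.toMonoidHom.comp (φ8 g).toMonoidHom = (A g).toMonoidHom.comp j.toMonoidHom →
        j.toMonoidHom.comp (φ8 h).toMonoidHom = (A h).toMonoidHom.comp j.toMonoidHom →
        j.toMonoidHom.comp (φ8 (g * h)).toMonoidHom = (A (g * h)).toMonoidHom.comp j.toMonoidHom := fun g h a b =>
      MonoidHom.ext fun v => by
        have a := DFunLike.congr_fun a (φ8 h v)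
        have b := DFunLike.congr_fun b v
        simp only [MonoidHom.comp_apply, MulEquiv.coe_toMonoidHom, map_mul, MulAut.mul_apply] at a b ⊢
        rw [a, b]
    have k2 := km _ _ k0 k1
    have k3 := km _ _ k2 k2
    have k4 := km _ _ k3 k2
    rintro (i | i) <;> fin_cases i
    exacts [km _ _ k0 k0, k2, k3, k4, k0, k1, km _ _ k0 k3, km _ _ k0 k4]
  let ι : W8 →* G := SemidirectProduct.lift J F fun g => MonoidHom.ext fun v =>
    congrArg Subtype.val (DFunLike.congr_fun (k g) v)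
  have i : Function.Injective ι := (injective_iff_map_eq_one _).2 fun ⟨v, g⟩ hm => by
    have e1 : (f g : G) = (j v⁻¹ : P) := by rw [map_inv]; exact eq_inv_of_mul_eq_one_right hm
    have o1 := c9 ▸ orderOf_dvd_natCard (j v⁻¹)
    have o2 := orderOf_dvd_natCard g
    rw [← orderOf_coe, ← e1, orderOf_coe, orderOf_injective f inj] at o1
    obtain rfl : g = 1 := orderOf_eq_one_iff.1 (Nat.eq_one_of_dvd_coprimes (by rw [DihedralGroup.nat_card]; decide) o1 o2)
    rw [map_one, eq_comm, OneMemClass.coe_one, OneMemClass.coe_eq_one, map_eq_one_iff _ j.injective, inv_eq_one] at e1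
    rw [e1]; rfl
  have r : ι.range = normalizer (P : Set G) := eq_of_le_of_card_ge (by
    rintro _ ⟨m, rfl⟩; exact mul_mem (ts.le (j m.left).2) (f m.right).2) (by
    rw [← Nat.card_congr (ι.ofInjective i).toEquiv, c72, Nat.card_congr SemidirectProduct.equivProd, Nat.card_prod,
      DihedralGroup.nat_card]; simp)
  refine Eight.main (ι := ι) ⟨i, r ▸ ts, ?_⟩
  rw [SemidirectProduct.lift_comp_inl, MonoidHom.range_comp, MonoidHom.range_eq_top.2 j.surjective,
    ← MonoidHom.range_eq_map, range_subtype]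

end H6
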